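import Groth.Agent.CubeConsLib.Transpose
import Groth.Agent.KFlatLib.PullTensor
import Groth.Prelude.Def_AgPol

/-!
The dual is stable under base change.
-/

set_option autoImplicit false
set_option maxHeartbeats 1000000
set_option maxRecDepth 8000
set_option backward.isDefEq.respectTransparency false
set_option linter.style.haveILetI false

noncomputable section

universe u

open CategoryTheory CategoryTheory.Limits MonoidalCategory CartesianMonoidalCategory MonObj AlgebraicGeometry
open CubeConsLib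

namespace AVIndexLib

variable {S S' : Scheme.{u}} (t : S' ⟶ S)

/-- A scheme over the new base, over the old one. -/
abbrev dn (U : Over S') : Over S := Over.mk (U.hom ≫ t)

/-- A morphism over the new base, over the old one. -/
abbrev dnMap {U V : Over S'} (g : U ⟶ V) : dn t U ⟶ dn t V :=
  Over.homMk g.left (by simp [reassoc_of% (Over.w g)])

variable {X : Over S}

/-- A point of the base change as a point. -/
def toDn {U : Over S'} (g : U ⟶ Red.bc t X) : dn t U ⟶ X :=
  Over.homMk (g.left ≫ pullback.fst X.hom t) (by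
    rw [Category.assoc, pullback.condition, ← Category.assoc]
    exact congrArg (· ≫ t) (Over.w g))

theorem toDn_left {U : Over S'} (g : U ⟶ Red.bc t X) : (toDn t g).left = g.left ≫ pullback.fst X.hom t := rfl

theorem toDn_injective {U : Over S'} {g h : U ⟶ Red.bc t X} (e : toDn t g = toDn t h) : g = h := by
  ext1
  refine pullback.hom_ext (congrArg Over.Hom.left e) ?_
  exact (Over.w g).trans (Over.w h).symm

theorem toDn_comp {U V : Over S'} (g : U ⟶ V) (h : V ⟶ Red.bc t X) : toDn t (g ≫ h) = dnMap t g ≫ toDn t h := by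
  ext1
  simp [toDn]

/-- The tautological point of the base change. -/
def diagBc (U : Over S') : U ⟶ Red.bc t (dn t U) :=
  Over.homMk (pullback.lift (𝟙 _) U.hom (Category.id_comp _)) (pullback.lift_snd _ _ _)

theorem toDn_diag_map {U : Over S'} (a : dn t U ⟶ X) : toDn t (diagBc t U ≫ (Over.pullback t).map a) = a := by
  ext1
  simp only [toDn_left, Over.comp_left, Category.assoc]
  erw [pullback.lift_fst]
  rw [← Category.assoc]
  erw [pullback.lift_fst]
  exact Category.id_comp _

theorem diag_map_toDn {U : Over S'} (g : U ⟶ Red.bc t X) : diagBc t U ≫ (Over.pullback t).map (toDn t g) = g :=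
  toDn_injective t (toDn_diag_map t _)

theorem toDn_mul [GrpObj X] {U : Over S'} (g h : U ⟶ Red.bc t X) : toDn t (g * h) = toDn t g * toDn t h := by
  conv_lhs => rw [← diag_map_toDn t g, ← diag_map_toDn t h]
  rw [← MonObj.comp_mul]
  exact (congrArg (fun f => toDn t (diagBc t U ≫ f))
    (Functor.map_mul (F := Over.pullback t) (toDn t g) (toDn t h)).symm).trans (toDn_diag_map t _)

variable {A At : Over S}

theorem inv_bcXTIso_snd (U : Over S') :
    (AgPol.bcXTIso t A U).inv ≫ PicF.XTproj (Red.bc t A).hom U = PicF.XTproj A.hom (dn t U) :=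
  pullbackLeftPullbackSndIso_inv_snd_snd _ _ _

theorem hom_bcXTIso_snd (U : Over S') :
    (AgPol.bcXTIso t A U).hom ≫ PicF.XTproj A.hom (dn t U) = PicF.XTproj (Red.bc t A).hom U :=
  pullbackLeftPullbackSndIso_hom_snd _ _ _

theorem inv_bcXTIso_natural {U V : Over S'} (g : U ⟶ V) :
    (AgPol.bcXTIso t A U).inv ≫ PicF.XTmap (Red.bc t A).hom g =
      PicF.XTmap A.hom (dnMap t g) ≫ (AgPol.bcXTIso t A V).inv := by
  rw [Iso.eq_comp_inv, Category.assoc, Iso.inv_comp_eq]
  apply pullback.hom_ext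
  · rw [Category.assoc, Category.assoc, XTmap_fst]
    refine (congrArg (PicF.XTmap (Red.bc t A).hom g ≫ ·) (pullbackLeftPullbackSndIso_hom_fst _ _ _)).trans ?_
    refine (Category.assoc _ _ _).symm.trans ((congrArg (· ≫ _) (XTmap_fst _ g)).trans ?_)
    exact (pullbackLeftPullbackSndIso_hom_fst _ _ _).symm
  · rw [Category.assoc, Category.assoc, XTmap_snd]
    refine (congrArg (PicF.XTmap (Red.bc t A).hom g ≫ ·) (hom_bcXTIso_snd t V)).trans ?_
    refine (XTmap_snd _ g).trans ?_
    exact (congrArg (· ≫ g.left) (hom_bcXTIso_snd t U)).symm.trans (Category.assoc _ _ _)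

theorem isPicZeroCl_inv {U : Over S'} {c : PicF.Cl (PicF.XT (Red.bc t A).hom U)}
    (hc : AbDual.IsPicZeroCl (Red.bc t A).hom U c) :
    AbDual.IsPicZeroCl A.hom (dn t U) (PicF.pullCl (AgPol.bcXTIso t A U).inv c) := by
  obtain ⟨L, rfl, hL, hLa⟩ := hc
  exact ⟨_, rfl, AmpleDevLib.isInvertible_pb _ hL, fun z => isAlgTrivialAt_pullback _ _ _ (𝟙 _)
    ((inv_bcXTIso_snd t U).trans (Category.comp_id _).symm) z (hLa z)⟩

theorem isPicZeroCl_hom {U : Over S'} {c : PicF.Cl (PicF.XT A.hom (dn t U))}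
    (hc : AbDual.IsPicZeroCl A.hom (dn t U) c) :
    AbDual.IsPicZeroCl (Red.bc t A).hom U (PicF.pullCl (AgPol.bcXTIso t A U).hom c) := by
  obtain ⟨L, rfl, hL, hLa⟩ := hc
  exact ⟨_, rfl, AmpleDevLib.isInvertible_pb _ hL, fun z => isAlgTrivialAt_pullback _ _ _ (𝟙 _)
    ((hom_bcXTIso_snd t U).trans (Category.comp_id _).symm) z (hLa z)⟩

theorem toDn_bcDual (φ : AgPol.DualMap A At) (U : Over S') (c : PicF.Cl (PicF.XT (Red.bc t A).hom U)) :
    toDn t (AgPol.bcDual t A At φ U c) = φ (dn t U) (PicF.pullCl (AgPol.bcXTIso t A U).inv c) := by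
  ext1
  exact pullback.lift_fst _ _ _

variable [GrpObj At] {φ : AgPol.DualMap A At} (hA : AbDual.IsDualAV Scheme.fppfPrecoverage A At φ)

include hA in
/-- The base change of a dual is a dual. -/
theorem isDualAV_bcDual :
    AbDual.IsDualAV Scheme.fppfPrecoverage (Red.bc t A) (Red.bc t At) (AgPol.bcDual t A At φ) := by
  refine ⟨⟨fun T T' g c hc => toDn_injective t ?_, fun T g => ?_, fun T c c' hc hc' e => ?_⟩, fun T L M hL hM => toDn_injective t ?_⟩
  · rw [toDn_comp, toDn_bcDual, toDn_bcDual, pullCl_pullCl, inv_bcXTIso_natural t g, ← pullCl_pullCl]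
    exact hA.relPic.natural _ _ (dnMap t g) _ (isPicZeroCl_inv t hc)
  · obtain ⟨R, hR, h⟩ := hA.relPic.locallySurjective (dn t T) (toDn t g)
    refine ⟨R, hR, fun U u hu => ?_⟩
    obtain ⟨c, hc, e⟩ := h u hu
    let j : dn t (AbDual.ovr T u) ⟶ AbDual.ovr (dn t T) u :=
      Over.homMk (𝟙 U) ((Category.id_comp _).trans (Category.assoc _ _ _).symm)
    have hc' := isPicZeroCl_XTmap j hc
    refine ⟨_, isPicZeroCl_hom t hc', toDn_injective t ?_⟩
    rw [toDn_bcDual, pullCl_pullCl, Iso.inv_hom_id, pullCl_id, hA.relPic.natural _ _ j c hc, e, toDn_comp,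
      ← Category.assoc]
    congr 1
  · have e' := congrArg (toDn t) e
    rw [toDn_bcDual, toDn_bcDual] at e'
    obtain ⟨R, hR, h⟩ := hA.relPic.locallyInjective _ _ _ (isPicZeroCl_inv t hc) (isPicZeroCl_inv t hc') e'
    refine ⟨R, hR, fun U u hu => ?_⟩
    let j : dn t (AbDual.ovr T u) ⟶ AbDual.ovr (dn t T) u :=
      Over.homMk (𝟙 U) ((Category.id_comp _).trans (Category.assoc _ _ _).symm)
    have key : PicF.XTmap (Red.bc t A).hom (AbDual.ovrHom T u) =
        ((AgPol.bcXTIso t A _).hom ≫ PicF.XTmap A.hom j) ≫ PicF.XTmap A.hom (AbDual.ovrHom (dn t T) u) ≫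
          (AgPol.bcXTIso t A T).inv := by
      rw [Category.assoc, ← Category.assoc (PicF.XTmap A.hom j)]
      rw [show PicF.XTmap A.hom j ≫ PicF.XTmap A.hom (AbDual.ovrHom (dn t T) u) =
        PicF.XTmap A.hom (dnMap t (AbDual.ovrHom T u)) from ?_]
      · rw [← inv_bcXTIso_natural, Iso.hom_inv_id_assoc]
      · apply pullback.hom_ext
        · rw [Category.assoc, XTmap_fst, XTmap_fst, XTmap_fst]
        · rw [Category.assoc, XTmap_snd, ← Category.assoc, XTmap_snd, XTmap_snd, Category.assoc]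
          simp [j, AbDual.ovrHom]
    rw [key]
    simp only [← pullCl_pullCl]
    rw [h u hu]
  · rw [toDn_mul, toDn_bcDual, toDn_bcDual, toDn_bcDual]
    let i := (AgPol.bcXTIso t A T).inv
    have ei : PicF.pullCl i (PicF.cl (CohB1.tensorMod L M)) =
        PicF.cl (CohB1.tensorMod ((Scheme.Modules.pullback i).obj L) ((Scheme.Modules.pullback i).obj M)) :=
      Quot.sound ⟨@asIso _ _ _ _ _ (KFlatLib.isIso_pullθ i L M)⟩
    rw [ei]
    exact hA.mul _ _ _ (isPicZeroCl_inv t hL) (isPicZeroCl_inv t hM)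

end AVIndexLib

end
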