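import Groth.Agent.AVIndexLib.TopDim
import Groth.Agent.AVIndexLib.DualBC
import Groth.Agent.AVVanishLib.PhiSurj
import Groth.Agent.AVVanishLib.AlgZero
import Groth.Agent.H0Lib.Group
import Groth.Agent.GrpHomLib.Field
import Groth.Agent.AVAmpleLib.DegDet
import Groth.Agent.CubeConsLib.Torsion
import Groth.Agent.CubeConsLib.Poincare

/-!
The map of an ample class to the dual is an isogeny.
-/

set_option autoImplicit false
set_option maxHeartbeats 1000000
set_option maxRecDepth 8000
set_option backward.isDefEq.respectTransparency false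
set_option linter.style.haveILetI false
set_option linter.unusedSectionVars false

noncomputable section

universe u

open CategoryTheory CategoryTheory.Limits MonoidalCategory CartesianMonoidalCategory MonObj AlgebraicGeometry
open TopologicalSpace
open CubeConsLib AVVanishLib AVAmpleLib

namespace AVIndexLib

variable {k : Type u} [Field k]

theorem geometricallyConnected_of_integral {X S : Scheme.{u}} (f : X ⟶ S) [GeometricallyIntegral f] :
    GeometricallyConnected f := by
  refine ⟨fun K _ y Z g p sq => ?_⟩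
  haveI := GeometricallyIrreducible.geometrically_irreducibleSpace (f := f) y g p sq
  infer_instance

/-- A proper homomorphism with finitely many points over the unit is finite. -/
theorem isFinite_of_finite_kernel {X Y : Over (Spec (CommRingCat.of k))} [GrpObj X] [GrpObj Y] [IsProper X.hom]
    [IsProper Y.hom] (u : X ⟶ Y) [IsMonHom u]
    (h : (u.left ⁻¹' {(η[Y] : 𝟙_ (Over (Spec (CommRingCat.of k))) ⟶ Y).left (IsLocalRing.closedPoint k)}).Finite) :
    IsFinite u.left := by
  haveI : IsProper u.left := by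
    haveI : IsProper (u.left ≫ Y.hom) := by rw [Over.w u]; infer_instance
    exact IsProper.of_comp u.left Y.hom
  let o := (η[X] : 𝟙_ (Over (Spec (CommRingCat.of k))) ⟶ X).left (IsLocalRing.closedPoint k)
  have ho : u.left o = (η[Y] : 𝟙_ (Over (Spec (CommRingCat.of k))) ⟶ Y).left (IsLocalRing.closedPoint k) := by
    change ((η[X] ≫ u : 𝟙_ (Over (Spec (CommRingCat.of k))) ⟶ Y).left) (IsLocalRing.closedPoint k) = _
    rw [IsMonHom.one_hom]
  have hq : u.left.QuasiFiniteAt o := by
    haveI : Finite (u.left ⁻¹' {u.left o}) := by rw [ho]; exact h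
    haveI : Finite (u.left.fiber (u.left o)) := (u.left.fiberHomeo (u.left o)).finite_iff.mpr ‹_›
    exact Scheme.Hom.quasiFiniteAt_iff_isOpen_singleton_asFiber.mpr (isOpen_discrete _)
  haveI := Groth.Agent.GrpHom.lqf_of_quasiFiniteAt u o hq
  exact Groth.Agent.GrpHom.isFinite_of_lqf u

variable {A At : Over (Spec (CommRingCat.of k))} [GrpObj A] [IsProper A.hom] [GeometricallyIntegral A.hom]

section Kernel

variable {L : A.left.Modules} (hL : PicF.IsInvertible L)

theorem mumfordZero_iff_lam {V : Over (Spec (CommRingCat.of k))} (z : V ⟶ A) :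
    MumfordZero hL z ↔ lam hL (fst A V) (snd A V ≫ z) = 0 := by
  rw [MumfordZero, lam, sub_sub, sub_eq_zero]

include hL in
/-- Only finitely many points have translations fixing an ample class. -/
theorem finite_setOf_lam (hLa : CohB1.IsAmple L) (S : Set A.left)
    (h : ∀ y ∈ S, lam hL (fst A (AbDual.ovr A (A.left.fromSpecResidueField y)))
      (snd A _ ≫ AbDual.ovrHom A (A.left.fromSpecResidueField y)) = 0) : S.Finite := by
  obtain ⟨K, i, hi, hzero, huniv⟩ := AVAmpleLib.exists_KL_noeth hL
  haveI : IsFinite K.hom := AVAmpleLib.isFinite_of_mumfordTriv hL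
    ((MiscFlat6.isRelAmple_iff_isAmple A.hom L).2 hLa) i ((mumfordTriv_iff hL i).2 hzero)
  haveI hfin : Finite K.left := by
    have h1 := K.hom.finite_preimage_singleton (IsLocalRing.closedPoint k)
    have h2 : ⇑K.hom ⁻¹' {IsLocalRing.closedPoint k} = Set.univ :=
      Set.eq_univ_of_forall fun x => Subsingleton.elim (α := PrimeSpectrum k) _ _
    exact Set.finite_univ_iff.1 ((congrArg Set.Finite h2).mp h1)
  refine (Set.finite_range i.left).subset fun y hy => ?_
  obtain ⟨w, hw⟩ := huniv _ (inferInstanceAs (IsLocallyNoetherian (Spec (A.left.residueField y))))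
    (AbDual.ovrHom A (A.left.fromSpecResidueField y)) ((mumfordZero_iff_lam hL _).2 (h y hy))
  refine ⟨w.left (IsLocalRing.closedPoint (A.left.residueField y)), ?_⟩
  rw [← Scheme.Hom.comp_apply, ← Over.comp_left, hw]
  exact A.left.fromSpecResidueField_apply y _

end Kernel

variable [GrpObj At] [IsProper At.hom]
  {φ : AgPol.DualMap A At} (hA : AbDual.IsDualAV Scheme.fppfPrecoverage A At φ)

include hA in
/-- The map of a family trivial over the unit is a homomorphism. -/
theorem isMonHom_of_family {T : Over (Spec (CommRingCat.of k))} [GrpObj T] [IsProper T.hom] [GeometricallyIntegral T.hom]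
    {Λ : (PicF.XT A.hom T).Modules} (hΛ : PicF.IsInvertible Λ) (hΛ0 : AbDual.IsPicZeroCl A.hom T (PicF.cl Λ))
    (h : pullA (PicF.XTmap A.hom η[T]) (clA hΛ) = 0) : IsMonHom (φ T (PicF.cl Λ)) := by
  haveI : LocallyOfFinitePresentation T.hom := LocallyOfFinitePresentation.iff_locallyOfFiniteType.2 inferInstance
  haveI := geometricallyConnected_of_integral T.hom
  refine H0Lib.isMonHom_of_one_comp _ ?_
  rw [← hA.relPic.natural _ _ η[T] _ hΛ0]
  refine Eq.trans ?_ ((phi_structure hA _).trans ?_)
  · rw [pullA_clA _ hΛ, ← clA_one, clA_eq_iff] at h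
    exact congrArg _ (Quot.sound h)
  · rw [Hom.one_def, toUnit_unique (toUnit _) (𝟙 _), Category.id_comp]

include hA in
/-- A point over the unit trivializes the family on its fibre. -/
theorem pullA_eq_zero_of_apply {T : Over (Spec (CommRingCat.of k))} [LocallyOfFiniteType T.hom]
    {Λ : (PicF.XT A.hom T).Modules} (hΛ : PicF.IsInvertible Λ) (hΛ0 : AbDual.IsPicZeroCl A.hom T (PicF.cl Λ))
    (y : T.left) (hy : (φ T (PicF.cl Λ)).left y =
      (η[At] : 𝟙_ (Over (Spec (CommRingCat.of k))) ⟶ At).left (IsLocalRing.closedPoint k)) :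
    pullA (PicF.XTmap A.hom (AbDual.ovrHom T (T.left.fromSpecResidueField y))) (clA hΛ) = 0 := by
  let ψ := φ T (PicF.cl Λ)
  let v := T.left.fromSpecResidueField y
  have hv : AbDual.ovrHom T v ≫ ψ = 1 := by
    refine (ovrHom_comp_eq_one_iff_left ψ v).2 ?_
    refine (eq_eta_of_apply (B := At) (v ≫ ψ.left) ⟨IsLocalRing.closedPoint k, ?_⟩).trans ?_
    · rw [Scheme.Hom.comp_apply]
      exact (hy.symm.trans (congrArg ψ.left (T.left.fromSpecResidueField_apply y _).symm) :)
    · rw [Category.assoc v ψ.left, Over.w ψ]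
  let C : Type u := IsLocalRing.ResidueField (T.left.presheaf.stalk y)
  have htm : testMap y C = v := rfl
  haveI : IsLocalHom (algebraMap (T.left.presheaf.stalk y) C) :=
    IsLocalHom.of_surjective _ Ideal.Quotient.mk_surjective
  have hv' : AbDual.ovrHom T (testMap y C) ≫ ψ = 1 :=
    (ovrHom_comp_eq_one_iff_left ψ _).2 (htm.symm ▸ (ovrHom_comp_eq_one_iff_left ψ v).1 hv)
  have htriv : TrivOver (PicF.XTproj A.hom T) Λ (testMap y C) :=
    trivial_of_factor hA hΛ hΛ0 hΛ (isInvertible_one T.left) (by rw [clA_one, map_zero, add_zero]) y C hv'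
  rw [htm] at htriv
  exact (pullA_XTmap_eq_zero_iff hΛ v).2 ((trivOver_iff_pullA hΛ v).1 htriv)

section Phi

variable {L : A.left.Modules} (hL : PicF.IsInvertible L) {Λ : (PicF.XT A.hom A).Modules} (hΛ : PicF.IsInvertible Λ)
  (cΛ : (clA hΛ : PicA (A ⊗ A).left) = lam hL (fst A A) (snd A A))

include cΛ

theorem pullA_XTmap_mumford {V : Over (Spec (CommRingCat.of k))} (z : V ⟶ A) :
    pullA (PicF.XTmap A.hom z) (clA hΛ) = (lam hL (fst A V) (snd A V ≫ z) : PicA (A ⊗ V).left) := by
  have e : PicF.XTmap A.hom z = (lift (fst A V) (snd A V ≫ z)).left := by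
    apply Limits.pullback.hom_ext
    · exact (XTmap_fst A.hom z).trans (congrArg Over.Hom.left (lift_fst (fst A V) (snd A V ≫ z))).symm
    · exact (XTmap_snd A.hom z).trans (congrArg Over.Hom.left (lift_snd (fst A V) (snd A V ≫ z))).symm
  rw [e]
  show pullA (lift (fst A V) (snd A V ≫ z)).left (clA hΛ : PicA (A ⊗ A).left) = _
  rw [cΛ, pullA_lam, lift_fst, lift_snd]

include hA

theorem isMonHom_phiL : IsMonHom (φ A (PicF.cl Λ)) := by
  haveI : IsCommMonObj A := isCommMonObj_field
  refine isMonHom_of_family hA hΛ (isPicZeroCl_mumford hL cΛ) ?_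
  rw [pullA_XTmap_mumford hL hΛ cΛ, toUnit_unique (snd A (𝟙_ _)) (toUnit _), ← Hom.one_def, lam_comm, lam_one_left]

theorem isFinite_phiL (hLa : CohB1.IsAmple L) : IsFinite (φ A (PicF.cl Λ)).left := by
  haveI := isMonHom_phiL hA hL hΛ cΛ
  refine isFinite_of_finite_kernel _ (finite_setOf_lam hL hLa _ fun y hy => ?_)
  rw [← pullA_XTmap_mumford hL hΛ cΛ]
  exact pullA_eq_zero_of_apply hA hΛ (isPicZeroCl_mumford hL cΛ) y hy

theorem surjective_phiL_closed [IsAlgClosed k] (hLa : CohB1.IsAmple L) : Surjective (φ A (PicF.cl Λ)).left := by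
  haveI : IsCommMonObj A := isCommMonObj_field
  have hΛ0 := isPicZeroCl_mumford hL cΛ
  let ψ := φ A (PicF.cl Λ)
  haveI := isFinite_phiL hA hL hΛ cΛ hLa
  haveI : JacobsonSpace At.left := LocallyOfFiniteType.jacobsonSpace At.hom
  suffices h : closedPoints At.left ⊆ Set.range ψ.left by
    constructor
    intro z
    have := closure_minimal h ψ.left.isClosedMap.isClosed_range
    rw [closure_closedPoints] at this
    exact this (Set.mem_univ z)
  intro z hz
  let x : 𝟙_ (Over (Spec (CommRingCat.of k))) ⟶ At :=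
    Over.homMk (pointOfClosedPoint At.hom z hz) (pointOfClosedPoint_comp At.hom z hz)
  obtain ⟨R, hR, hRc⟩ := hA.relPic.locallySurjective (𝟙_ _) x
  obtain ⟨U, v, x₀, hv, -⟩ := exists_mem_fppf hR (IsLocalRing.closedPoint k)
  obtain ⟨c, hc, ec⟩ := hRc v hv
  -- a rational point of the member of the cover
  haveI : LocallyOfFinitePresentation v := (hR.2 hv).2
  let v' : U ⟶ Spec (CommRingCat.of k) := v
  haveI : LocallyOfFiniteType v' := inferInstanceAs (LocallyOfFiniteType v)
  haveI : JacobsonSpace U := LocallyOfFiniteType.jacobsonSpace v'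
  obtain ⟨z₀, -, hz₀⟩ := nonempty_inter_closedPoints (Z := (Set.univ : Set U)) ⟨x₀, trivial⟩
    isClosed_univ.isLocallyClosed
  let h : 𝟙_ (Over (Spec (CommRingCat.of k))) ⟶ AbDual.ovr (𝟙_ _) v :=
    Over.homMk (pointOfClosedPoint v' z₀ hz₀) (by
      change pointOfClosedPoint v' z₀ hz₀ ≫ v' ≫ 𝟙 _ = 𝟙 _
      rw [Category.comp_id, pointOfClosedPoint_comp])
  have hh : h ≫ AbDual.ovrHom (𝟙_ _) v = 𝟙 _ := toUnit_unique _ _
  have ec' : φ _ (PicF.pullCl (PicF.XTmap A.hom h) c) = x := by
    rw [hA.relPic.natural _ _ h c hc, ec, ← Category.assoc, hh, Category.id_comp]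
  obtain ⟨M, hM₀, hM, hMa⟩ := isPicZeroCl_XTmap h hc
  rw [← hM₀] at ec'
  let q := PicF.XTproj A.hom (𝟙_ (Over (Spec (CommRingCat.of k))))
  let pr := Limits.pullback.fst A.hom (𝟙_ (Over (Spec (CommRingCat.of k)))).hom
  let j : A.left ⟶ PicF.XT A.hom (𝟙_ (Over (Spec (CommRingCat.of k)))) :=
    Limits.pullback.lift (𝟙 _) A.hom ((Category.id_comp _).trans (Category.comp_id _).symm)
  have hj1 : j ≫ pr = 𝟙 _ := Limits.pullback.lift_fst _ _ _
  have hj2 : j ≫ q = A.hom := Limits.pullback.lift_snd _ _ _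
  have hprj : pr ≫ j = 𝟙 _ := by
    apply Limits.pullback.hom_ext
    · rw [Category.assoc, hj1, Category.comp_id, Category.id_comp]
    · rw [Category.assoc, hj2, Category.id_comp]
      exact Limits.pullback.condition.trans (Category.comp_id _)
  letI : A.left.Over (Spec (CommRingCat.of k)) := ⟨A.hom⟩
  have hN := AmpleDevLib.isInvertible_pb j hM
  have hadd : IsAdditive hN := by
    refine isAdditive_of_isAlgEquivZero ?_
    let σ : Spec (CommRingCat.of k) ⟶ (𝟙_ (Over (Spec (CommRingCat.of k)))).left := 𝟙 _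
    have hr : Set.range σ.base = {IsLocalRing.closedPoint k} :=
      Set.eq_singleton_iff_unique_mem.2 ⟨⟨IsLocalRing.closedPoint k, rfl⟩,
        fun w _ => Subsingleton.elim (α := PrimeSpectrum k) w _⟩
    let s : A.left ⟶ Limits.pullback q σ := Limits.pullback.lift j A.hom (hj2.trans (Category.comp_id _).symm)
    have := isAlgEquivZero_pullback (Limits.pullback.snd q σ) A.hom s (Limits.pullback.lift_snd _ _ _)
      (hMa (IsLocalRing.closedPoint k) k σ hr)
    exact isAlgEquivZero_iso ((Scheme.Modules.pullbackComp s _).app M ≪≫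
      (Scheme.Modules.pullbackCongr (Limits.pullback.lift_fst _ _ _)).app M) this
  obtain ⟨a, ha⟩ := exists_phi_eq hadd (finite_translationFixing hL hLa)
  refine ⟨AVAmpleLib.pt a, ?_⟩
  have hax : a ≫ ψ = x := by
    rw [← hA.relPic.natural _ _ a _ hΛ0, ← ec']
    congr 1
    have hpA := AmpleDevLib.isInvertible_pb (PicF.XTmap A.hom a) hΛ
    suffices e : clA hpA = clA hM by
      rw [clA_eq_iff] at e
      exact Quot.sound e
    have key : pullA j (clA hpA) = pullA j (clA hM) := by
      rw [← pullA_clA _ hΛ, pullA_comp, pullA_clA j hM, ha]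
      have e : j ≫ PicF.XTmap A.hom a = (lift (𝟙 A) (toUnit A ≫ a)).left := by
        apply Limits.pullback.hom_ext
        · exact ((Category.assoc _ _ _).trans (congrArg (j ≫ ·) (XTmap_fst A.hom a))).trans
            (hj1.trans (congrArg Over.Hom.left (lift_fst (𝟙 A) (toUnit A ≫ a))).symm)
        · exact (((Category.assoc _ _ _).trans (congrArg (j ≫ ·) (XTmap_snd A.hom a))).trans
            ((Category.assoc _ _ _).symm.trans (congrArg (· ≫ a.left) hj2))).trans
            (congrArg Over.Hom.left (lift_snd (𝟙 A) (toUnit A ≫ a))).symm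
      rw [e]
      show pullA (lift (𝟙 A) (toUnit A ≫ a)).left (clA hΛ : PicA (A ⊗ A).left) = _
      rw [cΛ, pullA_lam, lift_fst, lift_snd, CubeConsLib.lam, P_id, P_const, sub_zero]
    have := congrArg (pullA pr) key
    rwa [pullA_comp, pullA_comp, hprj, pullA_id, pullA_id] at this
  have := congrArg (fun f : 𝟙_ (Over (Spec (CommRingCat.of k))) ⟶ At => f.left (IsLocalRing.closedPoint k)) hax
  exact this.trans (pointOfClosedPoint_apply At.hom z hz _)

end Phi

include hA in
theorem exists_phiL_data : ∃ (L : A.left.Modules) (hL : PicF.IsInvertible L) (Λ : (PicF.XT A.hom A).Modules)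
    (hΛ : PicF.IsInvertible Λ), CohB1.IsAmple L ∧
      (clA hΛ : PicA (A ⊗ A).left) = CubeConsLib.lam hL (fst A A) (snd A A) := by
  obtain ⟨L, hLa⟩ := AVAmpleLib.exists_ample A
  obtain ⟨Λ, hΛ, cΛ⟩ := exists_mumford hLa.1
  exact ⟨L, hLa.1, Λ, hΛ, hLa, cΛ⟩

variable [GeometricallyIntegral At.hom]

include hA in
/-- The dual has the dimension of the variety. -/
theorem dim_dual {g : ℕ} (hg : topologicalKrullDim A.left = (g : ℕ)) : topologicalKrullDim At.left = (g : ℕ) := by
  refine le_antisymm ?_ (le_dim_dual hA hg)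
  let Ω := AlgebraicClosure k
  let t := Spec.map (CommRingCat.ofHom (algebraMap k Ω))
  let A' := Red.bc t A
  let At' := Red.bc t At
  haveI : IsProper A'.hom := inferInstanceAs (IsProper (Limits.pullback.snd A.hom t))
  haveI : GeometricallyIntegral A'.hom := inferInstanceAs (GeometricallyIntegral (Limits.pullback.snd A.hom t))
  haveI : IsProper At'.hom := inferInstanceAs (IsProper (Limits.pullback.snd At.hom t))
  have hA' := isDualAV_bcDual t hA
  obtain ⟨L, hL, Λ, hΛ, hLa, cΛ⟩ := exists_phiL_data hA'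
  haveI := surjective_phiL_closed hA' hL hΛ cΛ hLa
  haveI := isFinite_phiL hA' hL hΛ cΛ hLa
  let ψ := AgPol.bcDual t A At φ A' (PicF.cl Λ)
  have := (MiscFlat6.dim_le_of_open_or_closed ψ.left ψ.left.surjective (Or.inr ψ.left.isClosedMap))
  rwa [show topologicalKrullDim At'.left = topologicalKrullDim At.left from dim_pullback_eq At,
    show topologicalKrullDim A'.left = topologicalKrullDim A.left from dim_pullback_eq A, hg] at this

include hA in
/-- The map of an ample class to the dual is an isogeny. -/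
theorem isogeny_phiL {L : A.left.Modules} (hL : PicF.IsInvertible L) (hLa : CohB1.IsAmple L)
    {Λ : (PicF.XT A.hom A).Modules} (hΛ : PicF.IsInvertible Λ)
    (cΛ : (clA hΛ : PicA (A ⊗ A).left) = CubeConsLib.lam hL (fst A A) (snd A A)) :
    IsMonHom (φ A (PicF.cl Λ)) ∧ IsFinite (φ A (PicF.cl Λ)).left ∧ Surjective (φ A (PicF.cl Λ)).left ∧
      Flat (φ A (PicF.cl Λ)).left := by
  haveI := isMonHom_phiL hA hL hΛ cΛ
  haveI := isFinite_phiL hA hL hΛ cΛ hLa
  haveI : IsIntegral At.left := GeometricallyIntegral.isIntegral_of_subsingleton At.hom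
  obtain ⟨g, hg⟩ := AVAmpleLib.exists_dim_field A
  haveI := surjective_of_finite_dim (φ A (PicF.cl Λ)).left hg (dim_dual hA hg)
  haveI : LocallyOfFinitePresentation A.hom := LocallyOfFinitePresentation.iff_locallyOfFiniteType.2 inferInstance
  haveI := smooth_hom At
  exact ⟨‹_›, ‹_›, ‹_›, AbSchLib.flat_of_surjective _⟩

include hA in
/-- The family of a morphism to the dual is the pullback of the Poincaré class. -/
theorem clA_eq_pullA_poincare {P : (PicF.XT A.hom At).Modules} (hP : PicF.IsInvertible P)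
    (hPξ : AbDual.IsPoincareCl A At φ (PicF.cl P)) {T : Over (Spec (CommRingCat.of k))} [LocallyOfFiniteType T.hom]
    [IsReduced T.left] {Λ : (PicF.XT A.hom T).Modules} (hΛ : PicF.IsInvertible Λ)
    (hΛ0 : AbDual.IsPicZeroCl A.hom T (PicF.cl Λ))
    (hs : pullA (PicF.secT A.hom η[A].left (Over.w η[A]) T) (clA hΛ) = 0) :
    clA hΛ = pullA (PicF.XTmap A.hom (φ T (PicF.cl Λ))) (clA hP) := by
  let ψ := φ T (PicF.cl Λ)
  have hψ := AmpleDevLib.isInvertible_pb (PicF.XTmap A.hom ψ) hP
  rw [pullA_clA _ hP]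
  refine eq_of_phi_eq hA hΛ hψ hΛ0 (isPicZeroCl_XTmap ψ hPξ.1) hs ?_ ?_
  · rw [← pullA_clA _ hP, pullA_comp, secT_natural, ← pullA_comp, clA_zero_of_trivialCl _ hP hPξ.2.2, map_zero]
  · exact ((hA.relPic.natural _ _ ψ _ hPξ.1).trans ((congrArg (ψ ≫ ·) hPξ.2.1).trans (Category.comp_id _))).symm

end AVIndexLib

end
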