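import Groth.Agent.AVIndexLib.KLRank

/-!
`K(L)` is the kernel of the map to the dual.
-/

set_option autoImplicit false
set_option maxHeartbeats 1000000
set_option maxRecDepth 8000
set_option backward.isDefEq.respectTransparency false
set_option linter.style.haveILetI false
set_option linter.unusedSectionVars false

noncomputable section

universe u

open CategoryTheory CategoryTheory.Limits MonoidalCategory CartesianMonoidalCategory MonObj AlgebraicGeometry
open CubeConsLib AVVanishLib AVAmpleLib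

namespace AVIndexLib

theorem exists_factor_fppf {S : Scheme.{u}} {T K A : Over S} (i : K ⟶ A) [Mono i.left] (z : T ⟶ A)
    {R : Presieve T.left} (hR : R ∈ Scheme.fppfPrecoverage T.left)
    (h : ∀ ⦃U : Scheme.{u}⦄ (u : U ⟶ T.left), R u → ∃ w : U ⟶ K.left, w ≫ i.left = u ≫ z.left) :
    ∃ y : T ⟶ K, y ≫ i = z := by
  have hs : ∀ X : Scheme.{u}, Presieve.IsSheafFor (yoneda.obj X) R := fun X =>
    (Presieve.isSheafFor_iff_generate R).2
      ((GrothendieckTopology.Subcanonical.isSheaf_of_isRepresentable (J := Scheme.fpqcTopology) (yoneda.obj X)) _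
        (Precoverage.generate_mem_toGrothendieck (Scheme.fppfPrecoverage_le_fpqcPrecoverage _ hR)))
  choose w hw using h
  let x : Presieve.FamilyOfElements (yoneda.obj K.left) R := fun U u hu => w u hu
  have hx : x.Compatible := fun Y₁ Y₂ Z g₁ g₂ f₁ f₂ h₁ h₂ e => by
    show g₁ ≫ w f₁ h₁ = g₂ ≫ w f₂ h₂
    rw [← cancel_mono i.left, Category.assoc, hw f₁ h₁, Category.assoc, hw f₂ h₂, reassoc_of% e]
  let t : T.left ⟶ K.left := (hs K.left).amalgamate x hx
  have ht : t ≫ i.left = z.left := (hs A.left).isSeparatedFor.ext fun U u hu => by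
    show u ≫ t ≫ i.left = u ≫ z.left
    rw [← hw u hu, ← Category.assoc]
    exact congrArg (· ≫ i.left) ((hs K.left).valid_glue hx u hu)
  refine ⟨Over.homMk t ?_, Over.OverMorphism.ext ht⟩
  rw [← Over.w i, ← Category.assoc, ht]
  exact Over.w z

section Kernel

variable {k : Type u} [Field k] {X Xt K : Over (Spec (CommRingCat.of k))} [GrpObj X] [IsProper X.hom]
  [GeometricallyIntegral X.hom] [GrpObj Xt]
  {φ : AgPol.DualMap X Xt} (hA : AbDual.IsDualAV Scheme.fppfPrecoverage X Xt φ)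
  {L : X.left.Modules} (hL : PicF.IsInvertible L) {i : K ⟶ X} (hK : ThetaGrp.IsKL X L i)
  {Λ : (PicF.XT X.hom X).Modules} (hΛ : PicF.IsInvertible Λ)
  (cΛ : (clA hΛ : PicA (X ⊗ X).left) = lam hL (fst X X) (snd X X))

include hA hL hK cΛ in
/-- `K(L)` is the kernel of the map to the dual. -/
theorem isKernel_KL : AlgGrp.IsKernel i (φ X (PicF.cl Λ)) := by
  have hΛ0 := isPicZeroCl_mumford hL cΛ
  haveI := hK.closed
  haveI := kl_mono hK
  have heq : i ≫ φ X (PicF.cl Λ) = toUnit K ≫ η[Xt] := by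
    rw [← Hom.one_def, ← hA.relPic.natural X K i _ hΛ0, ← phi_structure hA]
    congr 1
    have h0 : pullA (PicF.XTmap X.hom i) (clA hΛ) = 0 := by
      rw [pullA_XTmap_mumford hL hΛ cΛ]
      exact (kl_iff hL hK i).2 ⟨𝟙 _, Category.id_comp _⟩
    rw [pullA_clA _ hΛ, ← clA_one, clA_eq_iff] at h0
    exact Quot.sound h0
  have hfac : ∀ (T : Over (Spec (CommRingCat.of k))) (z : T ⟶ X), z ≫ φ X (PicF.cl Λ) = 1 → ∃ y, y ≫ i = z := by
    intro T z hz
    have hc := isPicZeroCl_XTmap z hΛ0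
    obtain ⟨R, hR, hloc⟩ := hA.relPic.locallyInjective T _ _ hc (isPicZeroCl_structure X T) (by
      rw [hA.relPic.natural X T z _ hΛ0, hz, phi_structure hA])
    refine exists_factor_fppf i z hR fun U u hu => ?_
    have h0 : pullA (PicF.XTmap X.hom (AbDual.ovrHom T u ≫ z)) (clA hΛ) = 0 := by
      have h1 := hloc u hu
      have e : PicF.XTmap X.hom (AbDual.ovrHom T u ≫ z) =
          PicF.XTmap X.hom (AbDual.ovrHom T u) ≫ PicF.XTmap X.hom z := by
        apply Limits.pullback.hom_ext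
        · rw [Category.assoc, XTmap_fst, XTmap_fst, XTmap_fst]
        · rw [Category.assoc, XTmap_snd, XTmap_snd, ← Category.assoc, XTmap_snd, Category.assoc, Over.comp_left]
      rw [e, ← pullA_comp, pullA_clA _ hΛ, pullA_clA _ (AmpleDevLib.isInvertible_pb _ hΛ), ← clA_one, clA_eq_iff]
      obtain ⟨e1⟩ := cl_eq_iff.1 (congrArg toI h1)
      exact ⟨e1 ≪≫ KFlatLib.pullUnitIso _⟩
    rw [pullA_XTmap_mumford hL hΛ cΛ, kl_iff hL hK] at h0
    obtain ⟨y, hy⟩ := h0
    exact ⟨y.left, congrArg Over.Hom.left hy⟩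
  have h' : ∀ (s : PullbackCone (φ X (PicF.cl Λ)) η[Xt]), s.fst ≫ φ X (PicF.cl Λ) = 1 := fun s => by
    rw [s.condition, Hom.one_def, toUnit_unique (toUnit _) s.snd]
  choose y hy using fun s => hfac _ s.fst (h' s)
  exact ⟨⟨heq⟩, ⟨PullbackCone.IsLimit.mk heq y hy (fun s => toUnit_unique _ _)
    fun s m hm _ => (cancel_mono i).1 (hm.trans (hy s).symm)⟩⟩

end Kernel

section Lambda

variable {k : Type u} [Field k] {A At : Over (Spec (CommRingCat.of k))} [GrpObj A] {L : A.left.Modules}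
  (hL : PicF.IsInvertible L)

include hL in
/-- The class of the module of a map attached to a line bundle. -/
theorem exists_of_isLambda {φ : AgPol.DualMap A At} {l : A ⟶ At} (h : AgPol.IsLambda A At φ L l) :
    ∃ (N : (PicF.XT A.hom A).Modules) (hN : PicF.IsInvertible N),
      (clA hN : PicA (A ⊗ A).left) = lam hL (fst A A) (snd A A) ∧ φ A (PicF.cl N) = l := by
  obtain ⟨N, hN, hiso, hφ⟩ := h
  refine ⟨N, hN, ?_, hφ⟩
  have g0 : PicF.IsInvertible (show (A ⊗ A).left.Modules from N) := hN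
  have g1 := AmpleDevLib.isInvertible_pb (fst A A).left hL
  have g2 := AmpleDevLib.isInvertible_pb (snd A A).left hL
  have g3 := AmpleDevLib.isInvertible_pb (μ[A] : A ⊗ A ⟶ A).left hL
  unfold AgPol.IsLambdaSheaf at hiso
  have e := (clA_eq_iff (HilbPolyLib.isInvertible_tensor (HilbPolyLib.isInvertible_tensor g0 g1) g2) g3).2 hiso
  rw [clA_tensor (HilbPolyLib.isInvertible_tensor g0 g1) g2, clA_tensor g0 g1, ← pullA_clA _ hL, ← pullA_clA _ hL,
    ← pullA_clA _ hL] at e
  have hμ : μ[A] = fst A A * snd A A := by rw [Hom.mul_def, lift_fst_snd, Category.id_comp]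
  rw [hμ] at e
  show clA g0 = _
  rw [CubeConsLib.lam, P, P, P, ← e]
  abel

end Lambda

end AVIndexLib

end
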