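import Groth.Agent.AVIndexLib.Square

/-!
Modules with cohomology concentrated in one degree.
-/

set_option autoImplicit false
set_option maxHeartbeats 1000000
set_option maxRecDepth 8000
set_option backward.isDefEq.respectTransparency false
set_option linter.style.haveILetI false

noncomputable section

universe u

open CategoryTheory CategoryTheory.Limits MonoidalCategory CartesianMonoidalCategory MonObj AlgebraicGeometry
open TopologicalSpace
open CubeConsLib AVVanishLib

namespace AVIndexLib

/-- The cohomology is concentrated in degree `i` and non-zero there. -/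
def Conc {X : Scheme.{u}} (M : X.Modules) (i : ℕ) : Prop :=
  (∀ n, n ≠ i → Subsingleton (Coh.HH X M n)) ∧ ¬ Subsingleton (Coh.HH X M i)

theorem Conc.iso {X : Scheme.{u}} {M N : X.Modules} {i : ℕ} (h : Conc M i) (e : M ≅ N) : Conc N i :=
  ⟨fun n hn => SerreVanLib.subsingleton_HH_of_iso e.symm n (h.1 n hn),
    fun h' => h.2 (SerreVanLib.subsingleton_HH_of_iso e i h')⟩

theorem Conc.unique {X : Scheme.{u}} {M : X.Modules} {i j : ℕ} (h : Conc M i) (h' : Conc M j) : i = j := by
  by_contra hne
  exact h'.2 (h.1 j (Ne.symm hne))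

theorem Conc.of_clA {X : Scheme.{u}} {M N : X.Modules} {i : ℕ} (h : Conc M i) {hM : PicF.IsInvertible M}
    {hN : PicF.IsInvertible N} (e : clA hM = clA hN) : Conc N i :=
  h.iso ((clA_eq_iff hM hN).1 e).some

theorem Conc.pullback_iso {X Y : Scheme.{u}} {M : Y.Modules} {i : ℕ} (h : Conc M i) (σ : X ⟶ Y) [IsIso σ] :
    Conc ((Scheme.Modules.pullback σ).obj M) i :=
  ⟨fun n hn => (subsingleton_HH_iff_of_iso σ M n).2 (h.1 n hn),
    fun h' => h.2 ((subsingleton_HH_iff_of_iso σ M i).1 h')⟩

section Product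

variable {K : Type u} [Field K] {A B : Over (Spec (CommRingCat.of K))} [IsProper A.hom] [IsProper B.hom]
  [GeometricallyIntegral A.hom] [GeometricallyIntegral B.hom]

/-- Degrees add up on products. -/
theorem Conc.prod {L : A.left.Modules} (hL : PicF.IsInvertible L) {M : B.left.Modules} (hM : PicF.IsInvertible M)
    {i j : ℕ} (h : Conc L i) (h' : Conc M j) :
    Conc (CohB1.tensorMod ((Scheme.Modules.pullback (snd A B).left).obj M)
      ((Scheme.Modules.pullback (fst A B).left).obj L)) (i + j) := by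
  haveI : IsIntegral B.left := GeometricallyIntegral.isIntegral_of_subsingleton B.hom
  haveI : IsLocallyNoetherian B.left := LocallyOfFiniteType.isLocallyNoetherian B.hom
  let p := (fst A B).left
  let q := (snd A B).left
  have hsq : IsPullback p q A.hom B.hom := IsPullback.of_hasPullback A.hom B.hom
  haveI : IsProper q := MorphismProperty.of_isPullback hsq ‹IsProper A.hom›
  haveI : IsLocallyNoetherian (A ⊗ B).left := LocallyOfFiniteType.isLocallyNoetherian q
  haveI : HasInjectiveResolutions (A ⊗ B).left.Modules := inferInstance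
  have hE : ∀ a b : ℕ, Subsingleton (Coh.HH B.left ((Coh.Rpush q b).obj (CohB1.tensorMod
      ((Scheme.Modules.pullback q).obj M) ((Scheme.Modules.pullback p).obj L))) a) ↔
      (Subsingleton (Coh.HH A.left L b) ∨ Subsingleton (Coh.HH B.left M a)) := by
    intro a b
    obtain ⟨r, ⟨e₁⟩, hr⟩ := exists_free_rpush hsq hL b
    obtain ⟨e₂⟩ := Groth.Agent.S0927.result q ((Scheme.Modules.pullback p).obj L) M
      (CurveVBLib.isFinLocFree_of_rank (CurvLib.locFree_of_isInvertible hM)) b
    rw [← hr, ← subsingleton_HH_tensor_free M a r]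
    let e₃ := e₂.symm ≪≫ HilbPolyLib.congrRight M e₁
    exact ⟨fun h => SerreVanLib.subsingleton_HH_of_iso e₃.symm a h,
      fun h => SerreVanLib.subsingleton_HH_of_iso e₃ a h⟩
  refine ⟨fun n hn => subsingleton_HH_antidiagonal q _ n fun a b hab => (hE a b).2 ?_, fun hs => ?_⟩
  · by_cases hb : b = i
    · exact Or.inr (h'.1 a (by omega))
    · exact Or.inl (h.1 b hb)
  · have hc := subsingleton_HH_corner q _ j i (by rwa [add_comm])
      (fun a b _ hb => (hE a b).2 (Or.inl (h.1 b hb.ne')))
      (fun a b _ hb => (hE a b).2 (Or.inl (h.1 b hb.ne)))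
    exact ((hE j i).1 hc).elim h.2 h'.2

end Product

variable {K : Type u} [Field K] [IsAlgClosed K] {A : Over (Spec (CommRingCat.of K))} [GrpObj A]
  [IsProper A.hom] [GeometricallyIntegral A.hom] {L : A.left.Modules} {hL : PicF.IsInvertible L}

local notation "Pt" => 𝟙_ (Over (Spec (CommRingCat.of K))) ⟶ A
local notation "τ" a:max => AVAmpleLib.tR a

/-- Concentrated cohomology forces non-degeneracy. -/
theorem Conc.finite {i : ℕ} (h : Conc L i) : Set.Finite {a : Pt | P hL (τ a) = clA hL} := by
  by_contra hinf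
  exact euler_ne_zero hL h.2 h.1 (AVRRLib.euler_eq_zero_of_degenerate hL hinf)

/-- The inverse has the complementary degree. -/
theorem Conc.neg {g : ℕ} (hg : topologicalKrullDim A.left = (g : ℕ)) {i : ℕ} (h : Conc L i) {N : A.left.Modules}
    {hN : PicF.IsInvertible N} (hNL : clA hN = -clA hL) : i ≤ g ∧ Conc N (g - i) := by
  obtain ⟨i', j, hij, hi, hj, hvL, hvN⟩ := exists_index hL hg h.finite hNL
  obtain rfl := h.unique ⟨hvL, hi⟩
  obtain rfl : j = g - i := by omega
  exact ⟨by omega, hvN, hj⟩

/-- Adding an additive class does not change the degree. -/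
theorem Conc.add_additive {i : ℕ} (h : Conc L i) {M N : A.left.Modules} {hM : PicF.IsInvertible M}
    {hN : PicF.IsInvertible N} (hadd : IsAdditive hM) (hNL : clA hN = clA hL + clA hM) : Conc N i := by
  obtain ⟨a, ha⟩ := exists_phi_eq (hL := hL) hadd h.finite
  haveI := isCommMonObj_field (A := A)
  haveI : IsIso (τ a) := ⟨⟨τ a⁻¹, by rw [AVAmpleLib.tR_comp, mul_inv_cancel, AVAmpleLib.tR_one],
    by rw [AVAmpleLib.tR_comp, inv_mul_cancel, AVAmpleLib.tR_one]⟩⟩
  haveI : IsIso (τ a).left := inferInstanceAs (IsIso ((Over.forget _).map (τ a)))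
  refine (h.pullback_iso (τ a).left).of_clA (hM := AmpleDevLib.isInvertible_pb _ hL) (hN := hN) ?_
  rw [hNL, ha, P_eq hL, add_sub_cancel]

/-- The restriction along a homomorphism has at most the same degree. -/
theorem Conc.le_pullback {B : Over (Spec (CommRingCat.of K))} [GrpObj B] [IsProper B.hom]
    [GeometricallyIntegral B.hom] (f : A ⟶ B) [IsMonHom f] {M : B.left.Modules} (hM : PicF.IsInvertible M)
    {i i' : ℕ} (h : Conc M i) (h' : Conc ((Scheme.Modules.pullback f.left).obj M) i') : i' ≤ i :=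
  le_index_of_pullback f hM h'.finite h.2 (fun n hn => h.1 n hn.ne) h'.1

/-- Subadditivity of the degree. -/
theorem Conc.le_add {L₁ L₂ M : A.left.Modules} {h₁ : PicF.IsInvertible L₁} {h₂ : PicF.IsInvertible L₂}
    {hM : PicF.IsInvertible M} {i₁ i₂ i : ℕ} (c₁ : Conc L₁ i₁) (c₂ : Conc L₂ i₂) (c : Conc M i)
    (e : clA hM = clA h₁ + clA h₂) : i ≤ i₁ + i₂ := by
  haveI := isCommMonObj_field (A := A)
  haveI : LocallyOfFinitePresentation A.hom := LocallyOfFinitePresentation.iff_locallyOfFiniteType.2 inferInstance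
  haveI : Flat A.hom := inferInstance
  haveI : IsProper (A ⊗ A).hom := inferInstanceAs (IsProper (pullback.fst A.hom A.hom ≫ A.hom))
  haveI : GeometricallyIntegral (A ⊗ A).hom := CubeConsLib.geometricallyIntegral_prod A.hom A.hom
  let δ : A ⟶ A ⊗ A := lift (𝟙 A) (𝟙 A)
  haveI : IsMonHom δ := inferInstanceAs (IsMonHom (lift (𝟙 A) (𝟙 A)))
  have hp := AmpleDevLib.isInvertible_pb (fst A A).left h₁
  have hq := AmpleDevLib.isInvertible_pb (snd A A).left h₂
  refine Conc.le_pullback δ (HilbPolyLib.isInvertible_tensor hq hp) (c₁.prod h₁ h₂ c₂)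
    (c.of_clA (hM := hM) (hN := AmpleDevLib.isInvertible_pb δ.left (HilbPolyLib.isInvertible_tensor hq hp)) ?_)
  rw [← pullA_clA δ.left (HilbPolyLib.isInvertible_tensor hq hp), clA_tensor hq hp, map_add, ← P_eq h₂, ← P_eq h₁,
    pullA_P, pullA_P, lift_fst, lift_snd, P_id, P_id, e, add_comm]

end AVIndexLib
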