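import Groth.Agent.AVIndexLib.Quad
import Groth.Agent.AVAmpleLib.BcDeg

/-!
The index over an arbitrary field.
-/

set_option autoImplicit false
set_option maxHeartbeats 1000000
set_option maxRecDepth 8000
set_option backward.isDefEq.respectTransparency false
set_option linter.style.haveILetI false

noncomputable section

universe u

open CategoryTheory CategoryTheory.Limits MonoidalCategory CartesianMonoidalCategory MonObj AlgebraicGeometry
open TopologicalSpace
open CubeConsLib AVAmpleLib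

namespace AVIndexLib

variable {k : Type u} [Field k] (Ω : Type u) [Field Ω] [Algebra k Ω] {X : Over (Spec (CommRingCat.of k))}

/-- The projection of the extension of scalars. -/
abbrev prBc : ((bcF Ω).obj X).left ⟶ X.left :=
  pullback.fst X.hom (Spec.map (CommRingCat.ofHom (algebraMap k Ω)))

variable [IsProper X.hom] {L : X.left.Modules}

theorem subsingleton_HH_bc_iff (hL : PicF.IsInvertible L) (n : ℕ) :
    Subsingleton (Coh.HH ((bcF Ω).obj X).left ((Scheme.Modules.pullback (prBc Ω)).obj L) n) ↔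
      Subsingleton (Coh.HH X.left L n) := by
  let T := Spec (CommRingCat.of Ω)
  let q : ((bcF Ω).obj X).left ⟶ T := ((bcF Ω).obj X).hom
  have hsq : IsPullback (prBc Ω) q X.hom (Spec.map (CommRingCat.ofHom (algebraMap k Ω))) :=
    IsPullback.of_hasPullback _ _
  haveI : IsProper q := MorphismProperty.of_isPullback hsq ‹IsProper X.hom›
  haveI : IsLocallyNoetherian ((bcF Ω).obj X).left := LocallyOfFiniteType.isLocallyNoetherian q
  haveI : HasInjectiveResolutions ((bcF Ω).obj X).left.Modules := inferInstance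
  obtain ⟨r, ⟨e⟩, hr⟩ := exists_free_rpush hsq hL n
  obtain ⟨r', ⟨e'⟩, hr'⟩ := exists_free_rpush
    (show IsPullback (𝟙 ((bcF Ω).obj X).left) q q (𝟙 T) from IsPullback.of_horiz_isIso ⟨by simp⟩)
    (AmpleDevLib.isInvertible_pb (prBc Ω) hL) n
  have h : r = r' := by
    let i : FlatMod.freeMod T r ≅ FlatMod.freeMod T r' :=
      e.symm ≪≫ (Coh.Rpush q n).mapIso ((Scheme.Modules.pullbackId _).app _).symm ≪≫ e'
    rw [← AVRRLib.genRank_freeMod T r, ← AVRRLib.genRank_freeMod T r']
    exact ((DevissLib.St (genericPoint T)).mapIso i).toLinearEquiv.finrank_eq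
  rw [← hr', ← hr, h]

theorem conc_bc_iff (hL : PicF.IsInvertible L) (i : ℕ) :
    Conc ((Scheme.Modules.pullback (prBc (X := X) Ω)).obj L) i ↔ Conc L i := by
  constructor <;> intro h
  · exact ⟨fun n hn => (subsingleton_HH_bc_iff Ω hL n).1 (h.1 n hn),
      fun h' => h.2 ((subsingleton_HH_bc_iff Ω hL i).2 h')⟩
  · exact ⟨fun n hn => (subsingleton_HH_bc_iff Ω hL n).2 (h.1 n hn),
      fun h' => h.2 ((subsingleton_HH_bc_iff Ω hL i).1 h')⟩

variable [GrpObj X] [GeometricallyIntegral X.hom]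

local instance grpBcI : GrpObj ((bcF Ω).obj X) := Functor.grpObjObj

local instance properBcI : IsProper ((bcF Ω).obj X).hom := inferInstanceAs (IsProper (pullback.snd X.hom _))

local instance giBcI : GeometricallyIntegral ((bcF Ω).obj X).hom :=
  inferInstanceAs (GeometricallyIntegral (pullback.snd X.hom _))

variable [IsAlgClosed Ω]

include Ω in
/-- The inverse has the complementary degree. -/
theorem conc_neg {g : ℕ} (hg : topologicalKrullDim X.left = (g : ℕ)) (hL : PicF.IsInvertible L) {i : ℕ}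
    (h : Conc L i) {N : X.left.Modules} (hN : PicF.IsInvertible N) (hNL : clA hN = -clA hL) :
    i ≤ g ∧ Conc N (g - i) := by
  obtain ⟨h1, h2⟩ := Conc.neg (hL := AmpleDevLib.isInvertible_pb (prBc (X := X) Ω) hL) ((dim_pullback_eq X).trans hg)
    ((conc_bc_iff Ω hL i).2 h) (hN := AmpleDevLib.isInvertible_pb (prBc Ω) hN)
    (by rw [← pullA_clA _ hN, hNL, map_neg, pullA_clA])
  exact ⟨h1, (conc_bc_iff Ω hN _).1 h2⟩

include Ω in
/-- Subadditivity of the degree. -/
theorem conc_le_add {L₁ L₂ M : X.left.Modules} (h₁ : PicF.IsInvertible L₁) (h₂ : PicF.IsInvertible L₂)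
    (hM : PicF.IsInvertible M) {i₁ i₂ i : ℕ} (c₁ : Conc L₁ i₁) (c₂ : Conc L₂ i₂) (c : Conc M i)
    (e : clA hM = clA h₁ + clA h₂) : i ≤ i₁ + i₂ :=
  Conc.le_add (h₁ := AmpleDevLib.isInvertible_pb (prBc (X := X) Ω) h₁)
    (h₂ := AmpleDevLib.isInvertible_pb (prBc Ω) h₂) (hM := AmpleDevLib.isInvertible_pb (prBc Ω) hM)
    ((conc_bc_iff Ω h₁ i₁).2 c₁) ((conc_bc_iff Ω h₂ i₂).2 c₂) ((conc_bc_iff Ω hM i).2 c)
    (by rw [← pullA_clA _ hM, e, map_add, pullA_clA, pullA_clA])

include Ω in
/-- Positive powers keep the degree. -/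
theorem conc_nsmul (hL : PicF.IsInvertible L) {i m : ℕ} (h : Conc L i) (hm : 0 < m) {N : X.left.Modules}
    (hN : PicF.IsInvertible N) (hNL : clA hN = m • clA hL) : Conc N i :=
  (conc_bc_iff Ω hN i).1 (Conc.nsmul (AmpleDevLib.isInvertible_pb (prBc (X := X) Ω) hL) ((conc_bc_iff Ω hL i).2 h) hm
    (AmpleDevLib.isInvertible_pb (prBc Ω) hN) (by rw [← pullA_clA _ hN, hNL, map_nsmul, pullA_clA]))

end AVIndexLib
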