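import Groth.Agent.CohCmpLib.EpsBij
import Groth.Agent.CohCmpLib.SectExists
import Groth.Agent.LerayLowLib.PullId

/-!
Cohomology through one higher direct image, compatibly with the functions on the base.
-/

set_option autoImplicit false
set_option maxHeartbeats 1000000
set_option maxRecDepth 8000
set_option backward.isDefEq.respectTransparency false
set_option linter.style.haveILetI false

noncomputable section

universe u

open CategoryTheory CategoryTheory.Limits AlgebraicGeometry TopologicalSpace Opposite CohCmpLib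

namespace AVIndexLib

/-- Two surjections with the same kernel, compatible with operators, give a compatible isomorphism. -/
theorem exists_equiv_of_surjective {A B B' ι : Type*} [AddCommGroup A] [AddCommGroup B] [AddCommGroup B']
    (φ : A →+ B) (ψ : A →+ B') (hφ : Function.Surjective φ) (hψ : Function.Surjective ψ)
    (hk : ∀ x, φ x = 0 ↔ ψ x = 0) (T : ι → A → A) (U : ι → B → B) (V : ι → B' → B')
    (hT : ∀ r x, φ (T r x) = U r (φ x)) (hT' : ∀ r x, ψ (T r x) = V r (ψ x)) :
    ∃ e : B ≃+ B', ∀ r y, e (U r y) = V r (e y) := by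
  let e : B ≃+ B' := (QuotientAddGroup.quotientKerEquivOfSurjective φ hφ).symm.trans
    ((QuotientAddGroup.quotientAddEquivOfEq (by ext x; exact hk x)).trans
      (QuotientAddGroup.quotientKerEquivOfSurjective ψ hψ))
  have he : ∀ x, e (φ x) = ψ x := fun x => by
    have h : (QuotientAddGroup.quotientKerEquivOfSurjective φ hφ).symm (φ x) = QuotientAddGroup.mk x := by
      rw [AddEquiv.symm_apply_eq]; rfl
    simp only [e, AddEquiv.trans_apply, h]
    rfl
  exact ⟨e, fun r y => by obtain ⟨x, rfl⟩ := hφ y; rw [← hT, he, he, hT']⟩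

variable {X Y : Scheme.{u}} {f : X ⟶ Y} [HasInjectiveResolutions X.Modules]

theorem subsingleton_HC_of_acyOn {M : Y.Modules} (h : AcyOn (⊤ : Y.Opens) M) (n : ℕ) :
    Subsingleton (HC Y M (n + 1)) :=
  (QCohLib.subsingleton_H_iff _ _).2 (h n)

theorem subsingleton_HC_rpush_injective (I : X.Modules) [Injective I] (n : ℕ) :
    Subsingleton (HC Y ((Coh.Rpush f 0).obj I) (n + 1)) :=
  subsingleton_HC_of_acyOn (acyOn_rpush_zero_injective I ⊤) n

/-- Global sections through the direct image. -/
def pushZero (f : X ⟶ Y) [HasInjectiveResolutions X.Modules] (M : X.Modules) :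
    HC X M 0 ≃+ HC Y ((Coh.Rpush f 0).obj M) 0 :=
  (h0E M).trans ((AddEquiv.ofBijective
    (((Scheme.Modules.pushforward f).toRightDerivedZero.app M).app (⊤ : Y.Opens)).hom
    (haveI := preservesFiniteLimits_push (f := f); ConcreteCategory.bijective_of_isIso _)).trans (h0E _).symm)

theorem h0E_pushZero (M : X.Modules) (x : HC X M 0) : h0E _ (pushZero f M x) =
    ((Scheme.Modules.pushforward f).toRightDerivedZero.app M).app (⊤ : Y.Opens) (h0E M x) :=
  (h0E _).apply_symm_apply _

theorem pushZero_hm {M N : X.Modules} (φ : M ⟶ N) (x : HC X M 0) :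
    pushZero f N (hm φ 0 x) = hm ((Coh.Rpush f 0).map φ) 0 (pushZero f M x) := by
  apply (h0E _).injective
  rw [h0E_pushZero, h0E_hm, h0E_hm, h0E_pushZero]
  exact congr(Scheme.Modules.Hom.app $((Scheme.Modules.pushforward f).toRightDerivedZero.naturality φ) ⊤ (h0E M x))

theorem pushZero_hs (r : Coh.Γtop Y) (M : X.Modules) (x : HC X M 0) :
    pushZero f M (hs (f.appTop r) M 0 x) = hs r _ 0 (pushZero f M x) := by
  apply (h0E _).injective
  rw [h0E_pushZero, h0E_hs, h0E_hs, h0E_pushZero]
  exact ((Scheme.Modules.pushforward f).toRightDerivedZero.app M).app_smul (U := (⊤ : Y.Opens)) r (h0E M x)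

theorem acyOn_image' {Δ : RDer.DerivedLES (Scheme.Modules.pushforward f)} {S : ShortComplex X.Modules}
    (hS : S.ShortExact) [Injective S.X₂] (h : AcyOn (⊤ : Y.Opens) ((Coh.Rpush f 0).obj S.X₁)) :
    AcyOn (⊤ : Y.Opens) (kernel (Δ.δ S hS 0 1 rfl)) :=
  AcyOn.third (S := imSeq (Δ := Δ) hS) (imSeq_shortExact hS) h (acyOn_rpush_zero_injective S.X₂ ⊤)

variable (f) in
/-- The compatibility with functions on the base. -/
def IsLeray {F : X.Modules} {G : Y.Modules} {p q : ℕ} (e : HC X F p ≃+ HC Y G q) : Prop :=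
  ∀ (r : Coh.Γtop Y) (x : HC X F p), e (hs (f.appTop r) F p x) = hs r G q (e x)

/-- Cohomology through the zeroth direct image. -/
theorem exists_leray_zero (Δ : RDer.DerivedLES (Scheme.Modules.pushforward f)) :
    ∀ (a : ℕ) (F : X.Modules), (∀ b, 0 < b → IsZero ((Coh.Rpush f b).obj F)) →
      ∃ e : HC X F a ≃+ HC Y ((Coh.Rpush f 0).obj F) a, IsLeray f e := by
  intro a
  induction a with
  | zero => exact fun F _ => ⟨pushZero f F, fun r x => pushZero_hs r F x⟩
  | succ a ih =>
    intro F hF
    have hS := injSeqM_shortExact F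
    let S := injSeqM F
    have hσ := imSeq_shortExact (Δ := Δ) hS
    let K := kernel (Δ.δ S hS 0 1 rfl)
    let j : K ⟶ (Coh.Rpush f 0).obj S.X₃ := kernel.ι _
    haveI : IsIso j := (deltaSeq_shortExact (Δ := Δ) hS).isIso_f_iff.2 (hF 1 Nat.one_pos)
    have hQ : ∀ b, 0 < b → IsZero ((Coh.Rpush f b).obj S.X₃) := fun b hb => by
      obtain ⟨c, rfl⟩ : ∃ c, b = c + 1 := ⟨b - 1, by omega⟩
      have := isIso_delta (Δ := Δ) hS c
      exact (hF (c + 2) (by omega)).of_iso (asIso (Δ.δ S hS (c + 1) (c + 2) rfl))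
    have hIY := fun n => subsingleton_HC_rpush_injective (f := f) S.X₂ n
    have hIX := fun n => LerayLowLib.subsingleton_HC_injective S.X₂ n
    have hj : ∀ (n : ℕ) (z : HC Y ((Coh.Rpush f 0).obj S.X₃) n), hm j n (hm (inv j) n z) = z := fun n z => by
      rw [← hm_comp, IsIso.inv_hom_id, hm_id]
    have hj' : ∀ (n : ℕ) (z : HC Y K n), hm (inv j) n (hm j n z) = z := fun n z => by
      rw [← hm_comp, IsIso.hom_inv_id, hm_id]
    -- the comparison one degree lower, natural in degree zero
    obtain ⟨E, hE, hE0⟩ : ∃ E : HC X S.X₃ a ≃+ HC Y ((Coh.Rpush f 0).obj S.X₃) a, IsLeray f E ∧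
        ∀ h : a = 0, ∀ x, E x = h ▸ pushZero f S.X₃ (h ▸ x) := by
      cases a with
      | zero => exact ⟨pushZero f S.X₃, fun r x => pushZero_hs r _ x, fun _ _ => rfl⟩
      | succ a =>
        obtain ⟨E, hE⟩ := ih S.X₃ hQ
        exact ⟨E, hE, fun h => absurd h (Nat.succ_ne_zero a)⟩
    refine exists_equiv_of_surjective (hd hS a)
      ((hd hσ a).comp ((hm (inv j) a).comp E.toAddMonoidHom))
      (fun y => hd_exact₁ hS a y (@Subsingleton.elim _ (hIX a) _ _)) (fun y => ?_) (fun x => ?_)
      (fun r => hs (f.appTop r) S.X₃ a) (fun r => hs (f.appTop r) F (a + 1))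
      (fun r => hs r _ (a + 1)) (fun r x => hd_hs hS _ a x) (fun r x => ?_)
    · obtain ⟨z, rfl⟩ := hd_exact₁ hσ a y (@Subsingleton.elim _ (hIY a) _ _)
      exact ⟨E.symm (hm j a z), by
        show hd hσ a (hm (inv j) a (E (E.symm (hm j a z)))) = hd hσ a z
        rw [AddEquiv.apply_symm_apply, hj']⟩
    · show hd hS a x = 0 ↔ hd hσ a (hm (inv j) a (E x)) = 0
      cases a with
      | zero =>
        have e0 : ∀ w : HC X S.X₂ 0, E (hm S.g 0 w) =
            hm j 0 (hm (imSeq (Δ := Δ) hS).g 0 (pushZero f S.X₂ w)) := fun w => by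
          rw [hE0 rfl, ← hm_comp, kernel.lift_ι]
          exact pushZero_hm S.g w
        constructor
        · intro h
          obtain ⟨w, rfl⟩ := hd_exact₃ hS 0 x h
          rw [e0, hj']
          exact hm_g_hd hσ 0 _
        · intro h
          obtain ⟨w, hw⟩ := hd_exact₃ hσ 0 _ h
          obtain ⟨w, rfl⟩ := (pushZero f S.X₂).surjective w
          have : x = hm S.g 0 w := E.injective (by rw [e0, hw, hj])
          rw [this]; exact hm_g_hd hS 0 w
      | succ a =>
        constructor
        · intro h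
          obtain ⟨w, rfl⟩ := hd_exact₃ hS (a + 1) x h
          rw [@Subsingleton.elim _ (hIX a) w 0, map_zero, map_zero, map_zero, map_zero]
        · intro h
          obtain ⟨w, hw⟩ := hd_exact₃ hσ (a + 1) _ h
          rw [@Subsingleton.elim _ (hIY a) w 0, map_zero] at hw
          have h1 := congrArg (hm j (a + 1)) hw
          rw [map_zero, hj] at h1
          rw [E.injective (h1.symm.trans (map_zero E).symm), map_zero]
    · show hd hσ a (hm (inv j) a (E (hs (f.appTop r) S.X₃ a x))) = hs r _ (a + 1) (hd hσ a (hm (inv j) a (E x)))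
      exact (congrArg _ ((congrArg _ (hE r x)).trans (hm_hs (inv j) r a _))).trans (hd_hs hσ r a _)

/-- Cohomology through a single higher direct image, the lower ones being acyclic. -/
theorem exists_leray (Δ : RDer.DerivedLES (Scheme.Modules.pushforward f)) :
    ∀ (i : ℕ) (F : X.Modules), (∀ b, b < i → AcyOn (⊤ : Y.Opens) ((Coh.Rpush f b).obj F)) →
      (∀ b, i < b → IsZero ((Coh.Rpush f b).obj F)) →
      ∀ a, ∃ e : HC X F (a + i) ≃+ HC Y ((Coh.Rpush f i).obj F) a, IsLeray f e := by
  intro i
  induction i with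
  | zero => exact fun F _ hF a => exists_leray_zero Δ a F hF
  | succ i ih =>
    intro F hlow hhigh a
    have hS := injSeqM_shortExact F
    let S := injSeqM F
    have hK : AcyOn (⊤ : Y.Opens) (kernel (Δ.δ S hS 0 1 rfl)) := acyOn_image' hS (hlow 0 (Nat.succ_pos i))
    have hσ := imSeq_shortExact (Δ := Δ) hS
    have hδ := deltaSeq_shortExact (Δ := Δ) hS
    have hQh : ∀ b, i < b → IsZero ((Coh.Rpush f b).obj S.X₃) := fun b hb => by
      obtain ⟨c, rfl⟩ : ∃ c, b = c + 1 := ⟨b - 1, by omega⟩
      have := isIso_delta (Δ := Δ) hS c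
      exact (hhigh (c + 2) (by omega)).of_iso (asIso (Δ.δ S hS (c + 1) (c + 2) rfl))
    have hQl : ∀ b, b < i → AcyOn (⊤ : Y.Opens) ((Coh.Rpush f b).obj S.X₃) := fun b hb => by
      cases b with
      | zero => exact AcyOn.middle (S := deltaSeq (Δ := Δ) hS) hδ hK (hlow 1 (by omega))
      | succ c =>
        have := isIso_delta (Δ := Δ) hS c
        exact (hlow (c + 2) (by omega)).of_iso (asIso (Δ.δ S hS (c + 1) (c + 2) rfl)).symm
    have hIX := fun n => LerayLowLib.subsingleton_HC_injective S.X₂ n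
    let δ := Δ.δ S hS i (i + 1) rfl
    -- the connecting morphism on the cohomology of the base
    have hsurj : Function.Surjective (hm δ a) := by
      cases i with
      | zero =>
        intro y
        exact hd_exact₃ hδ a y (@Subsingleton.elim _ (subsingleton_HC_of_acyOn hK a) _ _) |>.imp fun z h => h
      | succ c =>
        have := isIso_delta (Δ := Δ) hS c
        exact fun y => ⟨hm (inv δ) a y, by rw [← hm_comp, IsIso.inv_hom_id, hm_id]⟩
    have hinj : 0 < a + i → ∀ z, hm δ a z = 0 → z = 0 := by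
      intro hai z hz
      cases i with
      | zero =>
        obtain ⟨w, rfl⟩ := hd_exact₂ hδ a z hz
        obtain ⟨b, rfl⟩ : ∃ b, a = b + 1 := ⟨a - 1, by omega⟩
        rw [@Subsingleton.elim _ (subsingleton_HC_of_acyOn hK b) w 0, map_zero]
      | succ c =>
        have := isIso_delta (Δ := Δ) hS c
        have h1 := congrArg (hm (inv δ) a) hz
        rwa [map_zero, ← hm_comp, IsIso.hom_inv_id, hm_id] at h1
    rcases Nat.eq_zero_or_pos (a + i) with h0 | h0
    · obtain ⟨rfl, rfl⟩ : a = 0 ∧ i = 0 := by omega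
      refine exists_equiv_of_surjective (hd hS 0) ((hm δ 0).comp (pushZero f S.X₃).toAddMonoidHom)
        (fun y => hd_exact₁ hS 0 y (@Subsingleton.elim _ (hIX 0) _ _))
        (fun y => ?_) (fun x => ⟨fun h => ?_, fun h => ?_⟩)
        (fun r => hs (f.appTop r) S.X₃ 0) (fun r => hs (f.appTop r) F 1)
        (fun r => hs r _ 0) (fun r x => hd_hs hS _ 0 x) (fun r x => ?_)
      · obtain ⟨z, rfl⟩ := hsurj y
        exact ⟨(pushZero f S.X₃).symm z, congrArg (hm δ 0) ((pushZero f S.X₃).apply_symm_apply z)⟩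
      · obtain ⟨w, rfl⟩ := hd_exact₃ hS 0 x h
        simp only [AddMonoidHom.coe_comp, AddEquiv.coe_toAddMonoidHom, Function.comp_apply]
        rw [pushZero_hm, ← hm_comp, Δ.comp_δ S hS 0 1 rfl]
        exact congr($(show hm (0 : (Coh.Rpush f 0).obj S.X₂ ⟶ (Coh.Rpush f 1).obj S.X₁) 0 = 0 from
          AddMonoidHom.ext fun v => by
            apply (h0E _).injective
            rw [h0E_hm, AddMonoidHom.zero_apply, map_zero]
            rfl) (pushZero f S.X₂ w))
      · simp only [AddMonoidHom.coe_comp, AddEquiv.coe_toAddMonoidHom, Function.comp_apply] at h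
        obtain ⟨z, hz⟩ := hd_exact₂ hδ 0 _ h
        obtain ⟨w, hw⟩ := hd_exact₃ hσ 0 z
          (@Subsingleton.elim _ (subsingleton_HC_of_acyOn (hlow 0 Nat.one_pos) 0) _ _)
        obtain ⟨w, rfl⟩ := (pushZero f S.X₂).surjective w
        have : x = hm S.g 0 w := (pushZero f S.X₃).injective (by
          rw [pushZero_hm, ← hz, ← hw, ← hm_comp, kernel.lift_ι])
        rw [this]; exact hm_g_hd hS 0 w
      · simp only [AddMonoidHom.coe_comp, AddEquiv.coe_toAddMonoidHom, Function.comp_apply]
        rw [pushZero_hs, hm_hs]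
    · obtain ⟨E, hE⟩ := ih S.X₃ hQl hQh a
      refine exists_equiv_of_surjective (hd hS (a + i)) ((hm δ a).comp E.toAddMonoidHom)
        (fun y => hd_exact₁ hS (a + i) y (@Subsingleton.elim _ (hIX (a + i)) _ _))
        (fun y => ?_) (fun x => ⟨fun h => ?_, fun h => ?_⟩)
        (fun r => hs (f.appTop r) S.X₃ (a + i)) (fun r => hs (f.appTop r) F (a + i + 1))
        (fun r => hs r _ a) (fun r x => hd_hs hS _ (a + i) x) (fun r x => ?_)
      · obtain ⟨z, rfl⟩ := hsurj y
        exact ⟨E.symm z, congrArg (hm δ a) (E.apply_symm_apply z)⟩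
      · obtain ⟨w, rfl⟩ := hd_exact₃ hS (a + i) x h
        obtain ⟨b, hb⟩ : ∃ b, a + i = b + 1 := ⟨a + i - 1, by omega⟩
        have hs0 : Subsingleton (HC X S.X₂ (a + i)) := by rw [hb]; exact hIX b
        rw [@Subsingleton.elim _ hs0 w 0, map_zero]
        exact map_zero _
      · simp only [AddMonoidHom.coe_comp, AddEquiv.coe_toAddMonoidHom, Function.comp_apply] at h
        rw [E.injective ((hinj h0 _ h).trans (map_zero E).symm), map_zero]
      · simp only [AddMonoidHom.coe_comp, AddEquiv.coe_toAddMonoidHom, Function.comp_apply]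
        rw [hE, hm_hs]

end AVIndexLib

end
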