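import Groth.Agent.AVIndexLib.TopPoint
import Groth.Agent.AVIndexLib.LerayShift
import Groth.Agent.CurvLib.EulerTensor
import Mathlib.AlgebraicGeometry.Artinian

/-!
The cohomology of a family whose triviality locus is a finite closed subscheme.
-/

set_option autoImplicit false
set_option maxHeartbeats 1000000
set_option maxRecDepth 8000
set_option backward.isDefEq.respectTransparency false
set_option linter.style.haveILetI false
set_option linter.unusedSectionVars false

noncomputable section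

universe u

open CategoryTheory CategoryTheory.Limits AlgebraicGeometry TopologicalSpace CohCmpLib IsLocalRing
open AVVanishLib (support_subset_of_isZero_nhds topologicalKrullDim_le_zero_of_finite)

namespace AVIndexLib

/-- A test map factoring through a closed subscheme kills its ideal. -/
theorem ker_le_of_factor {Z S : Scheme.{u}} (i : Z ⟶ S) [IsClosedImmersion i] (w : Z)
    (I : Ideal (S.presheaf.stalk (i w))) (hI : I ≤ maximalIdeal (S.presheaf.stalk (i w)))
    (v : Spec (CommRingCat.of (S.presheaf.stalk (i w) ⧸ I)) ⟶ Z)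
    (hv : v ≫ i = testMap (i w) (S.presheaf.stalk (i w) ⧸ I)) :
    RingHom.ker (i.stalkMap w).hom ≤ I := by
  haveI : Nontrivial (S.presheaf.stalk (i w) ⧸ I) := Ideal.Quotient.nontrivial_iff.2 fun h =>
    (maximalIdeal.isMaximal _).ne_top (top_le_iff.1 (h ▸ hI))
  haveI : IsLocalRing (S.presheaf.stalk (i w) ⧸ I) :=
    IsLocalRing.of_surjective' _ Ideal.Quotient.mk_surjective
  haveI : IsLocalHom (algebraMap (S.presheaf.stalk (i w)) (S.presheaf.stalk (i w) ⧸ I)) :=
    IsLocalHom.of_surjective _ Ideal.Quotient.mk_surjective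
  let C : CommRingCat.{u} := CommRingCat.of (S.presheaf.stalk (i w) ⧸ I)
  let q : S.presheaf.stalk (i w) ⟶ C := CommRingCat.ofHom (algebraMap (S.presheaf.stalk (i w)) _)
  have hw : v (closedPoint C) = w := by
    refine i.isClosedEmbedding.injective ?_
    change (v ≫ i) (closedPoint C) = i w
    rw [hv]
    change (S.fromSpecStalk (i w)) ((Spec.map q) (closedPoint C)) = i w
    rw [show (Spec.map q) (closedPoint C) = closedPoint (S.presheaf.stalk (i w)) from
      IsLocalRing.comap_closedPoint q.hom, Scheme.fromSpecStalk_closedPoint]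
  have hex : ∀ w' : Z, v (closedPoint C) = w' →
      ∃ φ : Z.presheaf.stalk w' ⟶ C, IsLocalHom φ.hom ∧ v = Spec.map φ ≫ Z.fromSpecStalk w' := by
    rintro w' rfl
    exact ⟨Scheme.stalkClosedPointTo v, inferInstance, (Scheme.Spec_stalkClosedPointTo_fromSpecStalk v).symm⟩
  obtain ⟨φ, hφ, hvφ⟩ := hex w hw
  haveI := hφ
  have hql : IsLocalHom q.hom := IsLocalHom.of_surjective _ Ideal.Quotient.mk_surjective
  haveI : IsLocalHom (i.stalkMap w ≫ φ).hom := by
    rw [CommRingCat.hom_comp]; infer_instance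
  have key : (SpecToEquivOfLocalRing S C).symm ⟨i w, i.stalkMap w ≫ φ, inferInstance⟩ =
      (SpecToEquivOfLocalRing S C).symm ⟨i w, q, hql⟩ := by
    change Spec.map (i.stalkMap w ≫ φ) ≫ S.fromSpecStalk (i w) = testMap (i w) _
    rw [← hv, hvφ, Spec.map_comp, Category.assoc, Category.assoc, Scheme.SpecMap_stalkMap_fromSpecStalk]
  have h := eq_of_heq (Sigma.mk.inj_iff.1 ((SpecToEquivOfLocalRing S C).symm.injective key)).2
  intro r hr
  have h2 : φ.hom ((i.stalkMap w).hom r) = Ideal.Quotient.mk I r :=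
    congr(($(congrArg Subtype.val h)).hom r)
  rw [RingHom.mem_ker.1 hr, map_zero] at h2
  exact Ideal.Quotient.eq_zero_iff_mem.1 h2.symm

/-- The test map of the ideal of a closed subscheme factors through it. -/
theorem exists_factor_ker {Z S : Scheme.{u}} (i : Z ⟶ S) [IsClosedImmersion i] (w : Z) :
    ∃ v : Spec (CommRingCat.of (S.presheaf.stalk (i w) ⧸ RingHom.ker (i.stalkMap w).hom)) ⟶ Z,
      v ≫ i = testMap (i w) (S.presheaf.stalk (i w) ⧸ RingHom.ker (i.stalkMap w).hom) := by
  let J := RingHom.ker (i.stalkMap w).hom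
  let e := RingHom.quotientKerEquivOfSurjective (f := (i.stalkMap w).hom) (i.stalkMap_surjective w)
  refine ⟨Spec.map (CommRingCat.ofHom e.symm.toRingHom) ≫ Z.fromSpecStalk w, ?_⟩
  rw [Category.assoc, ← Scheme.SpecMap_stalkMap_fromSpecStalk, ← Category.assoc, ← Spec.map_comp]
  congr 2
  ext r
  change e.symm ((i.stalkMap w).hom r) = Ideal.Quotient.mk J r
  rw [RingEquiv.symm_apply_eq]
  rfl

theorem isArtinianScheme_of_finite {k : Type u} [Field k] {Z : Scheme.{u}} (c : Z ⟶ Spec (CommRingCat.of k))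
    [IsFinite c] : IsArtinianScheme Z := by
  haveI : IsAffine Z := isAffine_of_isAffineHom c
  let σ : k →+* Γ(Z, ⊤) := c.appTop.hom.comp (Scheme.ΓSpecIso (CommRingCat.of k)).inv.hom
  letI : Algebra k Γ(Z, ⊤) := σ.toAlgebra
  haveI : Module.Finite k Γ(Z, ⊤) :=
    (c.finite_appTop).comp (RingHom.Finite.of_surjective _
      (ConcreteCategory.bijective_of_isIso (Scheme.ΓSpecIso (CommRingCat.of k)).inv).2)
  haveI : IsArtinianRing Γ(Z, ⊤) := IsArtinianRing.of_finite k _
  haveI : IsLocallyArtinian Z := IsLocallyArtinian.of_isImmersion (f := Z.isoSpec.hom)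
  haveI : CompactSpace Z := inferInstance
  exact {}

variable {k : Type u} [Field k] {X S V Z : Scheme.{u}} {f : X ⟶ S} {a : V ⟶ Spec (CommRingCat.of k)} [IsProper a]
  {pr : X ⟶ V} {b : S ⟶ Spec (CommRingCat.of k)} [IsProper b] [IsProper f] [Flat f]
  [LocallyOfFinitePresentation f] [GeometricallyIntegral f] [HasInjectiveResolutions X.Modules]

/-- A family with finite triviality locus has cohomology the functions on that locus, in the middle degree. -/
theorem family_top (hsq : IsPullback pr f a b) {L : X.Modules} (hL : PicF.IsInvertible L) {g : ℕ} (hg : 0 < g)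
    (i : Z ⟶ S) [IsClosedImmersion i] [IsFinite (i ≫ b)]
    (hreg : ∀ z : S, IsClosed ({z} : Set S) → ∃ rs : List (S.presheaf.stalk z),
      RingTheory.Sequence.IsWeaklyRegular (S.presheaf.stalk z) rs ∧ g ≤ rs.length ∧
        ∀ x ∈ rs, x ∈ maximalIdeal (S.presheaf.stalk z))
    (hout : ∀ y p, y ∉ Set.range i → Subsingleton (CohIII.fiberH f L y p))
    (hhigh : ∀ y p, g < p → Subsingleton (CohIII.fiberH f L y p))
    (hloc : ∀ (w : Z) (I : Ideal (S.presheaf.stalk (i w))), I ≤ maximalIdeal (S.presheaf.stalk (i w)) →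
      (TrivOver f L (testMap (i w) (S.presheaf.stalk (i w) ⧸ I)) ↔
        ∃ v, v ≫ i = testMap (i w) (S.presheaf.stalk (i w) ⧸ I))) :
    (∀ p, p ≠ g → IsZero ((Coh.Rpush f p).obj L)) ∧
    CohB1.support ((Coh.Rpush f g).obj L) ⊆ Set.range i ∧
    (∀ w : Z, Nonempty (((Coh.Rpush f g).obj L).presheaf.stalk (i w) ≃ₗ[S.presheaf.stalk (i w)]
      (S.presheaf.stalk (i w) ⧸ RingHom.ker (i.stalkMap w).hom))) ∧
    (∀ n, n ≠ g → Subsingleton (Coh.HH X L n)) ∧
    @Module.finrank k (Coh.HH X L g) _ _ (@Coh.moduleOver k _ X ⟨f ≫ b⟩ L g) =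
      @Module.finrank k Γ(Z, ⊤) _ _ (Module.compHom Γ(Z, ⊤) (show k →+* Γ(Z, ⊤) from Coh.toGlobal (i ≫ b))) := by
  letI : S.Over (Spec (CommRingCat.of k)) := ⟨b⟩
  letI : X.Over (Spec (CommRingCat.of k)) := ⟨f ≫ b⟩
  letI : Z.Over (Spec (CommRingCat.of k)) := ⟨i ≫ b⟩
  haveI : IsProper (S ↘ Spec (CommRingCat.of k)) := ‹IsProper b›
  haveI := CurvLib.isNoetherian k (X := S)
  haveI : IsLocallyNoetherian X := LocallyOfFiniteType.isLocallyNoetherian f
  haveI : IsArtinianScheme Z := isArtinianScheme_of_finite (i ≫ b)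
  let T : Set S := Set.range i
  have hT : T.Finite := Set.finite_range i
  have hTc : ∀ z ∈ T, IsClosed ({z} : Set S) := by
    rintro _ ⟨w, rfl⟩
    simpa using i.isClosedEmbedding.isClosedMap _ (isClosed_discrete ({w} : Set Z))
  have hTcl : IsClosed T := i.isClosedEmbedding.isClosed_range
  obtain ⟨hq', hfp, hfl⟩ := CohCmpLib.rank_one_hyps f ((CohCmpLib.invertible_iff_rank_one L).1 hL)
  haveI := hq'
  have hLc : Coh.IsCoh L := CurvLib.isCoh_of_isInvertible hL
  have hsupp : ∀ p, CohB1.support ((Coh.Rpush f p).obj L) ⊆ T := fun p =>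
    support_subset_of_isZero_nhds _ fun x hx =>
      CohCmpLib.exists_vanishing_nhd_at hfp hfl p x (hout x p hx)
  have hzero : ∀ p, p ≠ g → IsZero ((Coh.Rpush f p).obj L) := fun p hp => by
    rcases lt_or_gt_of_ne hp with hp | hp
    · exact isZero_rpush_of_finite_support hLc hfp hfl hT hTc hsupp g (fun z hz => hreg z (hTc z hz)) p hp
    · exact CohCmpLib.isZero_rpush_of_fibre hfp hfl p fun s => hhigh s p hp
  let M := (Coh.Rpush f g).obj L
  have hMc : Coh.IsCoh M := Groth.Agent.S0036.result f L hLc g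
  haveI := hMc.1
  have hstalk : ∀ w : Z, Nonempty (M.presheaf.stalk (i w) ≃ₗ[S.presheaf.stalk (i w)]
      (S.presheaf.stalk (i w) ⧸ RingHom.ker (i.stalkMap w).hom)) := fun w => by
    let R := S.presheaf.stalk (i w)
    have hz : IsClosed ({i w} : Set S) := hTc _ ⟨w, rfl⟩
    obtain ⟨rs, hrs, hlen, hmem⟩ := hreg (i w) hz
    have hJ : RingHom.ker (i.stalkMap w).hom ≤ maximalIdeal R :=
      IsLocalRing.le_maximalIdeal (RingHom.ker_ne_top _)
    obtain ⟨tm⟩ : TrivOver f L (testMap (i w) (R ⧸ maximalIdeal R)) := by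
      refine (hloc w _ le_rfl).2 ?_
      obtain ⟨v, hv⟩ := exists_factor_ker i w
      refine ⟨Spec.map (CommRingCat.ofHom (Ideal.Quotient.factor hJ)) ≫ v, ?_⟩
      rw [Category.assoc, hv, testMap, ← Category.assoc, ← Spec.map_comp]
      rfl
    refine stalk_top hsq hL (i w) hz hg hzero rs hrs hlen hmem (fun x hx σ => ?_) ⟨tm⟩ _ hJ
      ((hloc w _ hJ).2 (exists_factor_ker i w)) fun I hI hI' => ?_
    · -- torsion
      let D : S.Opens := ⟨(⋃ y ∈ T \ {i w}, ({y} : Set S))ᶜ,
        (hT.sdiff.isClosed_biUnion fun y hy => hTc y hy.1).isOpen_compl⟩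
      have hzD : i w ∈ D := fun h => by
        obtain ⟨y, hy, e⟩ := Set.mem_iUnion₂.mp h
        exact hy.2 e.symm
      obtain ⟨W, hW, hzW, hWD⟩ := exists_isAffineOpen_mem_and_subset (x := i w) (U := D) hzD
      letI : Algebra Γ(S, W) R := S.presheaf.algebra_section_stalk ⟨i w, hzW⟩
      let q := (hW.primeIdealOf ⟨i w, hzW⟩).asIdeal
      haveI : IsLocalization.AtPrime R q := hW.isLocalization_stalk ⟨i w, hzW⟩
      obtain ⟨⟨c, s⟩, hcs⟩ := IsLocalization.surj q.primeCompl x
      have hc : c ∈ q := by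
        by_contra hna
        have h1 : IsUnit (algebraMap Γ(S, W) R c) := IsLocalization.map_units R (⟨c, hna⟩ : q.primeCompl)
        rw [← hcs] at h1
        exact hx (isUnit_of_mul_isUnit_left h1)
      obtain ⟨t, rfl⟩ := CurvLib.surjective_germ_of_finite_support M hT hTc (hsupp g) (i w) σ
      let t' := M.presheaf.map (homOfLE (le_top : W ≤ ⊤)).op t
      obtain ⟨N, hN⟩ := QCohLib.exists_pow_smul_eq_zero (M := M) c W hW.isCompact le_rfl t'
        (eq_zero_of_germs _ _ fun y hy => by
          by_contra hne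
          have hyT : y ∈ T := hsupp g ((DevissLib.mem_support_iff_nonzero _ y).2 ⟨_, hne⟩)
          obtain rfl : y = i w := by
            by_contra hne'
            exact hWD hy.1 (Set.mem_biUnion (show y ∈ T \ {i w} from ⟨hyT, hne'⟩) rfl)
          have h1 : IsUnit (S.presheaf.germ W (i w) hy.1 c) := (S.mem_basicOpen c (i w) hy.1).1 hy.2
          exact ((IsLocalization.AtPrime.isUnit_to_map_iff R q c).1 h1) hc)
      refine ⟨N, (IsUnit.smul_eq_zero ((IsLocalization.map_units R s).pow N)).1 ?_⟩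
      rw [smul_smul, ← mul_pow, mul_comm, hcs, ← map_pow]
      have h2 := congrArg (DevissLib.gm M (i w) hzW) (show c ^ N • t' = 0 by simpa using hN)
      rw [DevissLib.gm_smul, DevissLib.gm_zero, DevissLib.gm_map] at h2
      exact h2
    · obtain ⟨v, hv⟩ := (hloc w I hI).1 hI'
      exact ker_le_of_factor i w I hI v hv
  refine ⟨hzero, hsupp g, hstalk, fun n hn => subsingleton_HH_antidiagonal f L n fun p q hpq => ?_, ?_⟩
  · rcases Nat.eq_zero_or_pos p with rfl | hp
    · exact subsingleton_HH_isZero (hzero q (by omega)) 0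
    · exact CurvLib.subsingleton_HH_of_support _ hTcl (hsupp q) (d := 0)
        (by exact_mod_cast topologicalKrullDim_le_zero_of_finite hT hTc) p hp
  -- global sections
  obtain ⟨Δ, -⟩ := CohCmpLib.exists_sectCmp f
  have hl := exists_leray Δ g L (fun p hp => acyOn_of_isZero (hzero p hp.ne)) (fun p hp => hzero p hp.ne') 0
  rw [Nat.zero_add] at hl
  obtain ⟨e, he⟩ := hl
  let e₁ : Coh.HH X L g ≃ₗ[k] Coh.HH S M 0 :=
    { e with
      map_smul' := fun c x => by
        refine Eq.trans ?_ (he (Coh.toGlobal (S ↘ Spec (CommRingCat.of k)) c) x)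
        rfl }
  letI := CurvLib.secModule (k := k) M
  letI := CurvLib.secModule (k := k) (Coh.structureModule Z)
  let e₂ := CurvLib.secStalksEquiv (k := k) M hT hTc (hsupp g)
  let e₃ := CurvLib.secStalksEquiv (k := k) (Coh.structureModule Z) (Set.finite_univ (α := Z))
    (fun w _ => isClosed_discrete _) (Set.subset_univ _)
  letI := fun z : T => CurvLib.stalkModule (k := k) M z.1
  letI := fun w : (Set.univ : Set Z) => CurvLib.stalkModule (k := k) (Coh.structureModule Z) w.1
  have h1 : ∀ w : Z,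
      letI := CurvLib.stalkModule (k := k) M (i w)
      letI := CurvLib.stalkModule (k := k) (Coh.structureModule Z) w
      Nonempty ((DevissLib.St (i w)).obj M ≃ₗ[k] (DevissLib.St w).obj (Coh.structureModule Z)) := by
    intro w
    letI := CurvLib.stalkModule (k := k) M (i w)
    letI := CurvLib.stalkModule (k := k) (Coh.structureModule Z) w
    obtain ⟨e⟩ := hstalk w
    let ψ := RingHom.quotientKerEquivOfSurjective (f := (i.stalkMap w).hom) (i.stalkMap_surjective w)
    let σ := CurvLib.stalkStructureEquiv w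
    have hk : ∀ c : k, (i.stalkMap w).hom (Curv2.stalkMap k S (i w) c) = Curv2.stalkMap k Z w c := fun c =>
      Scheme.Hom.germ_stalkMap_apply i ⊤ w trivial _
    exact ⟨{ e.toAddEquiv.trans (ψ.toAddEquiv.trans σ.symm.toAddEquiv) with
      map_smul' := fun c x => by
        change σ.symm (ψ (e (Curv2.stalkMap k S (i w) c • x))) = Curv2.stalkMap k Z w c • σ.symm (ψ (e x))
        rw [map_smul, Algebra.smul_def, map_mul, ← σ.symm.map_smul, smul_eq_mul, ← hk]
        rfl }⟩
  let θ : (Set.univ : Set Z) ≃ T :=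
    (Equiv.Set.univ Z).trans (Equiv.ofInjective i i.isClosedEmbedding.injective)
  let e₄ := (LinearEquiv.piCongrLeft k (fun z : T => (DevissLib.St z.1).obj M) θ).symm.trans
    (LinearEquiv.piCongrRight fun w => (h1 w.1).some)
  letI := Module.compHom Γ(Z, ⊤) (show k →+* Γ(Z, ⊤) from Coh.toGlobal (i ≫ b))
  let e₅ : Γ(Coh.structureModule Z, ⊤) ≃ₗ[k] Γ(Z, ⊤) :=
    { toFun := fun x => x
      invFun := fun x => x
      map_add' := fun _ _ => rfl
      map_smul' := fun _ _ => rfl
      left_inv := fun _ => rfl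
      right_inv := fun _ => rfl }
  exact (((e₁.trans (CurvLib.hhZeroEquiv (k := k) M)).trans (e₂.trans e₄)).trans (e₃.symm.trans e₅)).finrank_eq

end AVIndexLib

end
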