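import Groth.Agent.AVIndexLib.Acyclic
import Groth.Agent.AVVanishLib.Family
import Groth.Agent.CohCmpLib.ChartLink
import Groth.Agent.CohCmpLib.Rows
import Groth.Agent.CohCmpLib.SectExists
import Groth.Agent.S0036

/-!
A flat family whose higher direct images have finite support has none below the depth of the base.
-/

set_option autoImplicit false
set_option maxHeartbeats 1000000
set_option maxRecDepth 8000
set_option backward.isDefEq.respectTransparency false
set_option linter.style.haveILetI false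

noncomputable section

universe u

open CategoryTheory CategoryTheory.Limits AlgebraicGeometry TopologicalSpace Opposite TensorProduct
open RingTheory.Sequence CohCmpLib

namespace AVIndexLib

variable {X S : Scheme.{u}} {f : X ⟶ S} {F : X.Modules} {W : S.Opens} (K : Chart f F W)
  (C : Type u) [CommRing C] [Algebra K.A₀ C]

/-- The terms of the complex, with the flat cokernel in degree zero. -/
def term : ℕ → ModuleCat.{u} C
  | 0 => ModuleCat.of C (cokB (K.a 0) C)
  | j + 1 => ModuleCat.of C (C ⊗[K.A₀] (K.mdl.P.X ((j + 1 : ℕ) : ℤ) : Type u))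

/-- The differentials. -/
def diff : ∀ i, (term K C i : Type u) →ₗ[C] term K C (i + 1)
  | 0 => (LinearMap.range ((K.a 0).baseChange C)).liftQ ((K.b 0).baseChange C) (by
      rintro _ ⟨x, rfl⟩
      exact LinearMap.congr_fun (baseChange_comp_eq_zero (K.a 0) (K.b 0) (K.hab 0) (C := C)) x)
  | j + 1 => (K.b (j + 1)).baseChange C

theorem diff_diff : ∀ i z, diff K C (i + 1) (diff K C i z) = 0 := by
  have key : ∀ (p : ℕ) (z : C ⊗[K.A₀] (K.mdl.P.X (p : ℤ) : Type u)),
      (K.b (p + 1)).baseChange C ((K.b p).baseChange C z) = 0 := fun p z => by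
    rw [← LinearMap.comp_apply, ← LinearMap.baseChange_comp, ← ModuleCat.hom_comp, K.mdl.P.d_comp_d]
    simp
  intro i z
  cases i with
  | zero =>
    induction z using Submodule.Quotient.induction_on with
    | H z => exact key 0 z
  | succ j => exact key (j + 1) z

theorem range_a_succ (j : ℕ) : LinearMap.range ((K.a (j + 1)).baseChange C) = LinearMap.range ((K.b j).baseChange C) :=
  range_d_congr K.mdl.P (show ((j + 1 : ℕ) : ℤ) - 1 = (j : ℤ) by omega) ((j + 1 : ℕ) : ℤ) C

theorem range_diff : ∀ j : ℕ, LinearMap.range (diff K C j) = LinearMap.range ((K.a (j + 1)).baseChange C)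
  | 0 => (Submodule.range_liftQ _ _ _).trans (range_a_succ K C 0).symm
  | j + 1 => (range_a_succ K C (j + 1)).symm

theorem flat_term : ∀ i, Module.Flat C (term K C i)
  | 0 => K.fl_zero C
  | j + 1 => inferInstanceAs (Module.Flat C (C ⊗[K.A₀] (K.mdl.P.X ((j + 1 : ℕ) : ℤ) : Type u)))

/-- The class of a cycle of the family in the homology of the chart. -/
theorem exists_class : ∀ (i : ℕ) (z : term K C i), diff K C i z = 0 → ∃ σ : HmB (K.a i) (K.b i) C,
    ∀ r : C, r • σ = 0 → r • z ∈ bdry (fun j => (term K C j : Type u)) (diff K C) i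
  | 0, z, hz => by
    induction z using Submodule.Quotient.induction_on with
    | H y =>
      refine ⟨Submodule.Quotient.mk ⟨y, hz⟩, fun r hr => ?_⟩
      rw [← Submodule.Quotient.mk_smul, Submodule.Quotient.mk_eq_zero, Submodule.mem_comap] at hr
      refine (Submodule.mem_bot C).2 ?_
      show (Submodule.Quotient.mk (r • y) : cokB (K.a 0) C) = 0
      rw [Submodule.Quotient.mk_eq_zero]
      exact hr
  | j + 1, z, hz => by
    refine ⟨Submodule.Quotient.mk ⟨z, hz⟩, fun r hr => ?_⟩
    rw [← Submodule.Quotient.mk_smul, Submodule.Quotient.mk_eq_zero, Submodule.mem_comap] at hr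
    show r • z ∈ LinearMap.range (diff K C j)
    rw [range_diff]
    exact hr

/-- Exactness of the family annihilates the homology of the chart. -/
theorem exists_cycle : ∀ (i : ℕ) (σ : HmB (K.a i) (K.b i) C), ∃ z : term K C i, diff K C i z = 0 ∧
    ∀ r : C, r • z ∈ bdry (fun j => (term K C j : Type u)) (diff K C) i → r • σ = 0
  | 0, σ => by
    obtain ⟨⟨y, hy⟩, rfl⟩ := Submodule.Quotient.mk_surjective _ σ
    refine ⟨Submodule.Quotient.mk y, hy, fun r hr => ?_⟩
    have hr' : (Submodule.Quotient.mk (r • y) : cokB (K.a 0) C) = 0 := (Submodule.mem_bot C).1 hr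
    rw [← Submodule.Quotient.mk_smul, Submodule.Quotient.mk_eq_zero, Submodule.mem_comap]
    exact (Submodule.Quotient.mk_eq_zero _).1 hr'
  | j + 1, σ => by
    obtain ⟨⟨y, hy⟩, rfl⟩ := Submodule.Quotient.mk_surjective _ σ
    refine ⟨y, hy, fun r hr => ?_⟩
    rw [← Submodule.Quotient.mk_smul, Submodule.Quotient.mk_eq_zero, Submodule.mem_comap]
    have hr' : r • y ∈ LinearMap.range (diff K C j) := hr
    rw [range_diff] at hr'
    exact hr'

omit K in
theorem eq_zero_of_germs {S : Scheme.{u}} (M : S.Modules) {V : S.Opens} (s : Γ(M, V))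
    (h : ∀ (x : S) (hx : x ∈ V), DevissLib.gm M x hx s = 0) : s = 0 := by
  refine TopCat.Presheaf.section_ext (F := ⟨M.presheaf, M.isSheaf⟩) V s 0 fun x hx => ?_
  exact (h x hx).trans (map_zero (M.presheaf.germ V x hx).hom).symm

variable [IsProper f] [LocallyOfFinitePresentation f] [Coh.IsQCoh F] [IsLocallyNoetherian X]
  [IsLocallyNoetherian S]

omit K in
/-- Higher direct images with finite support vanish below the length of a regular sequence in the base. -/
theorem isZero_rpush_of_finite_support [HasInjectiveResolutions X.Modules] (hF : Coh.IsCoh F) (hfp : CohB1.IsFP F)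
    (hfl : FlatMod.IsFlatOver f F) {Z : Set S} (hZ : Z.Finite) (hZc : ∀ z ∈ Z, IsClosed ({z} : Set S))
    (hsupp : ∀ i, CohB1.support ((Coh.Rpush f i).obj F) ⊆ Z) (g : ℕ)
    (hreg : ∀ z ∈ Z, ∃ rs : List (S.presheaf.stalk z), IsWeaklyRegular (S.presheaf.stalk z) rs ∧
      g ≤ rs.length ∧ ∀ x ∈ rs, x ∈ IsLocalRing.maximalIdeal (S.presheaf.stalk z))
    (i : ℕ) (hi : i < g) : IsZero ((Coh.Rpush f i).obj F) := by
  refine DevissLib.isZero_of_support_empty (Set.eq_empty_of_forall_notMem fun z hzs => ?_)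
  have hzZ : z ∈ Z := hsupp i hzs
  let M := (Coh.Rpush f i).obj F
  have hcoh : Coh.IsCoh M := Groth.Agent.S0036.result f F hF i
  haveI := hcoh.1
  -- an affine neighbourhood meeting `Z` only at `z`
  let D : S.Opens := ⟨(⋃ y ∈ Z \ {z}, ({y} : Set S))ᶜ,
    (hZ.sdiff.isClosed_biUnion fun y hy => hZc y hy.1).isOpen_compl⟩
  have hzD : z ∈ D := fun h => by
    obtain ⟨y, hy, rfl⟩ := Set.mem_iUnion₂.mp h
    exact hy.2 rfl
  obtain ⟨W, hW, hzW, hWD⟩ := exists_isAffineOpen_mem_and_subset (x := z) (U := D) hzD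
  have honly : ∀ y ∈ W, y ∈ Z → y = z := fun y hy hyZ => by
    by_contra hne
    exact hWD hy (Set.mem_biUnion (show y ∈ Z \ {z} from ⟨hyZ, hne⟩) rfl)
  obtain ⟨K⟩ := exists_chart hfp hfl hW
  letI := K.alg (le_refl W)
  obtain ⟨Δ, ⟨E⟩⟩ := CohCmpLib.exists_sectCmp f
  let A : CommRingCat := Γ(S, W)
  letI : Algebra Γ(S, W) (S.presheaf.stalk z) := S.presheaf.algebra_section_stalk ⟨z, hzW⟩
  let q := (hW.primeIdealOf ⟨z, hzW⟩).asIdeal
  haveI : IsLocalization.AtPrime (S.presheaf.stalk z) q := hW.isLocalization_stalk ⟨z, hzW⟩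
  haveI : Module.Flat Γ(S, W) (S.presheaf.stalk z) := IsLocalization.flat _ q.primeCompl
  -- elements of the prime kill the sections by some power
  have hpow : ∀ p (a : Γ(S, W)), a ∈ q → ∀ σ : Γ((Coh.Rpush f p).obj F, W), ∃ N : ℕ, a ^ N • σ = 0 := by
    intro p a ha σ
    haveI := (Groth.Agent.S0036.result f F hF p).1
    obtain ⟨N, hN⟩ := QCohLib.exists_pow_smul_eq_zero (M := (Coh.Rpush f p).obj F) a W hW.isCompact le_rfl σ
      (eq_zero_of_germs _ _ fun y hy => by
        by_contra hne
        have hyZ : y ∈ Z := hsupp p ((DevissLib.mem_support_iff_nonzero _ y).2 ⟨_, hne⟩)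
        obtain rfl := honly y hy.1 hyZ
        have h1 : IsUnit (S.presheaf.germ W y hy.1 a) := (S.mem_basicOpen a y hy.1).1 hy.2
        exact ((IsLocalization.AtPrime.isUnit_to_map_iff (S.presheaf.stalk y) q a).1 h1) ha)
    refine ⟨N, ?_⟩
    simpa using hN
  let T : ℕ → Type u := fun p => (term K Γ(S, W) p : Type u)
  have htor : ∀ a ∈ q, ∀ p (y : T p), diff K Γ(S, W) p y = 0 →
      ∃ N : ℕ, a ^ N • y ∈ bdry T (diff K Γ(S, W)) p := by
    intro a ha p y hy
    obtain ⟨σ, hσ⟩ := exists_class K Γ(S, W) p y hy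
    obtain ⟨e⟩ := K.nonempty_secEquiv E hW le_rfl p
    obtain ⟨N, hN⟩ := hpow p a ha (e σ)
    exact ⟨N, hσ _ (e.injective (by rw [map_smul, hN, map_zero]))⟩
  haveI : ∀ p, Module.Flat Γ(S, W) (T p) := fun p => flat_term K Γ(S, W) p
  let B := S.presheaf.stalk z
  obtain ⟨rs, hrs, hlen, hmem⟩ := hreg z hzZ
  have hexact := exact_of_torsion rs (fun p => B ⊗[Γ(S, W)] T p) (fun p => (diff K Γ(S, W) p).baseChange B)
    (fun p y => by
      induction y using TensorProduct.induction_on with
      | zero => simp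
      | tmul b y => rw [LinearMap.baseChange_tmul, LinearMap.baseChange_tmul, diff_diff, tmul_zero]
      | add a b ha hb => rw [map_add, map_add, ha, hb, add_zero])
    (fun p => isWeaklyRegular_of_flat hrs _)
    (fun x hx p y hy => by
      obtain ⟨⟨a, s⟩, hs⟩ := IsLocalization.surj q.primeCompl x
      have ha : a ∈ q := by
        by_contra hna
        have h1 : IsUnit (algebraMap Γ(S, W) B a) := IsLocalization.map_units B (⟨a, hna⟩ : q.primeCompl)
        rw [← hs] at h1
        exact hmem x hx (isUnit_of_mul_isUnit_left h1)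
      obtain ⟨N, hN⟩ := torsion_baseChange (d := diff K Γ(S, W)) B (htor a ha) p y hy
      refine ⟨N, ?_⟩
      obtain ⟨v, hv⟩ := (IsLocalization.map_units B s).exists_left_inv
      have e : x = v * algebraMap Γ(S, W) B a := by
        rw [← hs, ← mul_assoc, mul_comm v x, mul_assoc, hv, mul_one]
      rw [e, mul_pow, mul_smul]
      exact Submodule.smul_mem _ _ hN)
  -- all sections of `M` over `W` vanish
  have hsec : ∀ σ : Γ(M, W), σ = 0 := by
    intro σ
    obtain ⟨e⟩ := K.nonempty_secEquiv E hW le_rfl i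
    obtain ⟨y, hy, hy'⟩ := exists_cycle K Γ(S, W) i (e.symm σ)
    have h1 : ((1 : B) ⊗ₜ[Γ(S, W)] y) ∈ bdry (fun p => B ⊗[Γ(S, W)] T p)
        (fun p => (diff K Γ(S, W) p).baseChange B) i :=
      hexact i (lt_of_lt_of_le hi hlen) _ (by rw [LinearMap.baseChange_tmul, hy, tmul_zero])
    obtain ⟨s, hs⟩ := exists_smul_mem_bdry (d := diff K Γ(S, W)) B q.primeCompl i y h1
    have hsσ : (s : Γ(S, W)) • σ = 0 := by
      have := congrArg e (hy' _ hs)
      rwa [map_smul, map_zero, LinearEquiv.apply_symm_apply] at this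
    refine eq_zero_of_germs _ _ fun y hy => ?_
    by_contra hne
    obtain rfl := honly y hy (hsupp i ((DevissLib.mem_support_iff_nonzero _ y).2 ⟨_, hne⟩))
    have h2 := congrArg (DevissLib.gm M y hy) hsσ
    rw [DevissLib.gm_smul, DevissLib.gm_zero] at h2
    exact hne ((IsUnit.smul_eq_zero (IsLocalization.map_units (S.presheaf.stalk y) s)).1 h2)
  obtain ⟨a, ha⟩ := (DevissLib.mem_support_iff_nonzero M z).1 hzs
  obtain ⟨t, ht⟩ := CurvLib.surjective_germ_of_finite_support M hZ hZc (hsupp i) z a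
  refine ha ?_
  rw [← ht]
  show DevissLib.gm M z (show z ∈ (⊤ : S.Opens) from trivial) t = 0
  rw [← DevissLib.gm_map M (le_top : W ≤ ⊤) z hzW t, hsec (M.presheaf.map (homOfLE (le_top : W ≤ ⊤)).op t),
    DevissLib.gm_zero]

end AVIndexLib
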