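import Groth.Agent.DevissLib.KilledImm
import Groth.Agent.CurvLib.EulerTensor
import Groth.Agent.AVIndexLib.Vanish

/-!
A module supported at a point with stalk the local ring of a closed subscheme is its skyscraper.
-/

set_option autoImplicit false
set_option maxHeartbeats 1000000
set_option backward.isDefEq.respectTransparency false
set_option linter.style.haveILetI false

noncomputable section

universe u

open CategoryTheory CategoryTheory.Limits AlgebraicGeometry TopologicalSpace Opposite
open DevissLib
open scoped TensorProduct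

namespace AVIndexLib

/-- A section generating every stalk freely trivializes a module. -/
theorem iso_structure_of_generator {X : Scheme.{u}} (G : X.Modules) (s : Γ(G, ⊤))
    (h : ∀ x : X, Function.Bijective fun r : X.presheaf.stalk x => r • gm G x (U := ⊤) trivial s) :
    Nonempty (Coh.structureModule X ≅ G) := by
  let φ := QCohLib.unitHom G s
  have key : ∀ (x : X) {V : X.Opens} (hV : x ∈ V) (r : Γ(X, V)),
      ((St x).map φ).hom (gm (Coh.structureModule X) x hV r) =
        X.presheaf.germ V x hV r • gm G x (U := ⊤) trivial s := fun x V hV r => by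
    rw [gm_app]
    refine (congrArg (gm G x hV) (QCohLib.unitHom_app G s V r)).trans ?_
    rw [gm_smul, gm_map]
  refine ⟨@asIso _ _ _ _ φ (KFlatLib.isIso_of_stalks φ fun x => ?_)⟩
  rw [ConcreteCategory.isIso_iff_bijective]
  refine ⟨fun a b hab => ?_, fun y => ?_⟩
  · obtain ⟨V, hV, r, rfl⟩ := exists_gm_eq (Coh.structureModule X) x a
    obtain ⟨V', hV', r', rfl⟩ := exists_gm_eq (Coh.structureModule X) x b
    have e : X.presheaf.germ V x hV r = X.presheaf.germ V' x hV' r' :=
      (h x).1 ((key x hV r).symm.trans (hab.trans (key x hV' r')))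
    obtain ⟨W, hW, i₁, i₂, hr⟩ := TopCat.Presheaf.germ_eq X.presheaf x hV hV' r r' e
    rw [← gm_map (Coh.structureModule X) i₁.le x hW, ← gm_map (Coh.structureModule X) i₂.le x hW]
    exact congrArg (gm (Coh.structureModule X) x hW) hr
  · obtain ⟨c, hc⟩ := (h x).2 y
    obtain ⟨V, hV, r, rfl⟩ := TopCat.Presheaf.exists_germ_eq X.presheaf c
    exact ⟨_, (key x hV r).trans hc⟩

variable {Z X : Scheme.{u}} (i : Z ⟶ X) [IsClosedImmersion i] [Subsingleton Z]

/-- A module with support and stalk those of a closed point subscheme is its skyscraper. -/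
theorem exists_iso_push_structure (M : X.Modules) (hs : CohB1.support M ⊆ Set.range i) (w : Z)
    (e : Nonempty (M.presheaf.stalk (i w) ≃ₗ[X.presheaf.stalk (i w)]
      (X.presheaf.stalk (i w) ⧸ RingHom.ker (i.stalkMap w).hom))) :
    Nonempty (M ≅ (Coh.push i).obj (Coh.structureModule Z)) := by
  obtain ⟨e⟩ := e
  let R := X.presheaf.stalk (i w)
  have hann : ∀ (r : R), (i.stalkMap w) r = 0 → ∀ m : M.presheaf.stalk (i w), r • m = 0 := fun r hr m => by
    refine e.injective ?_
    rw [map_smul, map_zero]
    obtain ⟨t, ht⟩ := Ideal.Quotient.mk_surjective (e m)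
    rw [← ht, Algebra.smul_def, Ideal.Quotient.algebraMap_eq, ← map_mul, Ideal.Quotient.eq_zero_iff_mem]
    exact Ideal.mul_mem_right _ _ hr
  have hk : ClSub.KilledByIdeal i.ker M := by
    intro U a ha m
    refine eq_zero_of_germs M _ fun x hx => ?_
    change gm M x hx (a • (show Γ(M, U.1) from m)) = 0
    rw [gm_smul]
    by_cases hxr : x ∈ Set.range i
    · obtain ⟨z, rfl⟩ := hxr
      obtain rfl : z = w := Subsingleton.elim _ _
      refine hann _ ?_ _
      rw [Scheme.Hom.germ_stalkMap_apply]
      rw [Scheme.Hom.ker_apply, RingHom.mem_ker] at ha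
      exact (congrArg _ ha).trans (map_zero _)
    · haveI : Subsingleton ((St x).obj M) := not_not.mp fun h => hxr (hs h)
      exact Subsingleton.elim _ _
  haveI := isIso_unit_of_killed i hk
  let G := (Scheme.Modules.pullback i).obj M
  letI := (i.stalkMap w).hom.toAlgebra
  let f : (St (i w)).obj M → (St w).obj G := fun m =>
    ((KFlatLib.stalkPullIso i w).inv.app M).hom ((1 : Z.presheaf.stalk w) ⊗ₜ[X.presheaf.stalk (i w)] m)
  have hf : Function.Bijective f := bijective_stalk_puSec i hk w
  have hf_smul : ∀ (r : R) m, f (r • m) = i.stalkMap w r • f m := fun r m => by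
    refine Eq.trans (congrArg ((KFlatLib.stalkPullIso i w).inv.app M).hom ?_)
      (((KFlatLib.stalkPullIso i w).inv.app M).hom.map_smul (i.stalkMap w r) _)
    refine Eq.trans ((TensorProduct.tmul_smul r (1 : Z.presheaf.stalk w) m).trans
      (TensorProduct.smul_tmul' r (1 : Z.presheaf.stalk w) m)) ?_
    refine Eq.trans (congrArg (· ⊗ₜ[X.presheaf.stalk (i w)] m) (Algebra.smul_def r (1 : Z.presheaf.stalk w))) ?_
    rfl
  let m₀ : (St (i w)).obj M := e.symm (Ideal.Quotient.mk _ 1)
  obtain ⟨V, hV, s, hs'⟩ := exists_gm_eq G w (f m₀)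
  obtain rfl : V = ⊤ := top_le_iff.1 fun z _ => Subsingleton.elim w z ▸ hV
  obtain ⟨eG⟩ := iso_structure_of_generator G s fun z => by
    obtain rfl : z = w := Subsingleton.elim _ _
    rw [show gm G z (U := ⊤) trivial s = f m₀ from hs']
    refine ⟨fun c c' hcc => ?_, fun y => ?_⟩
    · obtain ⟨r, rfl⟩ := i.stalkMap_surjective z c
      obtain ⟨r', rfl⟩ := i.stalkMap_surjective z c'
      have h2 : r • m₀ = r' • m₀ := hf.1 ((hf_smul r m₀).trans (hcc.trans (hf_smul r' m₀).symm))
      have h3 := congrArg e h2
      rw [map_smul, map_smul, show e m₀ = Ideal.Quotient.mk _ 1 from e.apply_symm_apply _, Algebra.smul_def,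
        Algebra.smul_def, Ideal.Quotient.algebraMap_eq, ← map_mul, ← map_mul, _root_.mul_one, _root_.mul_one,
        Ideal.Quotient.mk_eq_mk_iff_sub_mem, RingHom.mem_ker, map_sub, sub_eq_zero] at h3
      exact h3
    · obtain ⟨m, rfl⟩ := hf.2 y
      obtain ⟨r, hr⟩ := Ideal.Quotient.mk_surjective (e m)
      refine ⟨i.stalkMap z r, (hf_smul r m₀).symm.trans (congrArg f (e.injective ?_))⟩
      rw [map_smul, show e m₀ = Ideal.Quotient.mk _ 1 from e.apply_symm_apply _, ← hr, Algebra.smul_def,
        Ideal.Quotient.algebraMap_eq, ← map_mul, _root_.mul_one]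
  exact ⟨asIso ((Scheme.Modules.pullbackPushforwardAdjunction i).unit.app M) ≪≫ (Coh.push i).mapIso eG.symm⟩

end AVIndexLib

end
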