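import Groth.Agent.AVIndexLib.TopDim
import Groth.Agent.AVIndexLib.TopSky
import Groth.Agent.AVIndexLib.TopFamily
import Groth.Agent.AVIndexLib.FieldExt
import Groth.Agent.AVVanishLib.Basic
import Groth.Agent.CurvLib.StalkSum
import Groth.Agent.AlgSpLib.FibrePts
import Groth.Agent.CohBCLib.Cons

/-!
The cohomology of the Poincaré sheaf.
-/

set_option autoImplicit false
set_option maxHeartbeats 1000000
set_option maxRecDepth 8000
set_option backward.isDefEq.respectTransparency false
set_option linter.style.haveILetI false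
set_option linter.unusedSectionVars false

noncomputable section

universe u

open CategoryTheory CategoryTheory.Limits MonoidalCategory CartesianMonoidalCategory MonObj AlgebraicGeometry
open TopologicalSpace CohCmpLib
open CubeConsLib AVVanishLib AVAmpleLib

namespace AVIndexLib

variable {k : Type u} [Field k]

/-- The fibres of a family algebraically equivalent to zero have no cohomology where it is non-trivial. -/
theorem subsingleton_fiberH_of_nontrivial {A T : Over (Spec (CommRingCat.of k))} [GrpObj A] [IsProper A.hom]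
    [GeometricallyIntegral A.hom] {Λ : (PicF.XT A.hom T).Modules} (hΛ : PicF.IsInvertible Λ)
    (hΛ0 : AbDual.IsPicZeroCl A.hom T (PicF.cl Λ)) {g : ℕ} (hg : topologicalKrullDim A.left = (g : ℕ))
    (y : T.left) (p : ℕ)
    (h : g < p ∨ ∀ (Ω : Type u) [Field Ω] (σ : Spec (CommRingCat.of Ω) ⟶ T.left),
      σ (IsLocalRing.closedPoint Ω) = y → pullA (Limits.pullback.fst (PicF.XTproj A.hom T) σ) (clA hΛ) ≠ 0) :
    Subsingleton (CohIII.fiberH (PicF.XTproj A.hom T) Λ y p) := by
  let q := PicF.XTproj A.hom T
  let pr := Limits.pullback.fst A.hom T.hom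
  haveI : IsProper q := MorphismProperty.pullback_snd (P := @IsProper) A.hom T.hom ‹_›
  let K : Type u := T.left.residueField y
  let Ω : Type u := AlgebraicClosure K
  let ψΩ := Spec.map (CommRingCat.ofHom (algebraMap K Ω))
  let σ : Spec (CommRingCat.of Ω) ⟶ T.left := ψΩ ≫ T.left.fromSpecResidueField y
  let ψk : CommRingCat.of k ⟶ CommRingCat.of Ω := Spec.preimage (σ ≫ T.hom)
  letI : Algebra k Ω := ψk.hom.toAlgebra
  have hξ : Spec.map (CommRingCat.ofHom (algebraMap k Ω)) = σ ≫ T.hom := Spec.map_preimage _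
  let AΩ := (bcF Ω).obj A
  letI : GrpObj AΩ := Functor.grpObjObj
  haveI : IsProper AΩ.hom := inferInstanceAs (IsProper (Limits.pullback.snd A.hom _))
  haveI : GeometricallyIntegral AΩ.hom := inferInstanceAs (GeometricallyIntegral (Limits.pullback.snd A.hom _))
  letI : AΩ.left.Over (Spec (CommRingCat.of Ω)) := ⟨AΩ.hom⟩
  haveI : IsProper (AΩ.left ↘ Spec (CommRingCat.of Ω)) := ‹IsProper AΩ.hom›
  let pA : AΩ.left ⟶ A.left := prBc Ω
  let sA : AΩ.left ⟶ Spec (CommRingCat.of Ω) := AΩ.hom
  have hpA : pA ≫ A.hom = sA ≫ σ ≫ T.hom := by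
    rw [← hξ]
    exact Limits.pullback.condition
  let j : AΩ.left ⟶ PicF.XT A.hom T := Limits.pullback.lift pA (sA ≫ σ) (by rw [Category.assoc]; exact hpA)
  have hj1 : j ≫ pr = pA := Limits.pullback.lift_fst _ _ _
  have hj2 : j ≫ q = sA ≫ σ := Limits.pullback.lift_snd _ _ _
  -- the geometric fibre inside the extension of the fibre
  let XK : Over (Spec (CommRingCat.of K)) := Over.mk (q.fiberToSpecResidueField y)
  haveI : IsProper XK.hom := MorphismProperty.pullback_snd (P := @IsProper) _ _ ‹IsProper q›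
  let W := ((bcF Ω).obj XK).left
  let θ : AΩ.left ⟶ W := Limits.pullback.lift (Limits.pullback.lift j (sA ≫ ψΩ) (by
    rw [Category.assoc]; exact hj2)) sA (Limits.pullback.lift_snd _ _ _)
  let θ' : W ⟶ AΩ.left := Limits.pullback.lift (prBc Ω ≫ q.fiberι y ≫ pr) ((bcF Ω).obj XK).hom (by
    rw [hξ, Category.assoc, Category.assoc, show pr ≫ A.hom = q ≫ T.hom from Limits.pullback.condition,
      ← Category.assoc (q.fiberι y), q.fiber_fac, Category.assoc]
    exact ((Category.assoc _ _ _).symm.trans
      ((congrArg (· ≫ T.left.fromSpecResidueField y ≫ T.hom) Limits.pullback.condition).trans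
        (by simp only [σ, Category.assoc]; rfl))))
  have hθ1 : θ ≫ prBc Ω ≫ q.fiberι y = j := by
    rw [← Category.assoc, show θ ≫ prBc Ω = _ from Limits.pullback.lift_fst _ _ _]
    exact Limits.pullback.lift_fst _ _ _
  have hθ2 : θ ≫ ((bcF Ω).obj XK).hom = sA := Limits.pullback.lift_snd _ _ _
  haveI : IsIso θ := by
    refine ⟨θ', ?_, ?_⟩
    · apply Limits.pullback.hom_ext
      · rw [Category.assoc, show θ' ≫ Limits.pullback.fst A.hom _ = _ from Limits.pullback.lift_fst _ _ _,
          ← Category.assoc (prBc Ω), ← Category.assoc θ, hθ1, hj1, Category.id_comp]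
      · rw [Category.assoc, show θ' ≫ Limits.pullback.snd A.hom _ = _ from Limits.pullback.lift_snd _ _ _, hθ2,
          Category.id_comp]
        rfl
    · apply Limits.pullback.hom_ext
      · rw [Category.assoc, show θ ≫ Limits.pullback.fst _ _ = _ from Limits.pullback.lift_fst _ _ _, Category.id_comp]
        apply Limits.pullback.hom_ext
        · rw [Category.assoc, Limits.pullback.lift_fst]
          apply Limits.pullback.hom_ext
          · exact ((Category.assoc _ _ _).trans (congrArg (θ' ≫ ·) hj1)).trans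
              ((Limits.pullback.lift_fst _ _ _).trans (Category.assoc _ _ _).symm)
          · refine ((Category.assoc _ _ _).trans (congrArg (θ' ≫ ·) hj2)).trans ?_
            refine ((Category.assoc _ _ _).symm.trans
              (congrArg (· ≫ σ) (Limits.pullback.lift_snd _ _ _))).trans ?_
            refine (Category.assoc _ _ _).symm.trans ?_
            refine Eq.trans ?_ ((Category.assoc _ _ _).trans (congrArg (prBc Ω ≫ ·) (q.fiber_fac y).symm) |>.trans
              (Category.assoc _ _ _).symm)
            exact congrArg (· ≫ T.left.fromSpecResidueField y) Limits.pullback.condition.symm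
        · rw [Category.assoc, Limits.pullback.lift_snd]
          refine ((Category.assoc _ _ _).symm.trans
            (congrArg (· ≫ ψΩ) (Limits.pullback.lift_snd _ _ _))).trans ?_
          exact Limits.pullback.condition.symm
      · rw [Category.assoc, show θ ≫ Limits.pullback.snd _ _ = _ from Limits.pullback.lift_snd _ _ _, Category.id_comp]
        exact Limits.pullback.lift_snd _ _ _
  have hFK := AmpleDevLib.isInvertible_pb (q.fiberι y) hΛ
  have hM := AmpleDevLib.isInvertible_pb j hΛ
  refine (subsingleton_HH_bc_iff Ω (X := XK) hFK p).1 ((subsingleton_HH_iff_of_iso θ _ p).1 ?_)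
  refine SerreVanLib.subsingleton_HH_of_iso ((Scheme.Modules.pullback θ).mapIso
    ((Scheme.Modules.pullbackComp (prBc (X := XK) Ω) (q.fiberι y)).app Λ) ≪≫
    (Scheme.Modules.pullbackComp θ (prBc (X := XK) Ω ≫ q.fiberι y)).app Λ ≪≫
    (Scheme.Modules.pullbackCongr hθ1).app Λ) p ?_
  rcases h with hp | hnt
  · haveI := CurvLib.isNoetherian Ω (X := AΩ.left)
    exact CurvLib.subsingleton_HH_of_dim_le (X := AΩ.left) _ ((dim_pullback_eq A).trans hg).le p hp
  have hσ : ∀ x, σ x = y := fun x => T.left.fromSpecResidueField_apply y _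
  have hadd : IsAdditive hM := by
    refine isAdditive_of_isAlgEquivZero ?_
    obtain ⟨L₀, hL₀, -, hLa⟩ := hΛ0
    obtain ⟨eL⟩ : Nonempty (L₀ ≅ Λ) := cl_eq_iff.1 (congrArg toI hL₀)
    have hr : Set.range σ.base = {y} :=
      Set.eq_singleton_iff_unique_mem.2 ⟨⟨IsLocalRing.closedPoint Ω, hσ _⟩, by rintro _ ⟨x, rfl⟩; exact hσ x⟩
    let s : AΩ.left ⟶ Limits.pullback q σ := Limits.pullback.lift j sA hj2
    have := isAlgEquivZero_pullback (Limits.pullback.snd q σ) AΩ.hom s (Limits.pullback.lift_snd _ _ _)
      (hLa y Ω σ hr)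
    exact isAlgEquivZero_iso ((Scheme.Modules.pullbackComp s _).app L₀ ≪≫
      (Scheme.Modules.pullbackCongr (Limits.pullback.lift_fst _ _ _)).app L₀ ≪≫
      (Scheme.Modules.pullback j).mapIso eL) this
  refine AVVanishLib.subsingleton_HH hadd (fun ⟨e⟩ => hnt Ω σ (hσ _) ?_) p
  have h0 : pullA j (clA hΛ) = 0 := by
    rw [pullA_clA _ hΛ, ← clA_one, clA_eq_iff]; exact ⟨e⟩
  let s' : Limits.pullback q σ ⟶ AΩ.left :=
    Limits.pullback.lift (Limits.pullback.fst q σ ≫ pr) (Limits.pullback.snd q σ) (by
      rw [hξ, Category.assoc, show pr ≫ A.hom = q ≫ T.hom from Limits.pullback.condition,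
        Limits.pullback.condition_assoc])
  have hs' : s' ≫ j = Limits.pullback.fst q σ := by
    apply Limits.pullback.hom_ext
    · exact ((Category.assoc _ _ _).trans (congrArg (s' ≫ ·) hj1)).trans (Limits.pullback.lift_fst _ _ _)
    · refine ((Category.assoc _ _ _).trans (congrArg (s' ≫ ·) hj2)).trans ?_
      refine ((Category.assoc _ _ _).symm.trans (congrArg (· ≫ σ) (Limits.pullback.lift_snd _ _ _))).trans ?_
      exact Limits.pullback.condition.symm
  rw [← hs', ← pullA_comp]
  exact (congrArg (pullA s') h0).trans (map_zero _)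

/-- The fibres of a family algebraically equivalent to zero outside its kernel have no cohomology. -/
theorem subsingleton_fiberH_of_family {A T At : Over (Spec (CommRingCat.of k))} [GrpObj A] [IsProper A.hom]
    [GeometricallyIntegral A.hom] [GrpObj At]
    {φ : ∀ T : Over (Spec (CommRingCat.of k)), PicF.Cl (PicF.XT A.hom T) → (T ⟶ At)}
    (hA : AbDual.IsDualAV Scheme.fppfPrecoverage A At φ) {Λ : (PicF.XT A.hom T).Modules} (hΛ : PicF.IsInvertible Λ)
    (hΛ0 : AbDual.IsPicZeroCl A.hom T (PicF.cl Λ)) {g : ℕ} (hg : topologicalKrullDim A.left = (g : ℕ))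
    (y : T.left) (p : ℕ)
    (h : g < p ∨
      (φ T (PicF.cl Λ)).left y ∉ Set.range (η[At] : 𝟙_ (Over (Spec (CommRingCat.of k))) ⟶ At).left) :
    Subsingleton (CohIII.fiberH (PicF.XTproj A.hom T) Λ y p) := by
  refine subsingleton_fiberH_of_nontrivial hΛ hΛ0 hg y p (h.imp id fun hy Ω _ σ hσ h1 => hy ?_)
  have h2 := congr($((ovrHom_comp_eq_one_iff_left _ σ).1 (factor_of_trivial hA hΛ hΛ0 σ h1)) (IsLocalRing.closedPoint Ω))
  rw [Scheme.Hom.comp_apply, hσ] at h2
  exact ⟨_, h2.symm⟩

/-- The structure sheaf is the direct image along an isomorphism. -/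
theorem iso_push_structure_of_isIso {X Y : Scheme.{u}} (c : X ⟶ Y) [IsIso c] :
    Nonempty ((Coh.push c).obj (Coh.structureModule X) ≅ Coh.structureModule Y) := by
  have hk : ClSub.KilledByIdeal c.ker (Coh.structureModule Y) := by
    intro U a ha m
    rw [Scheme.Hom.ker_apply, RingHom.mem_ker] at ha
    have : a = 0 := (ConcreteCategory.bijective_of_isIso (c.app U.1)).1 (ha.trans (map_zero _).symm)
    rw [this, zero_smul]
  haveI := DevissLib.isIso_unit_of_killed c hk
  exact ⟨(asIso ((Scheme.Modules.pullbackPushforwardAdjunction c).unit.app (Coh.structureModule Y)) ≪≫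
    (Coh.push c).mapIso (KFlatLib.pullUnitIso c)).symm⟩

/-- Functions on the base field are one-dimensional. -/
theorem finrank_gamma_of_isIso {X : Scheme.{u}} (c : X ⟶ Spec (CommRingCat.of k)) [IsIso c] :
    @Module.finrank k Γ(X, ⊤) _ _ (Module.compHom _ (show k →+* Γ(X, ⊤) from Coh.toGlobal c)) = 1 := by
  letI := Module.compHom Γ(X, ⊤) (show k →+* Γ(X, ⊤) from Coh.toGlobal c)
  haveI : Nonempty X := ⟨(inv c) (IsLocalRing.closedPoint k)⟩
  have hb : Function.Bijective (Coh.toGlobal c) := by
    change Function.Bijective (c.appTop.hom ∘ (Scheme.ΓSpecIso (CommRingCat.of k)).inv.hom)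
    exact (ConcreteCategory.bijective_of_isIso c.appTop).comp
      (ConcreteCategory.bijective_of_isIso (Scheme.ΓSpecIso (CommRingCat.of k)).inv)
  refine finrank_eq_one (1 : Γ(X, ⊤)) (fun h => one_ne_zero (α := k) (hb.1 ((map_one _).trans (h.trans (map_zero _).symm))))
    fun w => ?_
  obtain ⟨r, hr⟩ := hb.2 w
  refine ⟨r, ?_⟩
  change Coh.toGlobal c r * 1 = w
  rw [_root_.mul_one]
  exact hr

variable {A At : Over (Spec (CommRingCat.of k))} [GrpObj A] [IsProper A.hom] [GeometricallyIntegral A.hom]
  [GrpObj At] [IsProper At.hom] [GeometricallyIntegral At.hom]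
  {φ : ∀ T : Over (Spec (CommRingCat.of k)), PicF.Cl (PicF.XT A.hom T) → (T ⟶ At)}
  (hA : AbDual.IsDualAV Scheme.fppfPrecoverage A At φ)
  {P : (PicF.XT A.hom At).Modules} (hP : PicF.IsInvertible P)
  (hPξ : AbDual.IsPoincareCl A At φ (PicF.cl P))

include hA hP hPξ in
/-- The cohomology of the Poincaré sheaf. -/
theorem poincare_top {g : ℕ} (hg : topologicalKrullDim A.left = (g : ℕ))
    [HasInjectiveResolutions (PicF.XT A.hom At).Modules] :
    let e := (η[At] : 𝟙_ (Over (Spec (CommRingCat.of k))) ⟶ At).left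
    (∀ n, n ≠ g → Subsingleton (Coh.HH (PicF.XT A.hom At) P n)) ∧
    @Module.finrank k (Coh.HH (PicF.XT A.hom At) P g) _ _
        (@Coh.moduleOver k _ (PicF.XT A.hom At) ⟨Limits.pullback.fst A.hom At.hom ≫ A.hom⟩ P g) = 1 ∧
    (∀ p, p ≠ g → IsZero ((Coh.Rpush (PicF.XTproj A.hom At) p).obj P)) ∧
    Nonempty ((Coh.Rpush (PicF.XTproj A.hom At) g).obj P ≅
      (Coh.push e).obj (Coh.structureModule (Spec (CommRingCat.of k)))) := by
  intro e
  obtain ⟨hP0, hφ, hrig⟩ := hPξ
  let q := PicF.XTproj A.hom At
  haveI : LocallyOfFinitePresentation A.hom := LocallyOfFinitePresentation.iff_locallyOfFiniteType.2 inferInstance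
  haveI : IsProper q := MorphismProperty.pullback_snd (P := @IsProper) A.hom At.hom ‹_›
  haveI : Flat q := MorphismProperty.pullback_snd (P := @Flat) A.hom At.hom inferInstance
  haveI : LocallyOfFinitePresentation q :=
    MorphismProperty.pullback_snd (P := @LocallyOfFinitePresentation) A.hom At.hom inferInstance
  haveI : GeometricallyIntegral q := inferInstanceAs (GeometricallyIntegral (Limits.pullback.snd A.hom At.hom))
  haveI : IsClosedImmersion e := isClosedImmersion_eta At
  have he : e ≫ At.hom = 𝟙 _ := Over.w η[At]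
  have hw : Limits.pullback.fst A.hom At.hom ≫ A.hom = q ≫ At.hom := Limits.pullback.condition
  rw [hw]
  rcases Nat.eq_zero_or_pos g with rfl | hgpos
  · -- a point
    haveI : IsIntegral A.left := GeometricallyIntegral.isIntegral_of_subsingleton A.hom
    haveI : Subsingleton A.left := AVAmpleLib.subsingleton_of_dim_zero hg
    haveI : IsIso A.hom := by
      let eA := (η[A] : 𝟙_ (Over (Spec (CommRingCat.of k))) ⟶ A).left
      haveI : IsClosedImmersion eA := isClosedImmersion_eta A
      haveI : IsIntegral A.left := GeometricallyIntegral.isIntegral_of_subsingleton A.hom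
      haveI : Surjective eA := ⟨fun y => ⟨IsLocalRing.closedPoint k, Subsingleton.elim _ _⟩⟩
      haveI : IsIso eA := isIso_of_isClosedImmersion_of_surjective eA
      haveI : IsIso (eA ≫ A.hom) := by rw [show eA ≫ A.hom = 𝟙 _ from Over.w η[A]]; infer_instance
      exact IsIso.of_isIso_comp_left eA A.hom
    haveI : IsIso q := inferInstanceAs (IsIso (Limits.pullback.snd A.hom At.hom))
    let s := PicF.secT A.hom η[A].left (Over.w η[A]) At
    have hsq : s ≫ q = 𝟙 _ := Limits.pullback.lift_snd _ _ _
    have hqs : q ≫ s = 𝟙 _ := by rw [← cancel_mono q, Category.assoc, hsq, Category.comp_id, Category.id_comp]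
    have h0 : clA hP = 0 := by
      have h1 : pullA s (clA hP) = 0 := by
        rw [pullA_clA _ hP, ← clA_one, clA_eq_iff]
        exact cl_eq_iff.1 (congrArg toI hrig)
      have h2 := congrArg (pullA q) h1
      rwa [pullA_comp, hqs, pullA_id, map_zero] at h2
    rw [← clA_one, clA_eq_iff] at h0
    obtain ⟨eP⟩ := h0
    have h1 : (𝟙 At : At ⟶ At) = 1 := by
      rw [← hφ, ← phi_structure hA]
      exact congrArg _ (Quot.sound ⟨eP⟩)
    have h2 : At.hom ≫ e = 𝟙 _ := by
      have h3 := congrArg Over.Hom.left h1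
      rw [Hom.one_def, Over.comp_left, Over.id_left] at h3
      exact h3.symm
    haveI : IsIso At.hom := ⟨e, h2, he⟩
    let c := q ≫ At.hom
    have hq : c ≫ e = q := by simp only [c, Category.assoc, h2, Category.comp_id]
    letI : (PicF.XT A.hom At).Over (Spec (CommRingCat.of k)) := ⟨c⟩
    haveI : IsProper ((PicF.XT A.hom At) ↘ Spec (CommRingCat.of k)) := inferInstanceAs (IsProper c)
    haveI := CurvLib.isNoetherian k (X := PicF.XT A.hom At)
    haveI : Subsingleton (PicF.XT A.hom At) :=
      (Scheme.homeoOfIso (asIso c)).injective.subsingleton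
    refine ⟨fun n hn => CurvLib.subsingleton_HH_of_dim_le (d := 0) _ ?_ n (Nat.pos_of_ne_zero hn), ?_, ?_, ?_⟩
    · exact AlgSpLib.topologicalKrullDim_le_zero_of_subsingleton
    · show Module.finrank k (Coh.HH (PicF.XT A.hom At) P 0) = 1
      rw [(CurvLib.hIso (k := k) eP 0).finrank_eq]
      letI := CurvLib.secModule (k := k) (Coh.structureModule (PicF.XT A.hom At))
      rw [(CurvLib.hhZeroEquiv (k := k) (Coh.structureModule (PicF.XT A.hom At))).finrank_eq]
      exact finrank_gamma_of_isIso c
    · intro p hp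
      obtain ⟨hq', hfp, hfl⟩ := CohCmpLib.rank_one_hyps q ((CohCmpLib.invertible_iff_rank_one P).1 hP)
      haveI := hq'
      exact CohCmpLib.isZero_rpush_of_fibre hfp hfl p fun y =>
        subsingleton_fiberH_of_family hA hP hP0 hg y p (Or.inl (Nat.pos_of_ne_zero hp))
    · obtain ⟨ec⟩ := iso_push_structure_of_isIso c
      exact ⟨CohBCLib.rpushZero q P ≪≫ (Coh.push q).mapIso eP ≪≫
        (Scheme.Modules.pushforwardCongr hq.symm).app _ ≪≫ ((Scheme.Modules.pushforwardComp c e).app _).symm ≪≫
        (Coh.push e).mapIso ec⟩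
  -- positive dimension
  obtain ⟨hd, hhd⟩ := AVAmpleLib.exists_dim_field At
  have hgh : g ≤ hd := by
    have := le_dim_dual hA hg
    rw [hhd] at this
    exact_mod_cast this
  haveI : IsFinite (e ≫ At.hom) := by rw [he]; infer_instance
  have hψ : (φ At (PicF.cl P)).left = 𝟙 _ := congrArg Over.Hom.left hφ
  obtain ⟨hzero, hsupp, hstalk, hvan, hdim⟩ := family_top (IsPullback.of_hasPullback A.hom At.hom) hP hgpos e
    (fun z hz => by
      obtain ⟨rs, h1, h2, h3⟩ := exists_regular_seq hhd z hz
      exact ⟨rs, h1, hgh.trans h2, h3⟩)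
    (fun y p h => subsingleton_fiberH_of_family hA hP hP0 hg y p (Or.inr (by rw [hψ]; exact h)))
    (fun y p h => subsingleton_fiberH_of_family hA hP hP0 hg y p (Or.inl h))
    fun w I hI => by
      haveI : Nontrivial (At.left.presheaf.stalk (e w) ⧸ I) := Ideal.Quotient.nontrivial_iff.2 fun h =>
        (IsLocalRing.maximalIdeal.isMaximal _).ne_top (top_le_iff.1 (h ▸ hI))
      haveI : IsLocalRing (At.left.presheaf.stalk (e w) ⧸ I) :=
        IsLocalRing.of_surjective' _ Ideal.Quotient.mk_surjective
      haveI : IsLocalHom (algebraMap (At.left.presheaf.stalk (e w)) (At.left.presheaf.stalk (e w) ⧸ I)) :=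
        IsLocalHom.of_surjective _ Ideal.Quotient.mk_surjective
      let t := testMap (e w) (At.left.presheaf.stalk (e w) ⧸ I)
      constructor
      · intro h
        have := (ovrHom_comp_eq_one_iff_left _ t).1
          (factor_of_trivial hA hP hP0 t ((trivOver_iff_pullA hP t).1 h))
        rw [hψ, Category.comp_id] at this
        exact ⟨t ≫ At.hom, this.symm⟩
      · rintro ⟨v, hv⟩
        refine trivial_of_factor hA hP hP0 hP (isInvertible_one At.left)
          (by rw [clA_one, map_zero, add_zero]) (e w) _ ((ovrHom_comp_eq_one_iff_left _ t).2 ?_)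
        rw [hψ, Category.comp_id]
        change t = (t ≫ At.hom) ≫ e
        rw [show t ≫ At.hom = v from (congrArg (· ≫ At.hom) hv.symm).trans
          ((Category.assoc _ _ _).trans ((congrArg (v ≫ ·) he).trans (Category.comp_id _)))]
        exact hv.symm
  refine ⟨hvan, ?_, hzero, ?_⟩
  · refine hdim.trans ?_
    haveI : IsIso (e ≫ At.hom) := by rw [he]; infer_instance
    exact finrank_gamma_of_isIso (e ≫ At.hom)
  · haveI : Subsingleton (𝟙_ (Over (Spec (CommRingCat.of k)))).left := inferInstanceAs (Subsingleton (PrimeSpectrum k))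
    exact exists_iso_push_structure e _ hsupp (IsLocalRing.closedPoint k) (hstalk _)

end AVIndexLib

end
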