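import Groth.Agent.AVIndexLib.DualHom
import Groth.Agent.AVIndexLib.TopPoinc
import Groth.Agent.AVIndexLib.MumfordEuler
import Groth.Agent.AVRRLib.Isogeny

/-!
Biduality over a field.
-/

set_option autoImplicit false
set_option maxHeartbeats 1000000
set_option maxRecDepth 8000
set_option backward.isDefEq.respectTransparency false
set_option linter.style.haveILetI false
set_option linter.unusedSectionVars false

noncomputable section

universe u

open CategoryTheory CategoryTheory.Limits MonoidalCategory CartesianMonoidalCategory MonObj AlgebraicGeometry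
open TopologicalSpace CohCmpLib
open CubeConsLib AVVanishLib AVAmpleLib

namespace AVIndexLib

variable {k : Type u} [Field k]

/-- A map lies in the kernel exactly when it factors through the kernel scheme. -/
theorem kernel_factor_iff {T B : Over (Spec (CommRingCat.of k))} [GrpObj B] (ψ : T ⟶ B) {U : Scheme.{u}}
    (v : U ⟶ T.left) :
    AbDual.ovrHom T v ≫ ψ = 1 ↔
      ∃ w, w ≫ Limits.pullback.fst ψ.left (η[B] : 𝟙_ (Over (Spec (CommRingCat.of k))) ⟶ B).left = v := by
  let e := (η[B] : 𝟙_ (Over (Spec (CommRingCat.of k))) ⟶ B).left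
  rw [ovrHom_comp_eq_one_iff_left]
  constructor
  · intro h
    exact ⟨Limits.pullback.lift v _ h, Limits.pullback.lift_fst _ _ _⟩
  · rintro ⟨w, rfl⟩
    have he : e ≫ B.hom = 𝟙 _ := Over.w η[B]
    have h2 : Limits.pullback.snd ψ.left e = Limits.pullback.fst ψ.left e ≫ T.hom := by
      have := congrArg (· ≫ B.hom) (Limits.pullback.condition (f := ψ.left) (g := e))
      rw [Category.assoc, Category.assoc, Over.w ψ, he] at this
      exact ((Category.comp_id _).symm.trans this.symm)
    rw [Category.assoc, Category.assoc, Limits.pullback.condition, h2, Category.assoc]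
    rfl

variable {A T At : Over (Spec (CommRingCat.of k))} [GrpObj A] [IsProper A.hom] [GeometricallyIntegral A.hom]
  [GrpObj T] [IsProper T.hom] [GeometricallyIntegral T.hom]
  [GrpObj At] [IsProper At.hom] [GeometricallyIntegral At.hom]
  {φ : AgPol.DualMap A At} (hA : AbDual.IsDualAV Scheme.fppfPrecoverage A At φ)

include hA in
/-- The cohomology of a family with finite flat classifying map is concentrated in the middle degree. -/
theorem family_top_kernel {Λ : (PicF.XT A.hom T).Modules} (hΛ : PicF.IsInvertible Λ)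
    (hΛ0 : AbDual.IsPicZeroCl A.hom T (PicF.cl Λ)) [IsFinite (φ T (PicF.cl Λ)).left] [Flat (φ T (PicF.cl Λ)).left]
    {g : ℕ} (hgpos : 0 < g) (hg : topologicalKrullDim A.left = (g : ℕ)) (hgT : topologicalKrullDim T.left = (g : ℕ))
    {d : ℕ} (hd : ∀ y : At.left, Scheme.Hom.finrank (φ T (PicF.cl Λ)).left y = d)
    [HasInjectiveResolutions (PicF.XT A.hom T).Modules] :
    (∀ n, n ≠ g → Subsingleton (Coh.HH (PicF.XT A.hom T) Λ n)) ∧
    @Module.finrank k (Coh.HH (PicF.XT A.hom T) Λ g) _ _
        (@Coh.moduleOver k _ (PicF.XT A.hom T) ⟨PicF.XTproj A.hom T ≫ T.hom⟩ Λ g) = d := by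
  let q := PicF.XTproj A.hom T
  let ψ := φ T (PicF.cl Λ)
  let e := (η[At] : 𝟙_ (Over (Spec (CommRingCat.of k))) ⟶ At).left
  haveI : IsClosedImmersion e := isClosedImmersion_eta At
  let i := Limits.pullback.fst ψ.left e
  haveI : IsClosedImmersion i := MorphismProperty.pullback_fst (P := @IsClosedImmersion) _ _ ‹_›
  have he : e ≫ At.hom = 𝟙 _ := Over.w η[At]
  have h2 : Limits.pullback.snd ψ.left e = i ≫ T.hom := by
    have := congrArg (· ≫ At.hom) (Limits.pullback.condition (f := ψ.left) (g := e))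
    rw [Category.assoc, Category.assoc, Over.w ψ, he] at this
    exact ((Category.comp_id _).symm.trans this.symm)
  haveI hfin : IsFinite (i ≫ T.hom) := h2 ▸ MorphismProperty.pullback_snd (P := @IsFinite) _ _ inferInstance
  haveI hflat : Flat (i ≫ T.hom) := h2 ▸ MorphismProperty.pullback_snd (P := @Flat) _ _ inferInstance
  haveI : LocallyOfFinitePresentation A.hom := LocallyOfFinitePresentation.iff_locallyOfFiniteType.2 inferInstance
  haveI : IsProper q := MorphismProperty.pullback_snd (P := @IsProper) A.hom T.hom ‹_›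
  haveI : Flat q := MorphismProperty.pullback_snd (P := @Flat) A.hom T.hom inferInstance
  haveI : LocallyOfFinitePresentation q :=
    MorphismProperty.pullback_snd (P := @LocallyOfFinitePresentation) A.hom T.hom inferInstance
  haveI : GeometricallyIntegral q := inferInstanceAs (GeometricallyIntegral (Limits.pullback.snd A.hom T.hom))
  haveI : Subsingleton (𝟙_ (Over (Spec (CommRingCat.of k)))).left :=
    inferInstanceAs (Subsingleton (PrimeSpectrum k))
  have hrange : ∀ y, ψ.left y ∈ Set.range e → y ∈ Set.range i := fun y ⟨p, hp⟩ => by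
    obtain ⟨z, hz, -⟩ := Scheme.Pullback.exists_preimage_pullback (f := ψ.left) (g := e) y p hp.symm
    exact ⟨z, hz⟩
  obtain ⟨-, -, -, hvan, hdim⟩ := family_top (IsPullback.of_hasPullback A.hom T.hom) hΛ hgpos i
    (fun z hz => exists_regular_seq hgT z hz)
    (fun y p h => subsingleton_fiberH_of_family hA hΛ hΛ0 hg y p (Or.inr fun h' => h (hrange y h')))
    (fun y p h => subsingleton_fiberH_of_family hA hΛ hΛ0 hg y p (Or.inl h))
    fun w I hI => by
      haveI : Nontrivial (T.left.presheaf.stalk (i w) ⧸ I) := Ideal.Quotient.nontrivial_iff.2 fun h =>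
        (IsLocalRing.maximalIdeal.isMaximal _).ne_top (top_le_iff.1 (h ▸ hI))
      haveI : IsLocalRing (T.left.presheaf.stalk (i w) ⧸ I) :=
        IsLocalRing.of_surjective' _ Ideal.Quotient.mk_surjective
      haveI : IsLocalHom (algebraMap (T.left.presheaf.stalk (i w)) (T.left.presheaf.stalk (i w) ⧸ I)) :=
        IsLocalHom.of_surjective _ Ideal.Quotient.mk_surjective
      constructor
      · intro h
        exact (kernel_factor_iff ψ _).1 (factor_of_trivial hA hΛ hΛ0 _ ((trivOver_iff_pullA hΛ _).1 h))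
      · intro h
        exact trivial_of_factor hA hΛ hΛ0 hΛ (isInvertible_one T.left) (by rw [clA_one, map_zero, add_zero]) (i w) _
          ((kernel_factor_iff ψ _).2 h)
  refine ⟨hvan, hdim.trans (finrank_gamma_fibre (i ≫ T.hom) fun x => ?_)⟩
  have hx := Scheme.Hom.finrank_pullback_snd ψ.left e x
  rw [hd] at hx
  exact (congrArg (fun f : _ ⟶ Spec (CommRingCat.of k) => f.finrank x) h2.symm).trans hx

variable {X Xt Xtt : Over (Spec (CommRingCat.of k))} [GrpObj X] [IsProper X.hom] [GeometricallyIntegral X.hom]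
  [GrpObj Xt] [IsProper Xt.hom] [GeometricallyIntegral Xt.hom]
  [GrpObj Xtt] [IsProper Xtt.hom] [GeometricallyIntegral Xtt.hom]
  {φX : AgPol.DualMap X Xt} (hX : AbDual.IsDualAV Scheme.fppfPrecoverage X Xt φX)
  {φXt : AgPol.DualMap Xt Xtt} (hXt : AbDual.IsDualAV Scheme.fppfPrecoverage Xt Xtt φXt)
  {P : (PicF.XT X.hom Xt).Modules} (hP : PicF.IsInvertible P) (hPξ : AbDual.IsPoincareCl X Xt φX (PicF.cl P))

include hX hXt hP hPξ in
/-- The biduality map of an abelian variety is an isomorphism. -/
theorem isIso_bidual_field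
    (h0 : AbDual.IsPicZeroCl Xt.hom X
      (PicF.cl ((Scheme.Modules.pullback (pullbackSymmetry Xt.hom X.hom).hom).obj P))) :
    IsIso (φXt X (PicF.cl ((Scheme.Modules.pullback (pullbackSymmetry Xt.hom X.hom).hom).obj P))).left := by
  let σ := (pullbackSymmetry Xt.hom X.hom).hom
  let P' := (Scheme.Modules.pullback σ).obj P
  have hP' : PicF.IsInvertible P' := AmpleDevLib.isInvertible_pb σ hP
  let κ := φXt X (PicF.cl P')
  haveI : IsCommMonObj X := isCommMonObj_field
  haveI : IsIntegral X.left := GeometricallyIntegral.isIntegral_of_subsingleton X.hom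
  haveI : IsIntegral Xtt.left := GeometricallyIntegral.isIntegral_of_subsingleton Xtt.hom
  have hrig := clA_zero_of_trivialCl _ hP hPξ.2.2
  -- a homomorphism
  haveI : IsMonHom κ := by
    refine isMonHom_of_family hXt hP' h0 ?_
    rw [← pullA_clA σ hP, pullA_comp]
    let s := PicF.secT X.hom η[X].left (Over.w η[X]) Xt
    have e : PicF.XTmap Xt.hom η[X] ≫ σ = Limits.pullback.fst Xt.hom (𝟙_ (Over (Spec (CommRingCat.of k)))).hom ≫ s := by
      apply Limits.pullback.hom_ext
      · rw [Category.assoc, pullbackSymmetry_hom_comp_fst, XTmap_snd, Category.assoc,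
          show s ≫ Limits.pullback.fst X.hom Xt.hom = _ from Limits.pullback.lift_fst _ _ _, ← Category.assoc]
        exact congrArg (· ≫ (η[X] : 𝟙_ (Over (Spec (CommRingCat.of k))) ⟶ X).left)
          ((Category.comp_id _).symm.trans Limits.pullback.condition.symm)
      · rw [Category.assoc, pullbackSymmetry_hom_comp_snd, XTmap_fst, Category.assoc,
          show s ≫ Limits.pullback.snd X.hom Xt.hom = _ from Limits.pullback.lift_snd _ _ _, Category.comp_id]
    rw [e, ← pullA_comp, hrig, map_zero]
  -- finite kernel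
  haveI hfin : IsFinite κ.left := by
    obtain ⟨L, hL, Λ, hΛ, hLa, cΛ⟩ := exists_phiL_data hX
    let ψL := φX X (PicF.cl Λ)
    have hΛ0 := isPicZeroCl_mumford hL cΛ
    haveI : IsReduced X.left := inferInstance
    have hsΛ : pullA (PicF.secT X.hom η[X].left (Over.w η[X]) X) (clA hΛ) = 0 := by
      have e : PicF.secT X.hom η[X].left (Over.w η[X]) X = (lift (1 : X ⟶ X) (𝟙 X)).left := by
        apply Limits.pullback.hom_ext
        · refine (Limits.pullback.lift_fst _ _ _).trans ?_
          refine Eq.trans ?_ (congrArg Over.Hom.left (lift_fst (1 : X ⟶ X) (𝟙 X))).symm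
          rw [Hom.one_def, Over.comp_left]
          rfl
        · exact (Limits.pullback.lift_snd _ _ _).trans (congrArg Over.Hom.left (lift_snd (1 : X ⟶ X) (𝟙 X))).symm
      rw [e]
      show pullA (lift (1 : X ⟶ X) (𝟙 X)).left (clA hΛ : PicA (X ⊗ X).left) = 0
      rw [cΛ, pullA_lam, lift_fst, lift_snd, lam_one_left]
    have hcmp := clA_eq_pullA_poincare hX hP hPξ hΛ hΛ0 hsΛ
    refine isFinite_of_finite_kernel κ (finite_setOf_lam hL hLa _ fun y hy => ?_)
    let V := AbDual.ovr X (X.left.fromSpecResidueField y)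
    let z := AbDual.ovrHom X (X.left.fromSpecResidueField y)
    have h1 := congrArg (pullA (AbDual.bcMap ψL V)) (pullA_eq_zero_of_apply hXt hP' h0 y hy)
    rw [map_zero, ← pullA_clA σ hP, pullA_comp, pullA_comp] at h1
    let g := (lift (snd X V ≫ z) (fst X V)).left
    have e : (AbDual.bcMap ψL V ≫ PicF.XTmap Xt.hom z) ≫ σ = g ≫ PicF.XTmap X.hom ψL := by
      apply Limits.pullback.hom_ext
      · rw [Category.assoc, pullbackSymmetry_hom_comp_fst, Category.assoc, XTmap_snd, ← Category.assoc, bcMap_snd,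
          Category.assoc, XTmap_fst]
        exact (congrArg Over.Hom.left (lift_fst (snd X V ≫ z) (fst X V))).symm
      · rw [Category.assoc, pullbackSymmetry_hom_comp_snd, Category.assoc, XTmap_fst, bcMap_fst, Category.assoc,
          XTmap_snd, ← Category.assoc]
        exact congrArg (· ≫ ψL.left) (congrArg Over.Hom.left (lift_snd (snd X V ≫ z) (fst X V))).symm
    rw [e, ← pullA_comp] at h1
    have h1' : pullA g (clA hΛ : PicA (X ⊗ X).left) = 0 := (congrArg (pullA g) hcmp).trans h1
    rw [cΛ, pullA_lam, lift_fst, lift_snd] at h1'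
    rw [lam_comm]
    exact h1'
  obtain ⟨g, hg⟩ := AVAmpleLib.exists_dim_field X
  have hgt := dim_dual hX hg
  have hgtt := dim_dual hXt hgt
  haveI := surjective_of_finite_dim κ.left hg hgtt
  haveI : LocallyOfFinitePresentation X.hom := LocallyOfFinitePresentation.iff_locallyOfFiniteType.2 inferInstance
  haveI := smooth_hom Xtt
  haveI : Flat κ.left := AbSchLib.flat_of_surjective κ
  haveI : IsLocallyNoetherian Xtt.left := LocallyOfFiniteType.isLocallyNoetherian Xtt.hom
  haveI : LocallyOfFinitePresentation κ.left := LocallyOfFinitePresentation.iff_locallyOfFiniteType.2 inferInstance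
  let o := (η[Xtt] : 𝟙_ (Over (Spec (CommRingCat.of k))) ⟶ Xtt).left (IsLocalRing.closedPoint k)
  let d := κ.left.finrank o
  have hd : ∀ y, κ.left.finrank y = d := fun y => finrank_const κ y o
  suffices d = 1 by
    rw [Scheme.Hom.isIso_iff_finrank_eq]
    funext y
    exact (hd y).trans this
  rcases Nat.eq_zero_or_pos g with rfl | hgpos
  · -- a point
    haveI : Subsingleton X.left := AVAmpleLib.subsingleton_of_dim_zero hg
    haveI : IsIntegral Xt.left := GeometricallyIntegral.isIntegral_of_subsingleton Xt.hom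
    haveI : Subsingleton Xtt.left := AVAmpleLib.subsingleton_of_dim_zero hgtt
    haveI hiso : ∀ (B : Over (Spec (CommRingCat.of k))) [GrpObj B] [IsProper B.hom] [Subsingleton B.left]
        [IsReduced B.left], IsIso B.hom := fun B _ _ _ _ => by
      let eB := (η[B] : 𝟙_ (Over (Spec (CommRingCat.of k))) ⟶ B).left
      haveI : IsClosedImmersion eB := isClosedImmersion_eta B
      haveI : Surjective eB := ⟨fun y => ⟨IsLocalRing.closedPoint k, Subsingleton.elim _ _⟩⟩
      haveI : IsIso eB := isIso_of_isClosedImmersion_of_surjective eB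
      haveI : IsIso (eB ≫ B.hom) := by rw [show eB ≫ B.hom = 𝟙 _ from Over.w η[B]]; infer_instance
      exact IsIso.of_isIso_comp_left eB B.hom
    haveI := hiso X
    haveI := hiso Xtt
    haveI : IsIso (κ.left ≫ Xtt.hom) := by rw [Over.w κ]; infer_instance
    haveI : IsIso κ.left := IsIso.of_isIso_comp_right κ.left Xtt.hom
    exact congrFun (Scheme.Hom.finrank_eq_one_of_isIso κ.left) o
  -- positive dimension: compare the Euler characteristics
  haveI : LocallyOfFinitePresentation Xt.hom := LocallyOfFinitePresentation.iff_locallyOfFiniteType.2 inferInstance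
  haveI : IsProper (X ⊗ Xt).hom := inferInstanceAs (IsProper (pullback.fst X.hom Xt.hom ≫ X.hom))
  haveI : IsProper (Xt ⊗ X).hom := inferInstanceAs (IsProper (pullback.fst Xt.hom X.hom ≫ Xt.hom))
  haveI : GeometricallyIntegral (X ⊗ Xt).hom := CubeConsLib.geometricallyIntegral_prod X.hom Xt.hom
  haveI : GeometricallyIntegral (Xt ⊗ X).hom := CubeConsLib.geometricallyIntegral_prod Xt.hom X.hom
  haveI : IsLocallyNoetherian (X ⊗ Xt).left := LocallyOfFiniteType.isLocallyNoetherian (X ⊗ Xt).hom
  haveI : IsLocallyNoetherian (Xt ⊗ X).left := LocallyOfFiniteType.isLocallyNoetherian (Xt ⊗ X).hom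
  haveI : HasInjectiveResolutions (PicF.XT X.hom Xt).Modules := inferInstanceAs (HasInjectiveResolutions (X ⊗ Xt).left.Modules)
  haveI : HasInjectiveResolutions (PicF.XT Xt.hom X).Modules := inferInstanceAs (HasInjectiveResolutions (Xt ⊗ X).left.Modules)
  obtain ⟨hv, hv1⟩ := family_top_kernel hXt hP' h0 hgpos hgt hg hd
  obtain ⟨hw, hw1, -, -⟩ := poincare_top hX hP hPξ hg
  let β : Xt ⊗ X ⟶ X ⊗ Xt := (β_ Xt X).hom
  haveI : IsIso β.left := inferInstanceAs (IsIso ((Over.forget _).map β))
  have hχ := AVRRLib.euler_pullback β 1 (fun y => by rw [Scheme.Hom.finrank_eq_one_of_isIso]; rfl)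
    (F := (show (X ⊗ Xt).left.Modules from P)) (CurvLib.isCoh_of_isInvertible hP)
  letI : (X ⊗ Xt).left.Over (Spec (CommRingCat.of k)) := ⟨(X ⊗ Xt).hom⟩
  letI : (Xt ⊗ X).left.Over (Spec (CommRingCat.of k)) := ⟨(Xt ⊗ X).hom⟩
  haveI : IsProper ((X ⊗ Xt).left ↘ Spec (CommRingCat.of k)) := inferInstanceAs (IsProper (X ⊗ Xt).hom)
  haveI : IsProper ((Xt ⊗ X).left ↘ Spec (CommRingCat.of k)) := inferInstanceAs (IsProper (Xt ⊗ X).hom)
  have e1 : Curv2.euler k (Xt ⊗ X).left ((Scheme.Modules.pullback β.left).obj P) = (-1 : ℤ) ^ g * (d : ℤ) := by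
    refine (euler_of_concentrated (k := k) (X := (Xt ⊗ X).left) hv).trans ?_
    rw [← hv1]
    congr 3
    exact congrArg (fun h => @Coh.moduleOver k _ (Xt ⊗ X).left ⟨h⟩ P' g) (Over.w (snd Xt X)).symm
  have e2 : Curv2.euler k (X ⊗ Xt).left P = (-1 : ℤ) ^ g * ((1 : ℕ) : ℤ) := by
    refine (euler_of_concentrated (k := k) (X := (X ⊗ Xt).left) hw).trans ?_
    rw [← hw1]
    rfl
  rw [e1, e2, Nat.cast_one, _root_.one_mul, _root_.mul_one] at hχ
  have hu : (-1 : ℤ) ^ g ≠ 0 := pow_ne_zero g (by norm_num)
  exact_mod_cast (mul_eq_left₀ hu).1 hχ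

end AVIndexLib

end
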