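import Groth.Agent.AVIndexLib.MumfordEuler
import Groth.Agent.AVAmpleLib.TateHom
import Groth.Agent.AVRRLib.RR

/-!
The square of the Euler characteristic of a non-degenerate class is the degree of its map to the dual.
-/

set_option autoImplicit false
set_option maxHeartbeats 1000000
set_option maxRecDepth 8000
set_option backward.isDefEq.respectTransparency false
set_option linter.style.haveILetI false
set_option linter.unusedSectionVars false

noncomputable section

universe u

open CategoryTheory CategoryTheory.Limits MonoidalCategory CartesianMonoidalCategory MonObj AlgebraicGeometry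
open TopologicalSpace
open CubeConsLib AVVanishLib

namespace AVIndexLib

variable {k : Type u} [Field k] [IsAlgClosed k]

/-- A point-like abelian variety is the spectrum of the field. -/
theorem isIso_hom_of_subsingleton (A : Over (Spec (CommRingCat.of k))) [GrpObj A] [IsProper A.hom]
    [GeometricallyIntegral A.hom] [Subsingleton A.left] : IsIso A.hom := by
  haveI : IsIntegral A.left := GeometricallyIntegral.isIntegral_of_subsingleton A.hom
  let e : 𝟙_ (Over (Spec (CommRingCat.of k))) ⟶ A := η[A]
  haveI : IsClosedImmersion e.left := isClosedImmersion_one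
  haveI : Surjective e.left := ⟨fun y => ⟨IsLocalRing.closedPoint k, Subsingleton.elim _ _⟩⟩
  haveI : IsIso e.left := isIso_of_isClosedImmersion_of_surjective e.left
  have h : e.left ≫ A.hom = 𝟙 _ := Over.w e
  haveI : IsIso (e.left ≫ A.hom) := by rw [h]; infer_instance
  exact IsIso.of_isIso_comp_left e.left A.hom

variable {A At : Over (Spec (CommRingCat.of k))}
  [GrpObj A] [IsProper A.hom] [GeometricallyIntegral A.hom]
  [GrpObj At] [IsProper At.hom] [GeometricallyIntegral At.hom]
  {φ : ∀ T : Over (Spec (CommRingCat.of k)), PicF.Cl (PicF.XT A.hom T) → (T ⟶ At)}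
  (hA : AbDual.IsDualAV Scheme.fppfPrecoverage A At φ)

local notation "Pt" => 𝟙_ (Over (Spec (CommRingCat.of k))) ⟶ A

include hA in
/-- A non-degenerate class has cohomology in one degree, with dimension squared the degree. -/
theorem mumford_main {g : ℕ} (hg : topologicalKrullDim A.left = (g : ℕ)) {L L' : A.left.Modules}
    (hL : PicF.IsInvertible L) (hLL' : Nonempty (CohB1.tensorMod L L' ≅ Coh.structureModule A.left))
    {Λ : (PicF.XT A.hom A).Modules}
    (hΛ : Nonempty (Λ ≅ CohB1.tensorMod (CohB1.tensorMod ((Scheme.Modules.pullback μ[A].left).obj L)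
      ((Scheme.Modules.pullback (fst A A).left).obj L')) ((Scheme.Modules.pullback (snd A A).left).obj L')))
    (hΛ0 : AbDual.IsPicZeroCl A.hom A (PicF.cl Λ))
    [IsFinite (φ A (PicF.cl Λ)).left] [Flat (φ A (PicF.cl Λ)).left]
    {d : ℕ} (hd : ∀ y : At.left, Scheme.Hom.finrank (φ A (PicF.cl Λ)).left y = d) :
    ∃ i, i ≤ g ∧ Conc L i ∧ @Curv2.euler k _ A.left ⟨A.hom⟩ L ^ 2 = (d : ℤ) := by
  classical
  haveI := isCommMonObj_field (A := A)
  letI : A.left.Over (Spec (CommRingCat.of k)) := ⟨A.hom⟩
  haveI : IsProper (A.left ↘ Spec (CommRingCat.of k)) := ‹IsProper A.hom›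
  haveI : IsIntegral A.left := GeometricallyIntegral.isIntegral_of_subsingleton A.hom
  haveI : IsIntegral At.left := GeometricallyIntegral.isIntegral_of_subsingleton At.hom
  let ψ := φ A (PicF.cl Λ)
  by_cases hg0 : g = 0
  · -- a point
    subst hg0
    haveI : Subsingleton A.left := AVAmpleLib.subsingleton_of_dim_zero hg
    haveI : IsIso A.hom := isIso_hom_of_subsingleton A
    haveI : LocallyOfFinitePresentation At.hom := LocallyOfFinitePresentation.iff_locallyOfFiniteType.2 inferInstance
    haveI : IsLocallyNoetherian At.left := LocallyOfFiniteType.isLocallyNoetherian At.hom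
    haveI : LocallyOfFinitePresentation ψ.left :=
      LocallyOfFinitePresentation.iff_locallyOfFiniteType.2 inferInstance
    haveI : Surjective ψ.left := ⟨fun y => by
      have ho : IsOpen (Set.range ψ.left) := ψ.left.isOpenMap.isOpen_range
      have hc : IsClosed (Set.range ψ.left) := ψ.left.isClosedMap.isClosed_range
      have := IsClopen.eq_univ ⟨hc, ho⟩ ⟨_, ⟨(inferInstance : Nonempty A.left).some, rfl⟩⟩
      exact this.symm.le (Set.mem_univ y)⟩
    haveI : Subsingleton At.left := ψ.left.surjective.subsingleton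
    haveI : IsIso At.hom := isIso_hom_of_subsingleton At
    haveI : IsIso (ψ.left ≫ At.hom) := by rw [Over.w ψ]; infer_instance
    haveI : IsIso ψ.left := IsIso.of_isIso_comp_right ψ.left At.hom
    have hd1 : d = 1 := by
      rw [← hd (ψ.left (inferInstance : Nonempty A.left).some), Scheme.Hom.finrank_eq_one_of_isIso]
      rfl
    let C := Spec (CommRingCat.of k)
    obtain ⟨e⟩ : Nonempty (L ≅ Coh.structureModule A.left) := by
      have h0 : pullA (inv A.hom) (clA hL) = 0 :=
        (pullA_clA _ hL).trans (clA_eq_zero_of_local k (AmpleDevLib.isInvertible_pb _ hL))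
      have h1 := congrArg (pullA A.hom) h0
      rw [pullA_comp, IsIso.hom_inv_id, pullA_id, map_zero, ← clA_one, clA_eq_iff] at h1
      exact h1
    have hvan : ∀ n, n ≠ 0 → Subsingleton (Coh.HH A.left L n) := fun n hn =>
      CurvLib.subsingleton_HH_of_dim_le (d := 0) _ hg.le n (Nat.pos_of_ne_zero hn)
    refine ⟨0, le_rfl, ⟨hvan, fun h => not_subsingleton_HH_one (A := A)
      (SerreVanLib.subsingleton_HH_of_iso e.symm 0 h)⟩, ?_⟩
    rw [hd1, euler_of_concentrated (k := k) hvan, (CurvLib.hIso (k := k) e 0).finrank_eq]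
    letI := CurvLib.secModule (k := k) (Coh.structureModule A.left)
    rw [(CurvLib.hhZeroEquiv (k := k) (Coh.structureModule A.left)).finrank_eq]
    have hb : Function.Bijective (Coh.toGlobal A.hom) := by
      change Function.Bijective (A.hom.appTop.hom ∘ (Scheme.ΓSpecIso (CommRingCat.of k)).inv.hom)
      exact (ConcreteCategory.bijective_of_isIso A.hom.appTop).comp
        (ConcreteCategory.bijective_of_isIso (Scheme.ΓSpecIso (CommRingCat.of k)).inv)
    have hr : Module.finrank k Γ(Coh.structureModule A.left, ⊤) = 1 := by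
      refine finrank_eq_one (show Γ(Coh.structureModule A.left, ⊤) from (1 : Γ(A.left, ⊤))) (fun h => ?_) fun w => ?_
      · exact one_ne_zero (α := Γ(A.left, ⊤)) h
      · obtain ⟨c, hc⟩ := hb.2 (show Γ(A.left, ⊤) from w)
        refine ⟨c, ?_⟩
        change (show Γ(A.left, ⊤) from Coh.toGlobal A.hom c) * (1 : Γ(A.left, ⊤)) = (show Γ(A.left, ⊤) from w)
        rw [_root_.mul_one]
        exact hc
    rw [hr]; norm_num
  -- positive dimension
  have hgpos : 0 < g := Nat.pos_of_ne_zero hg0
  have hL' : PicF.IsInvertible L' := CohCmpLib.isInvertible_of_inverse' hL hLL'.some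
  have hneg : clA hL' = -clA hL := by
    refine eq_neg_of_add_eq_zero_right ?_
    rw [← clA_tensor hL hL', ← clA_one, clA_eq_iff]
    exact hLL'
  let μ' := (fst A A * snd A A).left
  let p := (fst A A).left
  let q := (snd A A).left
  have hμ := AmpleDevLib.isInvertible_pb μ' hL
  have hp' := AmpleDevLib.isInvertible_pb p hL'
  have hq' := AmpleDevLib.isInvertible_pb q hL'
  have hμeq : μ[A] = fst A A * snd A A := by rw [Hom.mul_def, lift_fst_snd, Category.id_comp]
  rw [hμeq] at hΛ
  obtain ⟨eΛ⟩ := hΛ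
  have hΛi : PicF.IsInvertible Λ := HilbPolyLib.isInvertible_of_iso eΛ.symm
    (HilbPolyLib.isInvertible_tensor (HilbPolyLib.isInvertible_tensor hμ hp') hq')
  -- the family without the twist
  let F := CohB1.tensorMod ((Scheme.Modules.pullback μ').obj L) ((Scheme.Modules.pullback p).obj L')
  have hF : PicF.IsInvertible F := HilbPolyLib.isInvertible_tensor hμ hp'
  have cF : clA hF = pullA μ' (clA hL) + pullA p (clA hL') := by
    rw [clA_tensor hμ hp', pullA_clA, pullA_clA]
  have cΛ : clA hΛi = clA hF + pullA q (clA hL') := by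
    rw [pullA_clA, ← clA_tensor hF hq', clA_eq_iff]
    exact ⟨eΛ⟩
  have hFΛ : clA (X := PicF.XT A.hom A) hF = clA hΛi + pullA (PicF.XTproj A.hom A) (clA hL) := by
    rw [cΛ, hneg, map_neg]
    exact (neg_add_cancel_right _ _).symm
  have cΛ' : clA hΛi = P hL (fst A A * snd A A) - P hL (fst A A) - P hL (snd A A) := by
    rw [cΛ, cF, hneg, map_neg, map_neg]
    rfl
  -- the locus of the translations fixing the class
  let Z := Limits.pullback ψ.left (η[At] : 𝟙_ (Over (Spec (CommRingCat.of k))) ⟶ At).left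
  let i := Limits.pullback.fst ψ.left (η[At] : 𝟙_ (Over (Spec (CommRingCat.of k))) ⟶ At).left
  haveI : IsClosedImmersion (η[At] : 𝟙_ (Over (Spec (CommRingCat.of k))) ⟶ At).left := isClosedImmersion_one
  haveI : IsFinite (Limits.pullback.snd ψ.left (η[At] : 𝟙_ (Over (Spec (CommRingCat.of k))) ⟶ At).left) :=
    MorphismProperty.pullback_snd (P := @IsFinite) _ _ inferInstance
  haveI : IsArtinianScheme Z :=
    isArtinianScheme_of_finite (Limits.pullback.snd ψ.left (η[At] : 𝟙_ (Over (Spec (CommRingCat.of k))) ⟶ At).left)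
  have hnd : Set.Finite {a : Pt | P hL (AVAmpleLib.tR a) = clA hL} := by
    refine ((Set.finite_range i).subset ?_).of_finite_image AVAmpleLib.pt_injective.injOn
    rintro _ ⟨a, ha, rfl⟩
    have hjx : pullA (jT (A := A) a).left (clA hΛi) = 0 := by
      rw [cΛ', map_sub, map_sub, pullA_P, pullA_P, pullA_P, MonObj.comp_mul, lift_fst, lift_snd, P_const hL,
        P_id, sub_zero]
      exact sub_eq_zero.2 ha
    let q' := PicF.XTproj A.hom A
    let j : A.left ⟶ PicF.XT A.hom A := (jT (A := A) a).left
    let pr := Limits.pullback.fst A.hom A.hom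
    have hj1 : j ≫ pr = 𝟙 _ := congrArg Over.Hom.left (lift_fst (𝟙 A) (toUnit A ≫ a))
    have hj2 : j ≫ q' = A.hom ≫ a.left := congrArg Over.Hom.left (lift_snd (𝟙 A) (toUnit A ≫ a))
    let s' : Limits.pullback q' a.left ⟶ A.left := Limits.pullback.fst _ _ ≫ pr
    have hs' : s' ≫ j = Limits.pullback.fst q' a.left := by
      apply Limits.pullback.hom_ext
      · change (s' ≫ j) ≫ pr = _
        rw [Category.assoc, hj1, Category.comp_id]
      · change (s' ≫ j) ≫ q' = Limits.pullback.fst q' a.left ≫ q'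
        rw [Category.assoc, hj2, Category.assoc, show pr ≫ A.hom ≫ a.left = q' ≫ A.hom ≫ a.left from
          Limits.pullback.condition_assoc .., ← Category.assoc _ q', Limits.pullback.condition, Category.assoc,
          ← Category.assoc a.left, show a.left ≫ A.hom = 𝟙 _ from Over.w a, Category.id_comp]
    have h1 : pullA (Limits.pullback.fst q' a.left) (clA hΛi) = 0 := by
      rw [← hs', ← pullA_comp]
      exact (congrArg (pullA s') hjx).trans (map_zero _)
    obtain ⟨w, hw⟩ := (ovrHom_comp_eq_one_iff ψ a.left).1 (factor_of_trivial hA hΛi hΛ0 a.left h1)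
    exact ⟨w (IsLocalRing.closedPoint k), (congr($(hw) (IsLocalRing.closedPoint k)) : _)⟩
  obtain ⟨m, n, hmn, hm, hn, hvm, hvn⟩ := exists_index hL hg hnd hneg
  refine ⟨m, by omega, ⟨hvm, hm⟩, ?_⟩
  -- the count
  haveI : IsProper (A ⊗ A).hom := inferInstanceAs (IsProper (pullback.fst A.hom A.hom ≫ A.hom))
  letI : (A ⊗ A).left.Over (Spec (CommRingCat.of k)) := ⟨(A ⊗ A).hom⟩
  haveI : IsProper ((A ⊗ A).left ↘ Spec (CommRingCat.of k)) := inferInstanceAs (IsProper (A ⊗ A).hom)
  haveI : LocallyOfFinitePresentation A.hom := LocallyOfFinitePresentation.iff_locallyOfFiniteType.2 inferInstance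
  haveI : GeometricallyIntegral (A ⊗ A).hom := CubeConsLib.geometricallyIntegral_prod A.hom A.hom
  haveI : IsLocallyNoetherian (A ⊗ A).left := LocallyOfFiniteType.isLocallyNoetherian (A ⊗ A).hom
  haveI : HasInjectiveResolutions (PicF.XT A.hom A).Modules := inferInstance
  obtain ⟨-, -, -, hvanF, hdim⟩ := dual_family_top hA hΛi hΛ0 hF hL hFΛ hgpos hg hg
  have hfl : Flat (Limits.pullback.snd ψ.left (η[At] : 𝟙_ (Over (Spec (CommRingCat.of k))) ⟶ At).left) :=
    MorphismProperty.pullback_snd (P := @Flat) _ _ inferInstance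
  have h2 : i ≫ A.hom =
      Limits.pullback.snd ψ.left (η[At] : 𝟙_ (Over (Spec (CommRingCat.of k))) ⟶ At).left := by
    have := congrArg (· ≫ At.hom) (Limits.pullback.condition (f := ψ.left)
      (g := (η[At] : 𝟙_ (Over (Spec (CommRingCat.of k))) ⟶ At).left))
    rw [Category.assoc, Category.assoc, Over.w ψ] at this
    exact this.trans ((congrArg (_ ≫ ·) (Over.w η[At])).trans (Category.comp_id _))
  rw [h2, finrank_gamma_fibre _ (d := d) (fun x => (Scheme.Hom.finrank_pullback_snd _ _ x).trans (hd _))] at hdim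
  have hw : (A ⊗ A).hom = PicF.XTproj A.hom A ≫ A.hom := (Over.w (snd A A)).symm
  have hχF : Curv2.euler k (A ⊗ A).left F = (-1 : ℤ) ^ g * (d : ℤ) := by
    refine (euler_of_concentrated (k := k) (X := (A ⊗ A).left) hvanF).trans ?_
    rw [← hdim]
    congr 3
    exact congrArg (fun h => @Coh.moduleOver k _ (A ⊗ A).left ⟨h⟩ F g) hw
  -- the sheared product
  let G := CohB1.tensorMod ((Scheme.Modules.pullback q).obj L') ((Scheme.Modules.pullback p).obj L)
  have hG : PicF.IsInvertible G :=
    HilbPolyLib.isInvertible_tensor hq' (AmpleDevLib.isInvertible_pb p hL)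
  let σ : A ⊗ A ⟶ A ⊗ A := lift (fst A A * snd A A) (fst A A)
  let σ' : A ⊗ A ⟶ A ⊗ A := lift (snd A A) ((snd A A)⁻¹ * fst A A)
  have hσ : σ ≫ σ' = 𝟙 _ := CartesianMonoidalCategory.hom_ext _ _
    (by rw [Category.assoc, lift_fst, lift_snd, Category.id_comp])
    (by rw [Category.assoc, lift_snd, MonObj.comp_mul, GrpObj.comp_inv, lift_fst, lift_snd, inv_mul_cancel_left,
      Category.id_comp])
  have hσ' : σ' ≫ σ = 𝟙 _ := CartesianMonoidalCategory.hom_ext _ _
    (by rw [Category.assoc, lift_fst, MonObj.comp_mul, lift_fst, lift_snd, mul_inv_cancel_left, Category.id_comp])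
    (by rw [Category.assoc, lift_snd, lift_fst, Category.id_comp])
  haveI : IsIso σ := ⟨σ', hσ, hσ'⟩
  haveI : IsIso σ.left := inferInstanceAs (IsIso ((Over.forget _).map σ))
  obtain ⟨eσ⟩ : Nonempty ((Scheme.Modules.pullback σ.left).obj G ≅ F) := by
    rw [← clA_eq_iff (AmpleDevLib.isInvertible_pb σ.left hG) hF, cF, ← pullA_clA σ.left hG,
      clA_tensor hq' (AmpleDevLib.isInvertible_pb p hL), map_add, ← pullA_clA q hL', ← pullA_clA p hL,
      pullA_comp, pullA_comp, ← Over.comp_left, ← Over.comp_left, lift_fst, lift_snd]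
    exact add_comm _ _
  have hχ := AVRRLib.euler_pullback (X := A ⊗ A) (Y := A ⊗ A) σ 1
    (fun y => by rw [Scheme.Hom.finrank_eq_one_of_isIso]; rfl) (CurvLib.isCoh_of_isInvertible hG)
  rw [CurvLib.euler_congr (k := k) eσ, hχF, Nat.cast_one, _root_.one_mul] at hχ
  have hbox := euler_box hL hL' (i := m) ⟨hvm, hm⟩ (j := n) ⟨hvn, hn⟩
  rw [← hχ] at hbox
  -- the inverse
  have hinv : (Curv2.euler k A.left L' : ℚ) = (-1 : ℚ) ^ g * (Curv2.euler k A.left L : ℚ) := by
    have h := AVRRLib.chi_zsmul hg hL (-1)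
    rw [neg_one_zsmul, ← hneg, AVAmpleLib.chi_clA, AVAmpleLib.chi_clA] at h
    push_cast at h
    exact h
  have hboxQ : (-1 : ℚ) ^ g * (d : ℚ) = (Curv2.euler k A.left L : ℚ) * (Curv2.euler k A.left L' : ℚ) := by
    exact_mod_cast hbox
  rw [hinv] at hboxQ
  have : (Curv2.euler k A.left L : ℚ) ^ 2 = (d : ℚ) :=
    mul_left_cancel₀ (pow_ne_zero g (neg_ne_zero.2 one_ne_zero)) (by rw [hboxQ]; ring)
  exact_mod_cast this

end AVIndexLib

end
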