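import Groth.Agent.AVIndexLib.TransIsog
import Groth.Agent.AVIndexLib.BidualField
import Groth.Agent.AVIndexLib.MumfordMain
import Groth.Agent.AVAmpleLib.IsogInv
import Groth.Prelude.Def_ThetaK

/-!
The rank of `K(L)` through the Euler characteristic of the Mumford class, and its behaviour under isogenies.
-/

set_option autoImplicit false
set_option maxHeartbeats 1000000
set_option maxRecDepth 8000
set_option backward.isDefEq.respectTransparency false
set_option linter.style.haveILetI false
set_option linter.unusedSectionVars false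

noncomputable section

universe u

open CategoryTheory CategoryTheory.Limits MonoidalCategory CartesianMonoidalCategory MonObj AlgebraicGeometry
open TopologicalSpace CohCmpLib
open CubeConsLib AVVanishLib AVAmpleLib

namespace AVIndexLib

variable {k : Type u} [Field k] {A K : Over (Spec (CommRingCat.of k))} [GrpObj A] [IsProper A.hom]
  [GeometricallyIntegral A.hom] {L : A.left.Modules} (hL : PicF.IsInvertible L) {i : K ⟶ A}
  (hK : ThetaGrp.IsKL A L i)

include hK hL in
theorem kl_iff {V : Over (Spec (CommRingCat.of k))} (z : V ⟶ A) :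
    lam hL (fst A V) (snd A V ≫ z) = 0 ↔ ∃ y : V ⟶ K, y ≫ i = z := by
  rw [← mumfordZero_iff_lam, ← mumfordTriv_iff hL z]
  exact hK.univ V z

include hK in
theorem kl_mono : Mono i := by
  haveI := hK.closed
  exact Functor.mono_of_mono_map (Over.forget _) (inferInstanceAs (Mono i.left))

include hK hL in
/-- The locus where the Mumford class is trivial is `K(L)`. -/
theorem kl_factor_iff {Λ : (PicF.XT A.hom A).Modules} (hΛ : PicF.IsInvertible Λ)
    (cΛ : (clA hΛ : PicA (A ⊗ A).left) = lam hL (fst A A) (snd A A)) {U : Scheme.{u}} (v : U ⟶ A.left) :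
    pullA (Limits.pullback.fst (PicF.XTproj A.hom A) v) (clA hΛ) = 0 ↔ ∃ w, w ≫ i.left = v := by
  rw [← pullA_XTmap_eq_zero_iff hΛ v, pullA_XTmap_mumford hL hΛ cΛ, kl_iff hL hK]
  constructor
  · rintro ⟨y, hy⟩
    exact ⟨y.left, congrArg Over.Hom.left hy⟩
  · rintro ⟨w, hw⟩
    refine ⟨Over.homMk w ?_, Over.OverMorphism.ext hw⟩
    show w ≫ K.hom = v ≫ A.hom
    rw [← Over.w i, ← Category.assoc, hw]

include hK hL in
/-- The Euler characteristic of the Mumford class is the rank of `K(L)` up to sign. -/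
theorem euler_mumford_KL [IsFinite K.hom] {g : ℕ} (hgpos : 0 < g) (hg : topologicalKrullDim A.left = (g : ℕ))
    {Λ : (PicF.XT A.hom A).Modules} (hΛ : PicF.IsInvertible Λ)
    (cΛ : (clA hΛ : PicA (A ⊗ A).left) = lam hL (fst A A) (snd A A))
    {r : ℕ} (hr : ∀ s, K.hom.finrank s = r) :
    @Curv2.euler k _ (A ⊗ A).left ⟨(A ⊗ A).hom⟩ Λ = (-1 : ℤ) ^ g * (r : ℤ) := by
  let q := PicF.XTproj A.hom A
  haveI : IsClosedImmersion i.left := hK.closed
  haveI hfin : IsFinite (i.left ≫ A.hom) := by rw [Over.w i]; infer_instance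
  haveI : Flat (i.left ≫ A.hom) := inferInstance
  haveI : LocallyOfFinitePresentation A.hom := LocallyOfFinitePresentation.iff_locallyOfFiniteType.2 inferInstance
  haveI : IsProper q := MorphismProperty.pullback_snd (P := @IsProper) A.hom A.hom ‹_›
  haveI : Flat q := MorphismProperty.pullback_snd (P := @Flat) A.hom A.hom inferInstance
  haveI : LocallyOfFinitePresentation q :=
    MorphismProperty.pullback_snd (P := @LocallyOfFinitePresentation) A.hom A.hom inferInstance
  haveI : GeometricallyIntegral q := inferInstanceAs (GeometricallyIntegral (Limits.pullback.snd A.hom A.hom))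
  haveI : IsProper (A ⊗ A).hom := inferInstanceAs (IsProper (pullback.fst A.hom A.hom ≫ A.hom))
  haveI : IsLocallyNoetherian (A ⊗ A).left := LocallyOfFiniteType.isLocallyNoetherian (A ⊗ A).hom
  haveI : HasInjectiveResolutions (PicF.XT A.hom A).Modules :=
    inferInstanceAs (HasInjectiveResolutions (A ⊗ A).left.Modules)
  have hΛ0 := isPicZeroCl_mumford hL cΛ
  obtain ⟨-, -, -, hvan, hdim⟩ := family_top (IsPullback.of_hasPullback A.hom A.hom) hΛ hgpos i.left
    (fun z hz => exists_regular_seq hg z hz)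
    (fun y p h => subsingleton_fiberH_of_nontrivial hΛ hΛ0 hg y p (Or.inr fun Ω _ σ hσ h1 => h (by
      obtain ⟨w, hw⟩ := (kl_factor_iff hL hK hΛ cΛ σ).1 h1
      exact ⟨w (IsLocalRing.closedPoint Ω), by rw [← Scheme.Hom.comp_apply, hw]; exact hσ⟩)))
    (fun y p h => subsingleton_fiberH_of_nontrivial hΛ hΛ0 hg y p (Or.inl h))
    fun w I _ => (trivOver_iff_pullA hΛ _).trans (kl_factor_iff hL hK hΛ cΛ _)
  letI : (A ⊗ A).left.Over (Spec (CommRingCat.of k)) := ⟨(A ⊗ A).hom⟩
  haveI : IsProper ((A ⊗ A).left ↘ Spec (CommRingCat.of k)) := inferInstanceAs (IsProper (A ⊗ A).hom)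
  refine (euler_of_concentrated (k := k) (X := (A ⊗ A).left) hvan).trans ?_
  rw [← (hdim.trans (finrank_gamma_fibre (i.left ≫ A.hom) (d := r) fun x =>
    (congrArg (fun f : _ ⟶ Spec (CommRingCat.of k) => f.finrank x) (Over.w i)).trans (hr x)))]
  congr 3
  exact congrArg (fun h => @Coh.moduleOver k _ (A ⊗ A).left ⟨h⟩ Λ g) (Over.w (snd A A)).symm

/-- An abelian variety with one point is the base. -/
theorem isIso_hom_point (B : Over (Spec (CommRingCat.of k))) [GrpObj B] [IsProper B.hom] [GeometricallyIntegral B.hom]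
    [Subsingleton B.left] : IsIso B.hom := by
  haveI : IsIntegral B.left := GeometricallyIntegral.isIntegral_of_subsingleton B.hom
  let e := (η[B] : 𝟙_ (Over (Spec (CommRingCat.of k))) ⟶ B).left
  haveI : IsClosedImmersion e := isClosedImmersion_eta B
  haveI : Surjective e := ⟨fun y => ⟨IsLocalRing.closedPoint k, Subsingleton.elim _ _⟩⟩
  haveI : IsIso e := isIso_of_isClosedImmersion_of_surjective e
  haveI : IsIso (e ≫ B.hom) := by rw [show e ≫ B.hom = 𝟙 _ from Over.w η[B]]; infer_instance
  exact IsIso.of_isIso_comp_left e B.hom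

include hK hL in
/-- `K(L)` on a point. -/
theorem isIso_KL_point [Subsingleton A.left] : IsIso K.hom := by
  haveI := isIso_hom_point A
  have hu : ∀ {V : Over (Spec (CommRingCat.of k))} (a b : V ⟶ A), a = b := fun a b =>
    Over.OverMorphism.ext ((cancel_mono A.hom).1 ((Over.w a).trans (Over.w b).symm))
  obtain ⟨y, hy⟩ := (kl_iff hL hK (𝟙 A)).1 (by
    rw [hu (fst A A) 1, lam_one_left])
  haveI := kl_mono hK
  haveI : IsIso i := ⟨y, by rw [← cancel_mono i, Category.assoc, hy, Category.comp_id, Category.id_comp], hy⟩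
  haveI : IsIso i.left := inferInstanceAs (IsIso ((Over.forget _).map i))
  rw [← Over.w i]
  infer_instance

/-- The square of an isogeny multiplies Euler characteristics by the squared degree. -/
theorem euler_pullback_square {X Y : Over (Spec (CommRingCat.of k))} [GrpObj X] [IsProper X.hom]
    [GeometricallyIntegral X.hom] [GrpObj Y] [IsProper Y.hom] [GeometricallyIntegral Y.hom]
    (f : X ⟶ Y) [IsFinite f.left] [Flat f.left] {d : ℕ} (hd : ∀ y : Y.left, f.left.finrank y = d)
    {Λ : (Y ⊗ Y).left.Modules} (hΛ : PicF.IsInvertible Λ) :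
    @Curv2.euler k _ (X ⊗ X).left ⟨(X ⊗ X).hom⟩
        ((Scheme.Modules.pullback (lift (fst X X ≫ f) (snd X X ≫ f)).left).obj Λ) =
      (d : ℤ) ^ 2 * @Curv2.euler k _ (Y ⊗ Y).left ⟨(Y ⊗ Y).hom⟩ Λ := by
  haveI : IsProper (X ⊗ X).hom := inferInstanceAs (IsProper (pullback.fst X.hom X.hom ≫ X.hom))
  haveI : IsProper (X ⊗ Y).hom := inferInstanceAs (IsProper (pullback.fst X.hom Y.hom ≫ X.hom))
  haveI : IsProper (Y ⊗ Y).hom := inferInstanceAs (IsProper (pullback.fst Y.hom Y.hom ≫ Y.hom))
  haveI : GeometricallyIntegral (X ⊗ X).hom := CubeConsLib.geometricallyIntegral_prod X.hom X.hom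
  haveI : GeometricallyIntegral (X ⊗ Y).hom := CubeConsLib.geometricallyIntegral_prod X.hom Y.hom
  haveI : GeometricallyIntegral (Y ⊗ Y).hom := CubeConsLib.geometricallyIntegral_prod Y.hom Y.hom
  let m := (lift (fst X X ≫ f) (snd X X ≫ f) : X ⊗ X ⟶ Y ⊗ Y)
  let a := X ◁ f
  let b := f ▷ Y
  have em : a ≫ b = m := by
    apply CartesianMonoidalCategory.hom_ext <;> simp [a, b, m]
  have pa : IsPullback a.left (snd X X).left (snd X Y).left f.left := by
    refine IsPullback.of_right ?_ ?_ (IsPullback.of_hasPullback X.hom Y.hom)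
    · rw [show a.left ≫ Limits.pullback.fst X.hom Y.hom = (fst X X).left from
        congrArg Over.Hom.left (whiskerLeft_fst X f), Over.w f]
      exact IsPullback.of_hasPullback X.hom X.hom
    · exact congrArg Over.Hom.left (whiskerLeft_snd X f)
  have pb : IsPullback b.left (fst X Y).left (fst Y Y).left f.left := by
    refine IsPullback.of_right ?_ ?_ (IsPullback.of_hasPullback Y.hom Y.hom).flip
    · rw [show b.left ≫ Limits.pullback.snd Y.hom Y.hom = (snd X Y).left from
        congrArg Over.Hom.left (whiskerRight_snd f Y), Over.w f]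
      exact (IsPullback.of_hasPullback X.hom Y.hom).flip
    · exact congrArg Over.Hom.left (whiskerRight_fst f Y)
  haveI : IsFinite a.left := MorphismProperty.of_isPullback (P := @IsFinite) pa.flip ‹_›
  haveI : Flat a.left := MorphismProperty.of_isPullback (P := @Flat) pa.flip ‹_›
  haveI : IsFinite b.left := MorphismProperty.of_isPullback (P := @IsFinite) pb.flip ‹_›
  haveI : Flat b.left := MorphismProperty.of_isPullback (P := @Flat) pb.flip ‹_›
  have hda : ∀ y, a.left.finrank y = d := fun y =>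
    (Scheme.Hom.finrank_of_isPullback _ _ _ _ pa.flip y).trans (hd _)
  have hdb : ∀ y, b.left.finrank y = d := fun y =>
    (Scheme.Hom.finrank_of_isPullback _ _ _ _ pb.flip y).trans (hd _)
  have hΛb := AmpleDevLib.isInvertible_pb b.left hΛ
  have e1 := AVRRLib.euler_pullback a d hda (CurvLib.isCoh_of_isInvertible hΛb)
  have e2 := AVRRLib.euler_pullback b d hdb
    (F := Λ) (CurvLib.isCoh_of_isInvertible hΛ)
  letI : (X ⊗ X).left.Over (Spec (CommRingCat.of k)) := ⟨(X ⊗ X).hom⟩
  have e3 : Curv2.euler k (X ⊗ X).left ((Scheme.Modules.pullback a.left).obj ((Scheme.Modules.pullback b.left).obj Λ)) =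
      Curv2.euler k (X ⊗ X).left ((Scheme.Modules.pullback m.left).obj Λ) :=
    CurvLib.euler_congr (k := k) ((Scheme.Modules.pullbackComp a.left b.left).app Λ ≪≫
      (Scheme.Modules.pullbackCongr (show a.left ≫ b.left = m.left by rw [← Over.comp_left, em])).app Λ)
  rw [e3, e2] at e1
  rw [e1]
  ring

section Isogeny

variable {X Y KM KL : Over (Spec (CommRingCat.of k))} [GrpObj X] [IsProper X.hom] [GeometricallyIntegral X.hom]
  [GrpObj Y] [IsProper Y.hom] [GeometricallyIntegral Y.hom]
  (f : X ⟶ Y) [IsMonHom f] [IsFinite f.left] [Surjective f.left]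
  {M : Y.left.Modules} (hM : PicF.IsInvertible M) {iM : KM ⟶ Y} (hKM : ThetaGrp.IsKL Y M iM)
  {iL : KL ⟶ X} (hKL : ThetaGrp.IsKL X ((Scheme.Modules.pullback f.left).obj M) iL)

include hM hKM hKL in
/-- Non-degeneracy is inherited along an isogeny. -/
theorem isFinite_KL_pullback [IsFinite KM.hom] : IsFinite KL.hom := by
  haveI : IsCommMonObj X := isCommMonObj_field
  haveI : IsCommMonObj Y := isCommMonObj_field
  obtain ⟨n, ψ, hn, hψm, hfψ, hψf⟩ := exists_quasi_inverse f
  let z : KL ⟶ Y := iL ≫ f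
  have h0 := (kl_iff (AmpleDevLib.isInvertible_pb f.left hM) hKL iL).2 ⟨𝟙 _, Category.id_comp _⟩
  rw [lam_pb f hM] at h0
  have h1 := congrArg (pullA (ψ ▷ KL).left) h0
  rw [map_zero, pullA_lam] at h1
  have e1 : (ψ ▷ KL) ≫ fst X KL ≫ f = fst Y KL ^ n := by
    rw [← Category.assoc, whiskerRight_fst, Category.assoc, hψf, MonObj.comp_pow, Category.comp_id]
  have e2 : (ψ ▷ KL) ≫ (snd X KL ≫ iL) ≫ f = snd Y KL ≫ z := by
    rw [← Category.assoc, ← Category.assoc, whiskerRight_snd, Category.assoc]
  rw [e1, e2, lam_pow_left, lam_comm, ← lam_pow_left, ← MonObj.comp_pow, lam_comm] at h1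
  obtain ⟨y, hy⟩ := (kl_iff hM hKM (z ^ n)).1 h1
  haveI : IsFinite (𝟙 Y ^ n).left := by
    rw [← zpow_natCast]
    exact AVAmpleLib.isFinite_zpow Y (by exact_mod_cast hn.ne')
  haveI : IsClosedImmersion iM.left := hKM.closed
  haveI : IsClosedImmersion iL.left := hKL.closed
  haveI : IsFinite (y.left ≫ iM.left) := by
    rw [← Over.comp_left, hy, show z ^ n = z ≫ 𝟙 Y ^ n by rw [MonObj.comp_pow, Category.comp_id]]
    simp only [z, Over.comp_left]
    infer_instance
  haveI : IsFinite y.left := IsFinite.of_comp y.left iM.left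
  rw [← Over.w y]
  infer_instance

include hM hKM hKL in
/-- The rank of `K(f^*M)` is the squared degree times that of `K(M)`. -/
theorem rank_KL_pullback [Flat f.left] [IsFinite KM.hom] [IsFinite KL.hom] {g : ℕ}
    (hgX : topologicalKrullDim X.left = (g : ℕ))
    {d : ℕ} (hd : ∀ y : Y.left, f.left.finrank y = d) {r : ℕ} (hr : ∀ s, KM.hom.finrank s = r)
    (s : (Spec (CommRingCat.of k) : Scheme.{u})) : KL.hom.finrank s = d ^ 2 * r := by
  have hgY : topologicalKrullDim Y.left = (g : ℕ) :=
    ((MiscFlat6.dim_le_of_isIntegralHom f.left).2 inferInstance).symm.trans hgX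
  rcases Nat.eq_zero_or_pos g with rfl | hgpos
  · -- a point
    haveI : IsIntegral X.left := GeometricallyIntegral.isIntegral_of_subsingleton X.hom
    haveI : IsIntegral Y.left := GeometricallyIntegral.isIntegral_of_subsingleton Y.hom
    haveI : Subsingleton X.left := AVAmpleLib.subsingleton_of_dim_zero hgX
    haveI : Subsingleton Y.left := AVAmpleLib.subsingleton_of_dim_zero hgY
    haveI := isIso_KL_point hM hKM
    haveI := isIso_KL_point (AmpleDevLib.isInvertible_pb f.left hM) hKL
    haveI := isIso_hom_point X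
    haveI := isIso_hom_point Y
    haveI : IsIso (f.left ≫ Y.hom) := by rw [Over.w f]; infer_instance
    haveI : IsIso f.left := IsIso.of_isIso_comp_right f.left Y.hom
    have hd1 : d = 1 :=
      (hd (inferInstance : Nonempty Y.left).some).symm.trans (congrFun (Scheme.Hom.finrank_eq_one_of_isIso f.left) _)
    have hr1 : r = 1 := (hr s).symm.trans (congrFun (Scheme.Hom.finrank_eq_one_of_isIso KM.hom) _)
    rw [hd1, hr1, Scheme.Hom.finrank_eq_one_of_isIso]
    norm_num
  -- positive dimension
  have hs : ∀ t : (Spec (CommRingCat.of k) : Scheme.{u}), t = s := fun t =>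
    Subsingleton.elim (α := PrimeSpectrum k) t s
  obtain ⟨Λ, hΛ, cΛ⟩ : ∃ (Λ : (PicF.XT Y.hom Y).Modules) (hΛ : PicF.IsInvertible Λ),
      (clA hΛ : PicA (Y ⊗ Y).left) = lam hM (fst Y Y) (snd Y Y) := exists_mumford hM
  have eY := euler_mumford_KL hM hKM hgpos hgY hΛ cΛ hr
  let m := (lift (fst X X ≫ f) (snd X X ≫ f) : X ⊗ X ⟶ Y ⊗ Y)
  have hΛ' := AmpleDevLib.isInvertible_pb m.left hΛ
  have cΛ' : (clA hΛ' : PicA (X ⊗ X).left) =
      lam (AmpleDevLib.isInvertible_pb f.left hM) (fst X X) (snd X X) := by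
    rw [← pullA_clA m.left hΛ, cΛ, pullA_lam, lift_fst, lift_snd, lam_pb]
  have eX := euler_mumford_KL (AmpleDevLib.isInvertible_pb f.left hM) hKL hgpos hgX hΛ' cΛ'
    (r := KL.hom.finrank s) (fun t => by rw [hs t])
  have e1 := euler_pullback_square f hd (Λ := (show (Y ⊗ Y).left.Modules from Λ)) hΛ
  have e4 : ((-1 : ℤ) ^ g) * (KL.hom.finrank s : ℤ) = (-1 : ℤ) ^ g * ((d ^ 2 * r : ℕ) : ℤ) := by
    rw [← eX]
    refine e1.trans ?_
    rw [eY]
    push_cast
    ring
  exact_mod_cast mul_left_cancel₀ (pow_ne_zero g (by norm_num)) e4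

end Isogeny

end AVIndexLib

end
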