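import Groth.Agent.AVIndexLib.TransIsog
import Groth.Agent.AVIndexLib.BidualField
import Groth.Agent.AVAmpleLib.DegForm
import Groth.Agent.AVIndexLib.KLRank

/-!
The degree of the transpose of an isogeny.
-/

set_option autoImplicit false
set_option maxHeartbeats 1000000
set_option maxRecDepth 8000
set_option backward.isDefEq.respectTransparency false
set_option linter.style.haveILetI false
set_option linter.unusedSectionVars false

noncomputable section

universe u

open CategoryTheory CategoryTheory.Limits MonoidalCategory CartesianMonoidalCategory MonObj AlgebraicGeometry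
open CubeConsLib AVVanishLib AVAmpleLib

namespace AVIndexLib

variable {k : Type u} [Field k]

/-- Degrees of isogenies multiply. -/
theorem finrank_comp_isogeny {A B D : Over (Spec (CommRingCat.of k))} [GrpObj A] [IsProper A.hom]
    [GeometricallyIntegral A.hom] [GrpObj B] [IsProper B.hom] [GeometricallyIntegral B.hom]
    [GrpObj D] [IsProper D.hom] [GeometricallyIntegral D.hom] (f : A ⟶ B) [IsMonHom f] [IsFinite f.left]
    (u : B ⟶ D) [IsMonHom u] [IsFinite u.left] {g : ℕ} (hA : topologicalKrullDim A.left = (g : ℕ))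
    (hB : topologicalKrullDim B.left = (g : ℕ)) (hD : topologicalKrullDim D.left = (g : ℕ))
    (b : B.left) (y : D.left) :
    (f ≫ u).left.finrank y = f.left.finrank b * u.left.finrank y := by
  haveI : IsCommMonObj A := isCommMonObj_field
  haveI : IsCommMonObj B := isCommMonObj_field
  haveI : IsCommMonObj D := isCommMonObj_field
  let φ : EndAV.Hom A B := EndAV.Hom.of f
  let ψ : EndAV.Hom B D := EndAV.Hom.of u
  haveI : IsFinite φ.toHom.left := ‹IsFinite f.left›
  haveI : IsFinite ψ.toHom.left := ‹IsFinite u.left›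
  let χ : EndAV.Hom A D := φ ≫ ψ
  haveI : IsFinite χ.toHom.left := by
    show IsFinite (f ≫ u).left
    rw [Over.comp_left]
    infer_instance
  have h := ndeg_comp (g := g) hA hB φ ψ
  change ndeg g χ = _ at h
  rw [ndeg_eq_finrank hA hD χ y, ndeg_eq_finrank hA hB φ b, ndeg_eq_finrank hB hD ψ y] at h
  exact_mod_cast h

/-- The Euler characteristic of a family with finite classifying map is its degree up to sign. -/
theorem euler_family_deg {A At : Over (Spec (CommRingCat.of k))} [GrpObj A] [IsProper A.hom]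
    [GeometricallyIntegral A.hom] [GrpObj At] [IsProper At.hom] [GeometricallyIntegral At.hom]
    {φ : AgPol.DualMap A At} (hA : AbDual.IsDualAV Scheme.fppfPrecoverage A At φ)
    {Λ : (PicF.XT A.hom A).Modules} (hΛ : PicF.IsInvertible Λ) (hΛ0 : AbDual.IsPicZeroCl A.hom A (PicF.cl Λ))
    [IsMonHom (φ A (PicF.cl Λ))] [IsFinite (φ A (PicF.cl Λ)).left] [Flat (φ A (PicF.cl Λ)).left]
    {g : ℕ} (hgpos : 0 < g) (hg : topologicalKrullDim A.left = (g : ℕ)) (x : At.left) :
    @Curv2.euler k _ (A ⊗ A).left ⟨(A ⊗ A).hom⟩ Λ = (-1 : ℤ) ^ g * ((φ A (PicF.cl Λ)).left.finrank x : ℤ) := by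
  haveI : IsProper (A ⊗ A).hom := inferInstanceAs (IsProper (pullback.fst A.hom A.hom ≫ A.hom))
  haveI : IsLocallyNoetherian (A ⊗ A).left := LocallyOfFiniteType.isLocallyNoetherian (A ⊗ A).hom
  haveI : HasInjectiveResolutions (PicF.XT A.hom A).Modules :=
    inferInstanceAs (HasInjectiveResolutions (A ⊗ A).left.Modules)
  obtain ⟨hv, hdeg⟩ := family_top_kernel hA hΛ hΛ0 hgpos hg hg fun z => finrank_const (φ A (PicF.cl Λ)) z x
  letI : (A ⊗ A).left.Over (Spec (CommRingCat.of k)) := ⟨(A ⊗ A).hom⟩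
  haveI : IsProper ((A ⊗ A).left ↘ Spec (CommRingCat.of k)) := inferInstanceAs (IsProper (A ⊗ A).hom)
  refine (euler_of_concentrated (k := k) (X := (A ⊗ A).left) hv).trans ?_
  rw [← hdeg]
  congr 3
  exact congrArg (fun h => @Coh.moduleOver k _ (A ⊗ A).left ⟨h⟩ Λ g) (Over.w (snd A A)).symm

variable {X Y Xt Yt : Over (Spec (CommRingCat.of k))}
  [GrpObj X] [IsProper X.hom] [GeometricallyIntegral X.hom]
  [GrpObj Y] [IsProper Y.hom] [GeometricallyIntegral Y.hom]
  [GrpObj Xt] [IsProper Xt.hom] [GeometricallyIntegral Xt.hom]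
  [GrpObj Yt] [IsProper Yt.hom] [GeometricallyIntegral Yt.hom]
  {φX : AgPol.DualMap X Xt} (hX : AbDual.IsDualAV Scheme.fppfPrecoverage X Xt φX)
  {φY : AgPol.DualMap Y Yt} (hY : AbDual.IsDualAV Scheme.fppfPrecoverage Y Yt φY)
  (f : X ⟶ Y) [IsMonHom f] [IsFinite f.left] [Flat f.left] [Surjective f.left]
  (ft : Yt ⟶ Xt) (hft : AbDual.IsTranspose f φX φY ft)

include hX hY hft in
/-- The transpose of an isogeny has the same degree. -/
theorem finrank_transpose {d : ℕ} (hd : ∀ y : Y.left, f.left.finrank y = d) (x : Xt.left) :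
    IsFinite ft.left ∧ Flat ft.left ∧ Surjective ft.left ∧ ft.left.finrank x = d := by
  obtain ⟨L, hL, ΛY, hΛY, hLa, cY⟩ := exists_phiL_data hY
  have hΛY0 := isPicZeroCl_mumford hL cY
  have hM := AmpleDevLib.isInvertible_pb f.left hL
  have hMa : CohB1.IsAmple ((Scheme.Modules.pullback f.left).obj L) := AmpleDevLib.isAmple_pb f.left hL hLa
  let m := AbDual.bcMap f X ≫ PicF.XTmap Y.hom f
  let ΛX := (Scheme.Modules.pullback m).obj ΛY
  have hΛX : PicF.IsInvertible ΛX := AmpleDevLib.isInvertible_pb m hΛY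
  have cX : (clA hΛX : PicA (X ⊗ X).left) = CubeConsLib.lam hM (fst X X) (snd X X) := by
    rw [← pullA_clA m hΛY]
    exact mumford_pullback f hL hΛY cY
  have hΛX0 := isPicZeroCl_mumford hM cX
  obtain ⟨hmX, hfinX, hsurjX, hflatX⟩ := isogeny_phiL hX hM hMa hΛX cX
  obtain ⟨hmY, hfinY, hsurjY, hflatY⟩ := isogeny_phiL hY hL hLa hΛY cY
  let ψY := φY Y (PicF.cl ΛY)
  let ψX := φX X (PicF.cl ΛX)
  haveI : IsMonHom ψY := hmY
  haveI : IsFinite ψY.left := hfinY
  haveI : Flat ψY.left := hflatY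
  haveI : IsMonHom ψX := hmX
  haveI : IsFinite ψX.left := hfinX
  haveI : Flat ψX.left := hflatX
  obtain ⟨hfin, hsurj⟩ := transpose_isogeny_field hX hY f ft hft
  obtain ⟨g, hgX⟩ := AVAmpleLib.exists_dim_field X
  have hgY : topologicalKrullDim Y.left = (g : ℕ) :=
    ((MiscFlat6.dim_le_of_isIntegralHom f.left).2 inferInstance).symm.trans hgX
  have hgXt := dim_dual hX hgX
  have hgYt := dim_dual hY hgY
  have e : ψX = (f ≫ ψY) ≫ ft := by
    rw [← hY.relPic.natural _ _ f _ hΛY0, ← hft X _ (isPicZeroCl_XTmap f hΛY0), pullCl_pullCl]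
    rfl
  haveI : LocallyOfFinitePresentation Yt.hom := LocallyOfFinitePresentation.iff_locallyOfFiniteType.2 inferInstance
  haveI := geometricallyConnected_of_integral Yt.hom
  haveI : IsMonHom ft := H0Lib.isMonHom_of_one_comp ft (by
    have h1 : η[X] ≫ ψX = η[Xt] := IsMonHom.one_hom ψX
    rw [e, ← Category.assoc, IsMonHom.one_hom] at h1
    exact h1)
  obtain ⟨hflat, -⟩ := AVAmpleLib.flat_of_isFinite ft hgYt hgXt
  refine ⟨hfin, hflat, hsurj, ?_⟩
  haveI : IsFinite (f ≫ ψY).left := by rw [Over.comp_left]; infer_instance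
  let yt := (η[Yt] : 𝟙_ (Over (Spec (CommRingCat.of k))) ⟶ Yt).left (IsLocalRing.closedPoint k)
  let y₀ := (η[Y] : 𝟙_ (Over (Spec (CommRingCat.of k))) ⟶ Y).left (IsLocalRing.closedPoint k)
  have hY1 : ∀ z, ψY.left.finrank z = ψY.left.finrank yt := fun z => finrank_const ψY z yt
  have hX1 : ∀ z, ψX.left.finrank z = ψX.left.finrank x := fun z => finrank_const ψX z x
  have hcomp : ψX.left.finrank x = d * ψY.left.finrank yt * ft.left.finrank x := by
    rw [e, finrank_comp_isogeny (f ≫ ψY) ft hgX hgYt hgXt yt x, finrank_comp_isogeny f ψY hgX hgY hgYt y₀ yt, hd]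
  rcases Nat.eq_zero_or_pos g with rfl | hgpos
  · haveI : IsIntegral X.left := GeometricallyIntegral.isIntegral_of_subsingleton X.hom
    haveI : IsIntegral Y.left := GeometricallyIntegral.isIntegral_of_subsingleton Y.hom
    haveI : IsIntegral Xt.left := GeometricallyIntegral.isIntegral_of_subsingleton Xt.hom
    haveI : IsIntegral Yt.left := GeometricallyIntegral.isIntegral_of_subsingleton Yt.hom
    haveI : Subsingleton X.left := AVAmpleLib.subsingleton_of_dim_zero hgX
    haveI : Subsingleton Y.left := AVAmpleLib.subsingleton_of_dim_zero hgY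
    haveI : Subsingleton Xt.left := AVAmpleLib.subsingleton_of_dim_zero hgXt
    haveI : Subsingleton Yt.left := AVAmpleLib.subsingleton_of_dim_zero hgYt
    haveI hiso : ∀ (B : Over (Spec (CommRingCat.of k))) [GrpObj B] [IsProper B.hom] [Subsingleton B.left]
        [IsReduced B.left], IsIso B.hom := fun B _ _ _ _ => by
      let eB := (η[B] : 𝟙_ (Over (Spec (CommRingCat.of k))) ⟶ B).left
      haveI : IsClosedImmersion eB := isClosedImmersion_eta B
      haveI : Surjective eB := ⟨fun y => ⟨IsLocalRing.closedPoint k, Subsingleton.elim _ _⟩⟩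
      haveI : IsIso eB := isIso_of_isClosedImmersion_of_surjective eB
      haveI : IsIso (eB ≫ B.hom) := by rw [show eB ≫ B.hom = 𝟙 _ from Over.w η[B]]; infer_instance
      exact IsIso.of_isIso_comp_left eB B.hom
    haveI := hiso X; haveI := hiso Y; haveI := hiso Xt; haveI := hiso Yt
    have h1 : ∀ {B C : Over (Spec (CommRingCat.of k))} [IsIso B.hom] [IsIso C.hom] (u : B ⟶ C) (z : C.left),
        u.left.finrank z = 1 := fun {B C} _ _ u z => by
      haveI : IsIso (u.left ≫ C.hom) := by rw [Over.w u]; infer_instance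
      haveI : IsIso u.left := IsIso.of_isIso_comp_right u.left C.hom
      exact congrFun (Scheme.Hom.finrank_eq_one_of_isIso u.left) z
    rw [h1 ft x, ← hd y₀, h1 f y₀]
  -- positive dimension
  haveI : IsProper (X ⊗ X).hom := inferInstanceAs (IsProper (pullback.fst X.hom X.hom ≫ X.hom))
  letI : (X ⊗ X).left.Over (Spec (CommRingCat.of k)) := ⟨(X ⊗ X).hom⟩
  letI : (Y ⊗ Y).left.Over (Spec (CommRingCat.of k)) := ⟨(Y ⊗ Y).hom⟩
  have eX : Curv2.euler k (X ⊗ X).left ΛX = (-1 : ℤ) ^ g * (ψX.left.finrank x : ℤ) :=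
    euler_family_deg hX hΛX hΛX0 hgpos hgX x
  have eY : Curv2.euler k (Y ⊗ Y).left ΛY = (-1 : ℤ) ^ g * (ψY.left.finrank yt : ℤ) :=
    euler_family_deg hY hΛY hΛY0 hgpos hgY yt
  have key := euler_pullback_square f hd (Λ := (show (Y ⊗ Y).left.Modules from ΛY)) hΛY
  have e3 : Curv2.euler k (X ⊗ X).left ((Scheme.Modules.pullback (lift (fst X X ≫ f) (snd X X ≫ f)).left).obj ΛY) =
      Curv2.euler k (X ⊗ X).left ΛX :=
    CurvLib.euler_congr (k := k) ((Scheme.Modules.pullbackCongr (show (lift (fst X X ≫ f) (snd X X ≫ f)).left = m by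
      apply Limits.pullback.hom_ext
      · rw [Category.assoc, XTmap_fst, bcMap_fst]
        exact congrArg Over.Hom.left (lift_fst (fst X X ≫ f) (snd X X ≫ f))
      · rw [Category.assoc, XTmap_snd, ← Category.assoc, bcMap_snd]
        exact congrArg Over.Hom.left (lift_snd (fst X X ≫ f) (snd X X ≫ f)))).app ΛY)
  rw [e3, eX, eY, hcomp] at key
  have hd0 : 0 < d := by
    obtain ⟨x₀, hx₀⟩ := f.left.surjective y₀
    rw [← hd y₀, ← hx₀]
    exact Scheme.Hom.one_le_finrank_map f.left x₀
  have hdY0 : 0 < ψY.left.finrank yt := by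
    obtain ⟨y₁, hy₁⟩ := ψY.left.surjective yt
    rw [← hy₁]
    exact Scheme.Hom.one_le_finrank_map ψY.left y₁
  have h2 : ((-1 : ℤ) ^ g * ((d : ℤ) * (ψY.left.finrank yt : ℤ))) * (ft.left.finrank x : ℤ) =
      ((-1 : ℤ) ^ g * ((d : ℤ) * (ψY.left.finrank yt : ℤ))) * (d : ℤ) := by
    push_cast at key
    linear_combination key
  exact_mod_cast mul_left_cancel₀ (mul_ne_zero (pow_ne_zero g (by norm_num))
    (by exact_mod_cast (Nat.mul_pos hd0 hdY0).ne')) h2

end AVIndexLib

end
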