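import Groth.Agent.AVIndexLib.BidualField
import Groth.Agent.S10888

/-!
Biduality over a base.
-/

set_option autoImplicit false
set_option maxHeartbeats 1000000
set_option maxRecDepth 8000
set_option backward.isDefEq.respectTransparency false
set_option linter.style.haveILetI false
set_option linter.unusedSectionVars false

noncomputable section

universe u

open CategoryTheory CategoryTheory.Limits MonoidalCategory CartesianMonoidalCategory MonObj AlgebraicGeometry
open CubeConsLib

namespace AVIndexLib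

variable {S : Scheme.{u}}

/-- A morphism of proper flat schemes over a base which is an isomorphism on fibres is an isomorphism. -/
theorem isIso_of_fibres {X Y : Over S} (f : X ⟶ Y) [IsProper X.hom] [Flat X.hom]
    [LocallyOfFinitePresentation X.hom] [IsProper Y.hom] [LocallyOfFinitePresentation Y.hom]
    (h : ∀ s : S, IsIso ((Over.pullback (S.fromSpecResidueField s)).map f).left) : IsIso f.left := by
  haveI : IsProper (f.left ≫ Y.hom) := by rw [Over.w f]; infer_instance
  obtain ⟨U, hU, hiso⟩ := Groth.Agent.S10888.result X.hom Y.hom f.left (Over.w f)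
  obtain rfl : U = ⊤ := top_le_iff.1 fun s _ => (hU s).2 <| by
    haveI := h s
    refine ⟨@asIso _ _ _ _ ((Over.pullback (S.fromSpecResidueField s)).map f).left (h s), ?_⟩
    exact pullback.lift_fst _ _ _
  haveI : IsIso (f.left ∣_ (⊤ : Y.left.Opens)) := hiso
  haveI : IsIso (⊤ : Y.left.Opens).ι := Y.left.topIso.isIso_hom
  haveI : IsIso (f.left ⁻¹ᵁ (⊤ : Y.left.Opens)).ι := X.left.topIso.isIso_hom
  haveI : IsIso ((f.left ⁻¹ᵁ (⊤ : Y.left.Opens)).ι ≫ f.left) := by rw [← morphismRestrict_ι]; infer_instance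
  exact IsIso.of_isIso_comp_left (f.left ⁻¹ᵁ (⊤ : Y.left.Opens)).ι f.left



/-- The tautological projection of a base change. -/
abbrev prDn {S S' : Scheme.{u}} (t : S' ⟶ S) (X : Over S) : dn t (Red.bc t X) ⟶ X :=
  Over.homMk (pullback.fst X.hom t) pullback.condition

theorem toDn_bc_map {S S' : Scheme.{u}} (t : S' ⟶ S) {X Y : Over S} (f : X ⟶ Y) :
    toDn t ((Over.pullback t).map f) = prDn t X ≫ f := by
  ext1
  exact pullback.lift_fst _ _ _

theorem toDn_id {S S' : Scheme.{u}} (t : S' ⟶ S) (X : Over S) :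
    toDn t (𝟙 (Red.bc t X)) = prDn t X := by
  ext1
  exact Category.id_comp _

/-- The swap of a base changed product. -/
theorem swap_bc {S S' : Scheme.{u}} (t : S' ⟶ S) (X Y : Over S) :
    (pullbackSymmetry (Red.bc t Y).hom (Red.bc t X).hom).hom ≫
        (AgPol.bcXTIso t X (Red.bc t Y)).hom ≫ PicF.XTmap X.hom (prDn t Y) =
      ((AgPol.bcXTIso t Y (Red.bc t X)).hom ≫ PicF.XTmap Y.hom (prDn t X)) ≫
        (pullbackSymmetry Y.hom X.hom).hom := by
  have a1 : ((AgPol.bcXTIso t Y (Red.bc t X)).hom ≫ PicF.XTmap Y.hom (prDn t X)) ≫ pullback.fst Y.hom X.hom =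
      pullback.fst (Red.bc t Y).hom (Red.bc t X).hom ≫ pullback.fst Y.hom t := by
    rw [Category.assoc, XTmap_fst]
    exact pullbackLeftPullbackSndIso_hom_fst _ _ _
  have a2 : ((AgPol.bcXTIso t Y (Red.bc t X)).hom ≫ PicF.XTmap Y.hom (prDn t X)) ≫ pullback.snd Y.hom X.hom =
      pullback.snd (Red.bc t Y).hom (Red.bc t X).hom ≫ pullback.fst X.hom t := by
    rw [Category.assoc, XTmap_snd]
    exact ((Category.assoc _ _ _).symm.trans (congrArg (· ≫ pullback.fst X.hom t) (hom_bcXTIso_snd t (Red.bc t X))))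
  have b1 : ((AgPol.bcXTIso t X (Red.bc t Y)).hom ≫ PicF.XTmap X.hom (prDn t Y)) ≫ pullback.fst X.hom Y.hom =
      pullback.fst (Red.bc t X).hom (Red.bc t Y).hom ≫ pullback.fst X.hom t := by
    rw [Category.assoc, XTmap_fst]
    exact pullbackLeftPullbackSndIso_hom_fst _ _ _
  have b2 : ((AgPol.bcXTIso t X (Red.bc t Y)).hom ≫ PicF.XTmap X.hom (prDn t Y)) ≫ pullback.snd X.hom Y.hom =
      pullback.snd (Red.bc t X).hom (Red.bc t Y).hom ≫ pullback.fst Y.hom t := by
    rw [Category.assoc, XTmap_snd]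
    exact ((Category.assoc _ _ _).symm.trans (congrArg (· ≫ pullback.fst Y.hom t) (hom_bcXTIso_snd t (Red.bc t Y))))
  apply pullback.hom_ext
  · rw [Category.assoc, b1, Category.assoc, pullbackSymmetry_hom_comp_fst, a2, ← Category.assoc,
      pullbackSymmetry_hom_comp_fst]
  · rw [Category.assoc, b2, Category.assoc, pullbackSymmetry_hom_comp_snd, a1, ← Category.assoc,
      pullbackSymmetry_hom_comp_snd]

variable {X Xt Xtt : Over S} [GrpObj X] [GrpObj Xt] [GrpObj Xtt]
  {φX : AgPol.DualMap X Xt} {φXt : AgPol.DualMap Xt Xtt}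

/-- The base change of a Poincaré class. -/
theorem isPoincareCl_bc {S' : Scheme.{u}} (t : S' ⟶ S) (hX : AbDual.IsDualAV Scheme.fppfPrecoverage X Xt φX)
    {P : (PicF.XT X.hom Xt).Modules} (hP : PicF.IsInvertible P)
    (hPξ : AbDual.IsPoincareCl X Xt φX (PicF.cl P)) :
    AbDual.IsPoincareCl (Red.bc t X) (Red.bc t Xt) (AgPol.bcDual t X Xt φX)
      (PicF.cl ((Scheme.Modules.pullback ((AgPol.bcXTIso t X (Red.bc t Xt)).hom ≫
        PicF.XTmap X.hom (prDn t Xt))).obj P)) := by
  have e0 : PicF.cl ((Scheme.Modules.pullback ((AgPol.bcXTIso t X (Red.bc t Xt)).hom ≫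
      PicF.XTmap X.hom (prDn t Xt))).obj P) =
      PicF.pullCl (AgPol.bcXTIso t X (Red.bc t Xt)).hom (PicF.pullCl (PicF.XTmap X.hom (prDn t Xt)) (PicF.cl P)) :=
    (pullCl_pullCl (AgPol.bcXTIso t X (Red.bc t Xt)).hom (PicF.XTmap X.hom (prDn t Xt)) (PicF.cl P)).symm
  rw [e0]
  refine ⟨isPicZeroCl_hom t (isPicZeroCl_XTmap _ hPξ.1), toDn_injective t ?_, ?_⟩
  · rw [toDn_bcDual, pullCl_pullCl, Iso.inv_hom_id, pullCl_id, hX.relPic.natural _ _ _ _ hPξ.1, hPξ.2.1,
      Category.comp_id, toDn_id]
  · rw [pullCl_pullCl, pullCl_pullCl]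
    let sb := PicF.secT (Red.bc t X).hom η[Red.bc t X].left (Over.w η[Red.bc t X]) (Red.bc t Xt)
    let sX := PicF.secT X.hom η[X].left (Over.w η[X]) Xt
    have hb1 : sb ≫ pullback.fst (Red.bc t X).hom (Red.bc t Xt).hom =
        (Red.bc t Xt).hom ≫ (η[Red.bc t X] : 𝟙_ (Over S') ⟶ Red.bc t X).left := pullback.lift_fst _ _ _
    have hb2 : sb ≫ pullback.snd (Red.bc t X).hom (Red.bc t Xt).hom = 𝟙 _ := pullback.lift_snd _ _ _
    have hs1 : sX ≫ pullback.fst X.hom Xt.hom = Xt.hom ≫ (η[X] : 𝟙_ (Over S) ⟶ X).left := pullback.lift_fst _ _ _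
    have hs2 : sX ≫ pullback.snd X.hom Xt.hom = 𝟙 _ := pullback.lift_snd _ _ _
    have hη : (η[Red.bc t X] : 𝟙_ (Over S') ⟶ Red.bc t X).left ≫ pullback.fst X.hom t =
        t ≫ (η[X] : 𝟙_ (Over S) ⟶ X).left := by
      have := congrArg (fun f => f.left ≫ pullback.fst X.hom t)
        (Functor.obj.η_def (F := Over.pullback t) (X := X))
      refine this.trans ?_
      simp only [Over.comp_left, Category.assoc]
      erw [pullback.lift_fst]
      rw [← Category.assoc]
      congr 1
      simp
    have e : (sb ≫ (AgPol.bcXTIso t X (Red.bc t Xt)).hom) ≫ PicF.XTmap X.hom (prDn t Xt) =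
        pullback.fst Xt.hom t ≫ sX := by
      apply pullback.hom_ext
      · rw [Category.assoc, XTmap_fst, Category.assoc]
        refine (congrArg (sb ≫ ·) (pullbackLeftPullbackSndIso_hom_fst _ _ _)).trans ?_
        refine ((Category.assoc _ _ _).symm.trans ((congrArg (· ≫ pullback.fst X.hom t) hb1).trans
          ((Category.assoc _ _ _).trans (congrArg ((Red.bc t Xt).hom ≫ ·) hη)))).trans ?_
        refine Eq.trans ?_ ((Category.assoc _ _ _).trans (congrArg (pullback.fst Xt.hom t ≫ ·) hs1)).symm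
        exact ((Category.assoc _ _ _).symm.trans
          ((congrArg (· ≫ (η[X] : 𝟙_ (Over S) ⟶ X).left) pullback.condition.symm).trans (Category.assoc _ _ _)))
      · rw [Category.assoc, XTmap_snd, Category.assoc]
        refine (congrArg (sb ≫ ·) ((Category.assoc _ _ _).symm.trans
          (congrArg (· ≫ pullback.fst Xt.hom t) (hom_bcXTIso_snd t (Red.bc t Xt))))).trans ?_
        refine ((Category.assoc _ _ _).symm.trans ((congrArg (· ≫ pullback.fst Xt.hom t) hb2).trans
          (Category.id_comp _))).trans ?_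
        exact ((Category.assoc _ _ _).trans ((congrArg (pullback.fst Xt.hom t ≫ ·) hs2).trans
          (Category.comp_id _))).symm
    rw [e, ← pullCl_pullCl, hPξ.2.2]
    exact Quot.sound ⟨KFlatLib.pullUnitIso _⟩

variable [IsProper X.hom] [Smooth X.hom] [GeometricallyConnected X.hom] [IsProper Xt.hom] [Smooth Xt.hom]
  [GeometricallyConnected Xt.hom] [IsProper Xtt.hom] [Smooth Xtt.hom] [GeometricallyConnected Xtt.hom]

/-- The biduality map is an isomorphism over any locally Noetherian base. -/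
theorem isIso_bidual (hX : AbDual.IsDualAV Scheme.fppfPrecoverage X Xt φX)
    (hXt : AbDual.IsDualAV Scheme.fppfPrecoverage Xt Xtt φXt)
    {P : (PicF.XT X.hom Xt).Modules} (hP : PicF.IsInvertible P) (hPξ : AbDual.IsPoincareCl X Xt φX (PicF.cl P))
    (h0 : AbDual.IsPicZeroCl Xt.hom X (PicF.pullCl (pullbackSymmetry Xt.hom X.hom).hom (PicF.cl P))) :
    IsMonHom (φXt X (PicF.pullCl (pullbackSymmetry Xt.hom X.hom).hom (PicF.cl P))) ∧
      IsIso (φXt X (PicF.pullCl (pullbackSymmetry Xt.hom X.hom).hom (PicF.cl P))) := by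
  haveI := geometricallyIntegral_of_smooth_group X
  haveI := geometricallyIntegral_of_smooth_group Xt
  haveI := geometricallyIntegral_of_smooth_group Xtt
  let κ := φXt X (PicF.pullCl (pullbackSymmetry Xt.hom X.hom).hom (PicF.cl P))
  haveI := AbSchLib.geometricallyReduced_of_smooth X.hom
  refine ⟨?_, ?_⟩
  · refine H0Lib.isMonHom_of_one_comp κ ?_
    rw [← hXt.relPic.natural _ _ η[X] _ h0, pullCl_pullCl]
    refine Eq.trans ?_ ((phi_structure hXt _).trans ?_)
    · refine congrArg _ ?_
      have e : PicF.XTmap Xt.hom η[X] ≫ (pullbackSymmetry Xt.hom X.hom).hom =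
          pullback.fst Xt.hom (𝟙_ (Over S)).hom ≫ PicF.secT X.hom η[X].left (Over.w η[X]) Xt := by
        apply pullback.hom_ext
        · rw [Category.assoc, pullbackSymmetry_hom_comp_fst, XTmap_snd, Category.assoc]
          refine Eq.trans ?_ (congrArg (pullback.fst Xt.hom (𝟙_ (Over S)).hom ≫ ·) (pullback.lift_fst _ _ _)).symm
          rw [← Category.assoc]
          exact congrArg (· ≫ (η[X] : 𝟙_ (Over S) ⟶ X).left)
            ((Category.comp_id _).symm.trans pullback.condition.symm)
        · rw [Category.assoc, pullbackSymmetry_hom_comp_snd, XTmap_fst, Category.assoc]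
          exact ((congrArg (_ ≫ ·) (pullback.lift_snd _ _ _)).trans (Category.comp_id _)).symm
      rw [e, ← pullCl_pullCl, hPξ.2.2]
      exact Quot.sound ⟨KFlatLib.pullUnitIso _⟩
    · rw [Hom.one_def, toUnit_unique (toUnit _) (𝟙 _), Category.id_comp]
  · suffices IsIso κ.left from @isIso_of_reflects_iso _ _ _ _ _ _ κ (Over.forget _) this _
    refine isIso_of_fibres κ fun s => ?_
    let t : Spec (CommRingCat.of (S.residueField s)) ⟶ S := S.fromSpecResidueField s
    haveI : IsProper (Red.bc t X).hom := inferInstanceAs (IsProper (pullback.snd X.hom t))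
    haveI : IsProper (Red.bc t Xt).hom := inferInstanceAs (IsProper (pullback.snd Xt.hom t))
    haveI : IsProper (Red.bc t Xtt).hom := inferInstanceAs (IsProper (pullback.snd Xtt.hom t))
    haveI : GeometricallyIntegral (Red.bc t X).hom := inferInstanceAs (GeometricallyIntegral (pullback.snd X.hom t))
    haveI : GeometricallyIntegral (Red.bc t Xt).hom := inferInstanceAs (GeometricallyIntegral (pullback.snd Xt.hom t))
    haveI : GeometricallyIntegral (Red.bc t Xtt).hom :=
      inferInstanceAs (GeometricallyIntegral (pullback.snd Xtt.hom t))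
    let m := (AgPol.bcXTIso t X (Red.bc t Xt)).hom ≫ PicF.XTmap X.hom (prDn t Xt)
    let σ' := (pullbackSymmetry (Red.bc t Xt).hom (Red.bc t X).hom).hom
    have hXs := isDualAV_bcDual t hX
    have hXts := isDualAV_bcDual t hXt
    have hPs := AmpleDevLib.isInvertible_pb m hP
    have hc : PicF.cl ((Scheme.Modules.pullback σ').obj ((Scheme.Modules.pullback m).obj P)) =
        PicF.pullCl (AgPol.bcXTIso t Xt (Red.bc t X)).hom (PicF.pullCl (PicF.XTmap Xt.hom (prDn t X))
          (PicF.pullCl (pullbackSymmetry Xt.hom X.hom).hom (PicF.cl P))) := by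
      change PicF.pullCl σ' (PicF.pullCl m (PicF.cl P)) = _
      rw [pullCl_pullCl, pullCl_pullCl, pullCl_pullCl]
      exact congrArg (fun g => PicF.pullCl g (PicF.cl P)) (swap_bc t X Xt)
    have h0s : AbDual.IsPicZeroCl (Red.bc t Xt).hom (Red.bc t X)
        (PicF.cl ((Scheme.Modules.pullback σ').obj ((Scheme.Modules.pullback m).obj P))) := by
      rw [hc]
      exact isPicZeroCl_hom t (isPicZeroCl_XTmap _ h0)
    have hiso := isIso_bidual_field hXs hXts hPs (isPoincareCl_bc t hX hP hPξ) h0s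
    have key : AgPol.bcDual t Xt Xtt φXt (Red.bc t X)
        (PicF.cl ((Scheme.Modules.pullback σ').obj ((Scheme.Modules.pullback m).obj P))) =
        (Over.pullback t).map κ := by
      refine toDn_injective t ?_
      rw [toDn_bcDual, hc, pullCl_pullCl, Iso.inv_hom_id, pullCl_id, hXt.relPic.natural _ _ _ _ h0, toDn_bc_map]
    rw [key] at hiso
    exact hiso

end AVIndexLib

end
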