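import Groth.Agent.AVIndexLib.TransIsog
import Groth.Agent.AVIndexLib.BidualBase

/-!
The transpose of an isogeny of abelian schemes is an isogeny.
-/

set_option autoImplicit false
set_option maxHeartbeats 1000000
set_option maxRecDepth 8000
set_option synthInstance.maxHeartbeats 100000
set_option backward.isDefEq.respectTransparency false
set_option linter.style.haveILetI false
set_option linter.unusedSectionVars false

noncomputable section

universe u

open CategoryTheory CategoryTheory.Limits MonoidalCategory CartesianMonoidalCategory MonObj AlgebraicGeometry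
open CubeConsLib

namespace AVIndexLib

variable {S S' : Scheme.{u}} (t : S' ⟶ S)

theorem inv_bcXTIso_bcMap {X Y : Over S} (f : X ⟶ Y) (T : Over S') :
    (AgPol.bcXTIso t X T).inv ≫ AbDual.bcMap ((Over.pullback t).map f) T =
      AbDual.bcMap f (dn t T) ≫ (AgPol.bcXTIso t Y T).inv := by
  rw [Iso.eq_comp_inv, Category.assoc, Iso.inv_comp_eq]
  apply pullback.hom_ext
  · rw [Category.assoc, Category.assoc, bcMap_fst]
    refine (congrArg (AbDual.bcMap ((Over.pullback t).map f) T ≫ ·)
      (pullbackLeftPullbackSndIso_hom_fst Y.hom t T.hom)).trans ?_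
    refine ((Category.assoc _ _ _).symm.trans ((congrArg (· ≫ pullback.fst Y.hom t)
      (bcMap_fst ((Over.pullback t).map f) T)).trans ((Category.assoc _ _ _).trans
      (congrArg (pullback.fst (pullback.snd X.hom t) T.hom ≫ ·) (pullback.lift_fst _ _ _))))).trans ?_
    exact (Category.assoc _ _ _).symm.trans ((congrArg (· ≫ f.left)
      (pullbackLeftPullbackSndIso_hom_fst X.hom t T.hom).symm).trans (Category.assoc _ _ _))
  · rw [Category.assoc, Category.assoc, bcMap_snd]
    refine (congrArg (_ ≫ ·) (hom_bcXTIso_snd t T)).trans ?_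
    rw [bcMap_snd]
    exact (hom_bcXTIso_snd t T).symm

theorem toDn_comp_map {X Y : Over S} {U : Over S'} (g : U ⟶ Red.bc t X) (f : X ⟶ Y) :
    toDn t (g ≫ (Over.pullback t).map f) = toDn t g ≫ f := by
  rw [toDn_comp, toDn_bc_map, ← Category.assoc]
  congr 1

/-- Transposes are stable under base change. -/
theorem isTranspose_bc {X Y Xt Yt : Over S} {φX : AgPol.DualMap X Xt} {φY : AgPol.DualMap Y Yt} {f : X ⟶ Y}
    {ft : Yt ⟶ Xt} (h : AbDual.IsTranspose f φX φY ft) :
    AbDual.IsTranspose ((Over.pullback t).map f) (AgPol.bcDual t X Xt φX) (AgPol.bcDual t Y Yt φY)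
      ((Over.pullback t).map ft) := fun T c hc => toDn_injective t <| by
  rw [toDn_comp_map, toDn_bcDual, toDn_bcDual, pullCl_pullCl, inv_bcXTIso_bcMap, ← pullCl_pullCl]
  exact h _ _ (isPicZeroCl_inv t hc)

variable {X Y Xt Yt : Over S} [GrpObj X] [GrpObj Y] [GrpObj Xt] [GrpObj Yt]
  [IsProper X.hom] [GeometricallyIntegral X.hom] [IsProper Y.hom] [GeometricallyIntegral Y.hom]
  [IsProper Xt.hom] [GeometricallyIntegral Xt.hom] [IsProper Yt.hom] [GeometricallyIntegral Yt.hom]
  {φX : AgPol.DualMap X Xt} (hX : AbDual.IsDualAV Scheme.fppfPrecoverage X Xt φX)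
  {φY : AgPol.DualMap Y Yt} (hY : AbDual.IsDualAV Scheme.fppfPrecoverage Y Yt φY)
  (f : X ⟶ Y) [IsMonHom f] [Surjective f.left] {N : Over S} {i : N ⟶ X} (hN : AlgGrp.IsKernel i f)
  [IsFinite N.hom] (ft : Yt ⟶ Xt) [IsMonHom ft] (hft : AbDual.IsTranspose f φX φY ft)

include hX hY hN hft in
theorem transpose_isogeny_at (K : Type u) [Field K] (ξ : Spec (CommRingCat.of K) ⟶ S) :
    IsFinite ((Over.pullback ξ).map ft).left ∧ Surjective ((Over.pullback ξ).map ft).left := by
  haveI : IsProper (Red.bc ξ X).hom := inferInstanceAs (IsProper (pullback.snd X.hom ξ))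
  haveI : IsProper (Red.bc ξ Y).hom := inferInstanceAs (IsProper (pullback.snd Y.hom ξ))
  haveI : IsProper (Red.bc ξ Xt).hom := inferInstanceAs (IsProper (pullback.snd Xt.hom ξ))
  haveI : IsProper (Red.bc ξ Yt).hom := inferInstanceAs (IsProper (pullback.snd Yt.hom ξ))
  haveI : GeometricallyIntegral (Red.bc ξ X).hom := inferInstanceAs (GeometricallyIntegral (pullback.snd X.hom ξ))
  haveI : GeometricallyIntegral (Red.bc ξ Y).hom := inferInstanceAs (GeometricallyIntegral (pullback.snd Y.hom ξ))
  haveI : GeometricallyIntegral (Red.bc ξ Xt).hom := inferInstanceAs (GeometricallyIntegral (pullback.snd Xt.hom ξ))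
  haveI : GeometricallyIntegral (Red.bc ξ Yt).hom := inferInstanceAs (GeometricallyIntegral (pullback.snd Yt.hom ξ))
  let F := Over.pullback ξ
  haveI : IsMonHom (F.map f) := AbSchLib.isMonHom_pullback_map ξ f
  haveI : Surjective (F.map f).left := by
    have sq : IsPullback (pullback.fst X.hom ξ) (F.map f).left f.left (pullback.fst Y.hom ξ) := by
      refine IsPullback.of_bot ?_ (pullback.lift_fst _ _ _).symm (IsPullback.of_hasPullback Y.hom ξ)
      rw [Over.w f, show (F.map f).left ≫ pullback.snd Y.hom ξ = pullback.snd X.hom ξ from pullback.lift_snd _ _ _]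
      exact IsPullback.of_hasPullback X.hom ξ
    exact MorphismProperty.of_isPullback sq ‹Surjective f.left›
  haveI : IsFinite (F.map f).left := by
    have hk := (hN.map F).map (Over.forget _)
    haveI : IsFinite (F.obj N).hom :=
      MorphismProperty.pullback_snd (P := @IsFinite) N.hom ξ ‹IsFinite N.hom›
    have hfin : (Set.univ : Set (F.obj N).left).Finite := by
      have h1 := (F.obj N).hom.finite_preimage_singleton (IsLocalRing.closedPoint K)
      have h2 : ⇑(F.obj N).hom ⁻¹' {IsLocalRing.closedPoint K} = Set.univ :=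
        Set.eq_univ_of_forall fun x => Subsingleton.elim (α := PrimeSpectrum K) _ _
      exact (congrArg Set.Finite h2).mp h1
    refine isFinite_of_finite_kernel (F.map f) ((hfin.image (F.map i).left).subset fun y hy => ?_)
    have hη : (η[F.obj Y] : 𝟙_ (Over (Spec (CommRingCat.of K))) ⟶ F.obj Y).left =
        (Functor.LaxMonoidal.ε F).left ≫ (F.map η[Y]).left := by
      rw [← Over.comp_left]
      rfl
    have hy' : (F.map f).left y = (F.map η[Y]).left ((Functor.LaxMonoidal.ε F).left (IsLocalRing.closedPoint K)) := by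
      rw [← Scheme.Hom.comp_apply, ← hη]
      exact hy
    obtain ⟨z, hz, -⟩ := Scheme.exists_preimage_of_isPullback hk y _ hy'
    exact ⟨z, trivial, hz⟩
  exact transpose_isogeny_field (isDualAV_bcDual ξ hX) (isDualAV_bcDual ξ hY) (F.map f) (F.map ft)
    (isTranspose_bc ξ hft)

include hX hY hN hft in
/-- The transpose of an isogeny is finite, flat and surjective. -/
theorem transpose_isogeny [Flat Yt.hom] [LocallyOfFinitePresentation Yt.hom] [LocallyOfFinitePresentation Xt.hom]
    [Smooth Xt.hom] : IsFinite ft.left ∧ Surjective ft.left ∧ Flat ft.left := by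
  haveI : IsProper ft.left := by
    haveI : IsProper (ft.left ≫ Xt.hom) := by rw [Over.w ft]; infer_instance
    exact IsProper.of_comp ft.left Xt.hom
  have key : ∀ x : Xt.left, (ft.left ⁻¹' {x}).Finite ∧ ∃ y, ft.left y = x := fun x => by
    let s := Xt.hom x
    let ξ : Spec (CommRingCat.of (S.residueField s)) ⟶ S := S.fromSpecResidueField s
    obtain ⟨hfin, hsurj⟩ := transpose_isogeny_at hX hY f hN ft hft (S.residueField s) ξ
    have hc : ((Over.pullback ξ).map ft).left ≫ pullback.fst Xt.hom ξ = pullback.fst Yt.hom ξ ≫ ft.left :=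
      pullback.lift_fst _ _ _
    obtain ⟨x', hx', -⟩ := Scheme.Pullback.exists_preimage_pullback (f := Xt.hom) (g := ξ) x
      (IsLocalRing.closedPoint _) (S.fromSpecResidueField_apply s _).symm
    haveI := hfin
    let g := ((Over.pullback ξ).map ft).left
    haveI : IsFinite g := hfin
    have hpre : (g ⁻¹' {x'}).Finite := g.finite_preimage_singleton x'
    refine ⟨(hpre.image (pullback.fst Yt.hom ξ)).subset fun y hy => ?_, ?_⟩
    · have hy' : Yt.hom y = s := by rw [← Over.w ft, Scheme.Hom.comp_apply, (hy : ft.left y = x)]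
      obtain ⟨y', hy'', -⟩ := Scheme.Pullback.exists_preimage_pullback (f := Yt.hom) (g := ξ) y
        (IsLocalRing.closedPoint _) (hy'.trans (S.fromSpecResidueField_apply s _).symm)
      refine ⟨y', (Xt.hom.fiberι s).isEmbedding.injective ?_, hy''⟩
      change pullback.fst Xt.hom ξ (((Over.pullback ξ).map ft).left y') = pullback.fst Xt.hom ξ x'
      exact ((congr($(hc) y') : _).trans ((congrArg ft.left hy'').trans hy)).trans hx'.symm
    · obtain ⟨y', hy'⟩ := ((Over.pullback ξ).map ft).left.surjective x'
      refine ⟨pullback.fst Yt.hom ξ y', ?_⟩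
      exact (((congr($(hc) y') : _).symm).trans (congrArg (pullback.fst Xt.hom ξ) hy')).trans hx'
  haveI : LocallyQuasiFinite ft.left :=
    LocallyQuasiFinite.of_finite_preimage_singleton ft.left fun x => (key x).1
  refine ⟨IsFinite.of_isProper_of_locallyQuasiFinite ft.left, ⟨fun x => (key x).2⟩, ?_⟩
  refine AbSchLib.flat_of_geometric_fibres ft fun K _ _ ξ => ?_
  obtain ⟨hfin, hsurj⟩ := transpose_isogeny_at hX hY f hN ft hft K ξ
  haveI : Smooth (Red.bc ξ Xt).hom := inferInstanceAs (Smooth (pullback.snd Xt.hom ξ))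
  haveI : IsProper (Red.bc ξ Xt).hom := inferInstanceAs (IsProper (pullback.snd Xt.hom ξ))
  haveI : IsProper (Red.bc ξ Yt).hom := inferInstanceAs (IsProper (pullback.snd Yt.hom ξ))
  haveI : GeometricallyIntegral (Red.bc ξ Xt).hom := inferInstanceAs (GeometricallyIntegral (pullback.snd Xt.hom ξ))
  haveI : GeometricallyIntegral (Red.bc ξ Yt).hom := inferInstanceAs (GeometricallyIntegral (pullback.snd Yt.hom ξ))
  haveI : LocallyOfFinitePresentation (Red.bc ξ Yt).hom :=
    LocallyOfFinitePresentation.iff_locallyOfFiniteType.2 inferInstance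
  haveI : IsMonHom ((Over.pullback ξ).map ft) := AbSchLib.isMonHom_pullback_map ξ ft
  exact AbSchLib.flat_of_surjective ((Over.pullback ξ).map ft)

end AVIndexLib

end
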