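import Groth.Agent.AVIndexLib.TransDeg
import Groth.Agent.AVIndexLib.TransIsogBase
import Groth.Agent.AVIndexLib.KLKernel

/-!
The pullback of a polarization along an isogeny.
-/

set_option autoImplicit false
set_option maxHeartbeats 1000000
set_option maxRecDepth 8000
set_option backward.isDefEq.respectTransparency false
set_option linter.style.haveILetI false
set_option linter.unusedSectionVars false

noncomputable section

universe u

open CategoryTheory CategoryTheory.Limits MonoidalCategory CartesianMonoidalCategory MonObj AlgebraicGeometry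
open CubeConsLib AVVanishLib AVAmpleLib

namespace AVIndexLib

variable {k : Type u} [Field k] {X Xt Y Yt : Over (Spec (CommRingCat.of k))}

/-- A module with the class of the Mumford bundle is one. -/
theorem isLambdaSheaf_of_clA [GrpObj X] {L : X.left.Modules} (hL : PicF.IsInvertible L)
    {N : (PicF.XT X.hom X).Modules} (hN : PicF.IsInvertible N)
    (cN : (clA hN : PicA (X ⊗ X).left) = lam hL (fst X X) (snd X X)) :
    AgPol.IsLambdaSheaf (μ[X].left : PicF.XT X.hom X ⟶ X.left) (fst X X).left (snd X X).left L N := by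
  have g0 : PicF.IsInvertible (show (X ⊗ X).left.Modules from N) := hN
  have g1 := AmpleDevLib.isInvertible_pb (fst X X).left hL
  have g2 := AmpleDevLib.isInvertible_pb (snd X X).left hL
  have g3 := AmpleDevLib.isInvertible_pb (μ[X] : X ⊗ X ⟶ X).left hL
  refine (clA_eq_iff (HilbPolyLib.isInvertible_tensor (HilbPolyLib.isInvertible_tensor g0 g1) g2) g3).1 ?_
  have hμ : μ[X] = fst X X * snd X X := by rw [Hom.mul_def, lift_fst_snd, Category.id_comp]
  rw [clA_tensor (HilbPolyLib.isInvertible_tensor g0 g1) g2, clA_tensor g0 g1, ← pullA_clA _ hL, ← pullA_clA _ hL,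
    ← pullA_clA _ hL, show (clA g0 : PicA (X ⊗ X).left) = lam hL (fst X X) (snd X X) from cN, CubeConsLib.lam,
    P, P, P, hμ]
  abel

variable [GrpObj X] [IsProper X.hom] [GeometricallyIntegral X.hom] [GrpObj Xt] [IsProper Xt.hom]
  [GeometricallyIntegral Xt.hom] [GrpObj Y] [IsProper Y.hom] [GeometricallyIntegral Y.hom] [GrpObj Yt]
  [IsProper Yt.hom] [GeometricallyIntegral Yt.hom]
  {φX : AgPol.DualMap X Xt} {φY : AgPol.DualMap Y Yt}
  (hX : AbDual.IsDualAV Scheme.fppfPrecoverage X Xt φX) (hY : AbDual.IsDualAV Scheme.fppfPrecoverage Y Yt φY)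
  (f : X ⟶ Y) [IsMonHom f] [IsFinite f.left] {ft : Yt ⟶ Xt} (hft : AbDual.IsTranspose f φX φY ft)

include hX hY hft in
theorem isMonHom_transpose : IsMonHom ft := by
  haveI : LocallyOfFinitePresentation Yt.hom := LocallyOfFinitePresentation.iff_locallyOfFiniteType.2 inferInstance
  haveI := geometricallyConnected_of_integral Yt.hom
  refine H0Lib.isMonHom_of_one_comp ft ?_
  have h := hft (𝟙_ _) _ (isPicZeroCl_structure Y (𝟙_ (Over (Spec (CommRingCat.of k)))))
  rw [phi_structure hY, show PicF.pullCl (AbDual.bcMap f (𝟙_ (Over (Spec (CommRingCat.of k)))))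
      (PicF.cl (Coh.structureModule _)) = PicF.cl (Coh.structureModule _) from Quot.sound ⟨KFlatLib.pullUnitIso _⟩,
    phi_structure hX, Hom.one_def, Hom.one_def, toUnit_unique (toUnit (𝟙_ (Over (Spec (CommRingCat.of k))))) (𝟙 _),
    Category.id_comp, Category.id_comp] at h
  exact h.symm

include hY hft in
/-- Pulling back the map of an ample class gives the map of an ample class. -/
theorem exists_isLambda_pullback {L : Y.left.Modules} (hLa : CohB1.IsAmple L) {l : Y ⟶ Yt}
    (hl : AgPol.IsLambda Y Yt φY L l) :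
    CohB1.IsAmple ((Scheme.Modules.pullback f.left).obj L) ∧
      AgPol.IsLambda X Xt φX ((Scheme.Modules.pullback f.left).obj L) (f ≫ l ≫ ft) := by
  obtain ⟨N, hN, cN, rfl⟩ := exists_of_isLambda hLa.1 hl
  have hN0 := isPicZeroCl_mumford hLa.1 cN
  let m := AbDual.bcMap f X ≫ PicF.XTmap Y.hom f
  have hm := AmpleDevLib.isInvertible_pb m hN
  refine ⟨AmpleDevLib.isAmple_pb f.left hLa.1 hLa, _, hm,
    isLambdaSheaf_of_clA (AmpleDevLib.isInvertible_pb f.left hLa.1) hm ?_, ?_⟩
  · rw [← pullA_clA m hN]
    exact mumford_pullback f hLa.1 hN cN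
  · rw [← Category.assoc, ← hY.relPic.natural _ _ f _ hN0, ← hft X _ (isPicZeroCl_XTmap f hN0), pullCl_pullCl]
    rfl

include hX hY hft in
/-- The pullback of a polarization along an isogeny is a polarization of the expected degree. -/
theorem polarization_pullback [Flat f.left] [Surjective f.left] {d : ℕ} (hd : ∀ y : Y.left, f.left.finrank y = d)
    (l : Y ⟶ Yt) (hl : AgPol.IsPolarization Y Yt φY l) [IsFinite l.left] [Flat l.left] {e : ℕ}
    (he : ∀ y : Yt.left, l.left.finrank y = e) :
    AgPol.IsPolarization X Xt φX (f ≫ l ≫ ft) ∧ IsFinite (f ≫ l ≫ ft).left ∧ Flat (f ≫ l ≫ ft).left ∧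
      ∀ x : Xt.left, (f ≫ l ≫ ft).left.finrank x = d ^ 2 * e := by
  haveI := hl.1
  haveI := isMonHom_transpose hX hY f hft
  obtain ⟨g, hgX⟩ := AVAmpleLib.exists_dim_field X
  have hgY : topologicalKrullDim Y.left = (g : ℕ) :=
    ((MiscFlat6.dim_le_of_isIntegralHom f.left).2 inferInstance).symm.trans hgX
  have hgXt := dim_dual hX hgX
  have hgYt := dim_dual hY hgY
  let ox := (η[Xt] : 𝟙_ (Over (Spec (CommRingCat.of k))) ⟶ Xt).left (IsLocalRing.closedPoint k)
  obtain ⟨hfin, hflat, -, -⟩ := finrank_transpose hX hY f ft hft hd ox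
  haveI := hfin
  haveI := hflat
  haveI : IsFinite (l ≫ ft).left := by rw [Over.comp_left]; infer_instance
  have hfin' : IsFinite (f ≫ l ≫ ft).left := by rw [Over.comp_left]; infer_instance
  have hflat' : Flat (f ≫ l ≫ ft).left := by rw [Over.comp_left, Over.comp_left]; infer_instance
  refine ⟨⟨inferInstance, fun Ω _ _ t => ?_⟩, hfin', hflat', fun x => ?_⟩
  · obtain ⟨L, hLa, hlL⟩ := hl.2 Ω t
    haveI : IsProper (Red.bc t X).hom := inferInstanceAs (IsProper (pullback.snd X.hom t))
    haveI : IsProper (Red.bc t Y).hom := inferInstanceAs (IsProper (pullback.snd Y.hom t))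
    haveI : GeometricallyIntegral (Red.bc t X).hom := inferInstanceAs (GeometricallyIntegral (pullback.snd X.hom t))
    haveI : GeometricallyIntegral (Red.bc t Y).hom := inferInstanceAs (GeometricallyIntegral (pullback.snd Y.hom t))
    haveI : IsProper (Red.bc t Xt).hom := inferInstanceAs (IsProper (pullback.snd Xt.hom t))
    haveI : IsProper (Red.bc t Yt).hom := inferInstanceAs (IsProper (pullback.snd Yt.hom t))
    haveI : GeometricallyIntegral (Red.bc t Xt).hom := inferInstanceAs (GeometricallyIntegral (pullback.snd Xt.hom t))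
    haveI : GeometricallyIntegral (Red.bc t Yt).hom := inferInstanceAs (GeometricallyIntegral (pullback.snd Yt.hom t))
    let F := Over.pullback t
    haveI : IsMonHom (F.map f) := AbSchLib.isMonHom_pullback_map t f
    haveI : IsFinite (F.map f).left := by
      have sq : IsPullback (pullback.fst X.hom t) (F.map f).left f.left (pullback.fst Y.hom t) := by
        refine IsPullback.of_bot ?_ (pullback.lift_fst _ _ _).symm (IsPullback.of_hasPullback Y.hom t)
        rw [Over.w f, show (F.map f).left ≫ pullback.snd Y.hom t = pullback.snd X.hom t from pullback.lift_snd _ _ _]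
        exact IsPullback.of_hasPullback X.hom t
      exact MorphismProperty.of_isPullback sq ‹IsFinite f.left›
    obtain ⟨h1, h2⟩ := exists_isLambda_pullback (isDualAV_bcDual t hY) (F.map f) (isTranspose_bc t hft) hLa hlL
    refine ⟨_, h1, ?_⟩
    rw [Functor.map_comp, Functor.map_comp]
    exact h2
  · let oy := (η[Y] : 𝟙_ (Over (Spec (CommRingCat.of k))) ⟶ Y).left (IsLocalRing.closedPoint k)
    let oyt := (η[Yt] : 𝟙_ (Over (Spec (CommRingCat.of k))) ⟶ Yt).left (IsLocalRing.closedPoint k)
    rw [finrank_comp_isogeny f (l ≫ ft) hgX hgY hgXt oy x, finrank_comp_isogeny l ft hgY hgYt hgXt oyt x,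
      (finrank_transpose hX hY f ft hft hd x).2.2.2, hd, he]
    ring

end AVIndexLib

end
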