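import Groth.Agent.AVIndexLib.KLKernel

/-!
The transposed family is classified by the transpose of the classifying map.
-/

set_option autoImplicit false
set_option maxHeartbeats 1000000
set_option maxRecDepth 8000
set_option backward.isDefEq.respectTransparency false
set_option linter.style.haveILetI false
set_option linter.unusedSectionVars false

noncomputable section

universe u

open CategoryTheory CategoryTheory.Limits MonoidalCategory CartesianMonoidalCategory MonObj AlgebraicGeometry
open CubeConsLib AVVanishLib AVAmpleLib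

namespace AVIndexLib

variable {k : Type u} [Field k] {A T At : Over (Spec (CommRingCat.of k))} [GrpObj A] [IsProper A.hom]
  [GeometricallyIntegral A.hom] [GrpObj At]
  {φ : AgPol.DualMap A At} (hA : AbDual.IsDualAV Scheme.fppfPrecoverage A At φ)

/-- A class pulled back from the parameter space is algebraically trivial on every fibre. -/
theorem isPicZeroCl_base {M : T.left.Modules} (hM : PicF.IsInvertible M) :
    AbDual.IsPicZeroCl A.hom T (PicF.cl ((Scheme.Modules.pullback (PicF.XTproj A.hom T)).obj M)) := by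
  refine ⟨_, rfl, AmpleDevLib.isInvertible_pb _ hM, fun t Ω _ _ σ hσ => ?_⟩
  let q := PicF.XTproj A.hom T
  let M' := (Scheme.Modules.pullback σ).obj M
  have hM' : PicF.IsInvertible M' := AmpleDevLib.isInvertible_pb σ hM
  have h0 : clA hM' = 0 := clA_eq_zero_of_local Ω hM'
  rw [← clA_one, clA_eq_iff] at h0
  let e : (Scheme.Modules.pullback (pullback.fst q σ)).obj ((Scheme.Modules.pullback q).obj M) ≅
      Coh.structureModule (pullback q σ) :=
    (Scheme.Modules.pullbackComp _ q).app M ≪≫ (Scheme.Modules.pullbackCongr Limits.pullback.condition).app M ≪≫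
      ((Scheme.Modules.pullbackComp (pullback.snd q σ) σ).app M).symm ≪≫
      (Scheme.Modules.pullback (pullback.snd q σ)).mapIso h0.some ≪≫ KFlatLib.pullUnitIso _
  exact @isAlgEquivZero_iso Ω _ _ ⟨pullback.snd q σ⟩ _ _ (KFlatLib.pullUnitIso _ ≪≫ e.symm)
    (isAlgTrivialAt_structure q t Ω σ hσ)

include hA in
/-- Classes pulled back from the parameter space do not change the point of the dual. -/
theorem phi_add_base {N N' : (PicF.XT A.hom T).Modules} (hN : PicF.IsInvertible N) (hN' : PicF.IsInvertible N')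
    (hN0 : AbDual.IsPicZeroCl A.hom T (PicF.cl N)) {M : T.left.Modules} (hM : PicF.IsInvertible M)
    (h : clA hN' = clA hN + pullA (PicF.XTproj A.hom T) (clA hM)) :
    φ T (PicF.cl N') = φ T (PicF.cl N) := by
  have hq := AmpleDevLib.isInvertible_pb (PicF.XTproj A.hom T) hM
  have h0 := isPicZeroCl_base (A := A) hM
  have e1 : φ T (PicF.cl ((Scheme.Modules.pullback (PicF.XTproj A.hom T)).obj M)) = 1 := by
    have e := phi_pullCl_one hA (Y := A) T h0
    rwa [show PicF.pullCl (AbDual.bcMap (1 : A ⟶ A) T)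
        (PicF.cl ((Scheme.Modules.pullback (PicF.XTproj A.hom T)).obj M)) =
      PicF.cl ((Scheme.Modules.pullback (PicF.XTproj A.hom T)).obj M) from Quot.sound
      ⟨(Scheme.Modules.pullbackComp _ _).app M ≪≫ (Scheme.Modules.pullbackCongr (bcMap_snd _ _)).app M⟩] at e
  rw [pullA_clA _ hM, ← clA_tensor hN hq, clA_eq_iff] at h
  have h2 := hA.mul T _ _ hN0 h0
  rw [show PicF.cl N' = PicF.cl _ from Quot.sound h, h2, e1, _root_.mul_one]

include hA in
/-- A family is the pullback of the Poincaré class up to a class from the parameter space. -/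
theorem clA_eq_pullA_poincare_add {P : (PicF.XT A.hom At).Modules} (hP : PicF.IsInvertible P)
    (hPξ : AbDual.IsPoincareCl A At φ (PicF.cl P)) [LocallyOfFiniteType T.hom] [IsReduced T.left]
    {N : (PicF.XT A.hom T).Modules} (hN : PicF.IsInvertible N) (hN0 : AbDual.IsPicZeroCl A.hom T (PicF.cl N)) :
    clA hN = pullA (PicF.XTmap A.hom (φ T (PicF.cl N))) (clA hP) +
      pullA (PicF.XTproj A.hom T) (pullA (PicF.secT A.hom η[A].left (Over.w η[A]) T) (clA hN)) := by
  let s := PicF.secT A.hom η[A].left (Over.w η[A]) T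
  let q := PicF.XTproj A.hom T
  let ψ := φ T (PicF.cl N)
  have hψ := AmpleDevLib.isInvertible_pb (PicF.XTmap A.hom ψ) hP
  have hs := AmpleDevLib.isInvertible_pb s hN
  have hq := AmpleDevLib.isInvertible_pb q hs
  have h1 := HilbPolyLib.isInvertible_tensor hN (MiscFlat6.dual_isInvertible hψ)
  have h2 := HilbPolyLib.isInvertible_tensor h1 (MiscFlat6.dual_isInvertible hq)
  have hc : clA h2 = clA hN - clA hψ - clA hq := by
    rw [clA_tensor h1 (MiscFlat6.dual_isInvertible hq), clA_tensor hN (MiscFlat6.dual_isInvertible hψ),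
      clA_dual hψ, clA_dual hq]
    abel
  have hsq : s ≫ q = 𝟙 _ := Limits.pullback.lift_snd _ _ _
  have hPs : pullA s (clA hψ) = 0 := by
    rw [← pullA_clA _ hP, pullA_comp, secT_natural, ← pullA_comp, clA_zero_of_trivialCl _ hP hPξ.2.2, map_zero]
  have hQs : pullA s (clA hq) = pullA s (clA hN) := by
    rw [← pullA_clA q hs, pullA_comp, hsq, pullA_id, pullA_clA]
  obtain ⟨R, hR, hloc⟩ := hA.relPic.locallyInjective T _ _ hN0 (isPicZeroCl_XTmap ψ hPξ.1)
    ((hA.relPic.natural _ _ ψ _ hPξ.1).trans ((congrArg (ψ ≫ ·) hPξ.2.1).trans (Category.comp_id _))).symm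
  have h0 : clA h2 = 0 := by
    refine eq_zero_of_fppfLocal h2 (by rw [hc, map_sub, map_sub, hPs, hQs, sub_zero, sub_self]) hR fun U u hu => ?_
    let m := PicF.XTmap A.hom (AbDual.ovrHom T u)
    have e : pullA m (clA hN) = pullA m (clA hψ) := by
      rw [pullA_clA _ hN, pullA_clA _ hψ, clA_eq_iff]
      exact cl_eq_iff.1 (congrArg toI (hloc u hu))
    have es : ∀ x : PicA (PicF.XT A.hom T),
        pullA (PicF.secT A.hom η[A].left (Over.w η[A]) (AbDual.ovr T u)) (pullA m x) =
          pullA (AbDual.ovrHom T u).left (pullA s x) := fun x => by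
      rw [pullA_comp, secT_natural, ← pullA_comp]
    have e' : pullA m (clA hq) = 0 := by
      rw [← pullA_clA q hs, ← pullA_clA s hN, pullA_comp, XTmap_snd, ← pullA_comp, ← es, e, es, hPs, map_zero,
        map_zero]
    rw [hc, map_sub, map_sub, e, e', sub_self, sub_zero]
  rw [hc, sub_sub, sub_eq_zero, ← pullA_clA _ hP, ← pullA_clA q hs, ← pullA_clA s hN] at h0
  exact h0

section Swap

variable {B Bt Btt : Over (Spec (CommRingCat.of k))} [GrpObj B] [IsProper B.hom] [GeometricallyIntegral B.hom]
  [GrpObj Bt] [GrpObj Btt]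
  {φB : AgPol.DualMap B Bt}
  {φBt : AgPol.DualMap Bt Btt}
  {P : (PicF.XT B.hom Bt).Modules} (hP : PicF.IsInvertible P) (hPξ : AbDual.IsPoincareCl B Bt φB (PicF.cl P))
  (h0 : AbDual.IsPicZeroCl Bt.hom B (PicF.pullCl (pullbackSymmetry Bt.hom B.hom).hom (PicF.cl P)))
  (f : A ⟶ Bt) {tl : Btt ⟶ At} (htl : AbDual.IsTranspose f φ φBt tl)

include hA hP hPξ h0 htl in
/-- The transposed family is classified through biduality by the transpose. -/
theorem phi_swap {N' : (PicF.XT A.hom B).Modules} (hN' : PicF.IsInvertible N')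
    {M : B.left.Modules} (hM : PicF.IsInvertible M)
    (h : clA hN' = pullA (pullbackSymmetry A.hom B.hom).hom (pullA (PicF.XTmap B.hom f) (clA hP)) +
      pullA (PicF.XTproj A.hom B) (clA hM)) :
    φ B (PicF.cl N') = φBt B (PicF.pullCl (pullbackSymmetry Bt.hom B.hom).hom (PicF.cl P)) ≫ tl := by
  rw [← htl B _ h0, pullCl_pullCl]
  let m := AbDual.bcMap f B ≫ (pullbackSymmetry Bt.hom B.hom).hom
  have hm : m = (pullbackSymmetry A.hom B.hom).hom ≫ PicF.XTmap B.hom f := by
    apply Limits.pullback.hom_ext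
    · simp only [m, Category.assoc, pullbackSymmetry_hom_comp_fst, XTmap_fst, bcMap_snd]
    · simp only [m, Category.assoc, pullbackSymmetry_hom_comp_snd, XTmap_snd, bcMap_fst]
      rw [← Category.assoc (pullbackSymmetry A.hom B.hom).hom, pullbackSymmetry_hom_comp_snd]
  have hpb := AmpleDevLib.isInvertible_pb m hP
  refine phi_add_base hA hpb hN' ?_ hM ?_
  · have := isPicZeroCl_bcMap f h0
    rwa [pullCl_pullCl] at this
  · rw [h, pullA_comp, ← hm, pullA_clA m hP]

end Swap

end AVIndexLib

end
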