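import Mathlib.RingTheory.Regular.RegularSequence
import Mathlib.RingTheory.Regular.Flat
import Mathlib.RingTheory.Flat.Basic
import Mathlib.RingTheory.Flat.Stability
import Mathlib.LinearAlgebra.TensorProduct.RightExactness
import Mathlib.RingTheory.Localization.BaseChange

/-!
Complexes with torsion homology and a long regular sequence on the terms are exact in low degrees.
-/

set_option autoImplicit false
set_option maxHeartbeats 1000000
set_option linter.style.haveILetI false

universe u

open Module RingTheory.Sequence Pointwise TensorProduct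

namespace AVIndexLib

variable {R : Type u} [CommRing R]

/-- The boundaries of a complex starting in degree zero. -/
def bdry (M : ℕ → Type u) [∀ i, AddCommGroup (M i)] [∀ i, Module R (M i)]
    (d : ∀ i, M i →ₗ[R] M (i + 1)) : ∀ i, Submodule R (M i)
  | 0 => ⊥
  | i + 1 => LinearMap.range (d i)

variable {M : ℕ → Type u} [∀ i, AddCommGroup (M i)] [∀ i, Module R (M i)] {d : ∀ i, M i →ₗ[R] M (i + 1)}

theorem d_bdry (hdd : ∀ i z, d (i + 1) (d i z) = 0) : ∀ (i : ℕ) (z : M i), z ∈ bdry M d i → d i z = 0
  | 0, z, hz => by rw [(Submodule.mem_bot R).1 hz, map_zero]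
  | i + 1, _, ⟨u, hu⟩ => by rw [← hu, hdd]

theorem mem_smul_top {N : Type u} [AddCommGroup N] [Module R N] {x : R} {n : N}
    (h : n ∈ x • (⊤ : Submodule R N)) : ∃ w, n = x • w := by
  obtain ⟨w, -, hw⟩ := h
  exact ⟨w, hw.symm⟩

/-- The acyclicity lemma, with torsion needed only up to the length of the sequence. -/
theorem exact_of_torsion_le : ∀ (rs : List R) (M : ℕ → Type u) [∀ i, AddCommGroup (M i)] [∀ i, Module R (M i)]
    (d : ∀ i, M i →ₗ[R] M (i + 1)) (_ : ∀ i z, d (i + 1) (d i z) = 0) (_ : ∀ i, IsWeaklyRegular (M i) rs)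
    (_ : ∀ x ∈ rs, ∀ i, i ≤ rs.length → ∀ z, d i z = 0 → ∃ N : ℕ, x ^ N • z ∈ bdry M d i) (i : ℕ) (_ : i < rs.length) (z : M i)
    (_ : d i z = 0), z ∈ bdry M d i
  | [], _, _, _, _, _, _, _, i, hi, _, _ => absurd hi (Nat.not_lt_zero i)
  | x :: rs, M, _, _, d, hdd, hreg, htor, i, hi, z, hz => by
    have hx : ∀ i, IsSMulRegular (M i) x := fun i => ((isWeaklyRegular_cons_iff (M i) x rs).1 (hreg i)).1
    let M' : ℕ → Type u := fun i => QuotSMulTop x (M i)
    have hd' : ∀ i, (x • (⊤ : Submodule R (M i))) ≤ (x • (⊤ : Submodule R (M (i + 1)))).comap (d i) := by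
      intro i n hn
      obtain ⟨w, rfl⟩ := mem_smul_top hn
      rw [Submodule.mem_comap, map_smul]
      exact Submodule.smul_mem_pointwise_smul _ _ _ trivial
    let d' : ∀ i, M' i →ₗ[R] M' (i + 1) := fun i => Submodule.mapQ _ _ (d i) (hd' i)
    have hd'' : ∀ i (m : M i), d' i (Submodule.Quotient.mk m) = Submodule.Quotient.mk (d i m) := fun i m => rfl
    have hdd' : ∀ i z, d' (i + 1) (d' i z) = 0 := by
      intro i z
      induction z using Submodule.Quotient.induction_on with
      | H m => rw [hd'', hd'', hdd, Submodule.Quotient.mk_zero]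
    have hb : ∀ i (m : M i), m ∈ bdry M d i → (Submodule.Quotient.mk m : M' i) ∈ bdry M' d' i := by
      rintro (_ | i) m hm
      · rw [(Submodule.mem_bot R).1 hm, Submodule.Quotient.mk_zero]; exact zero_mem _
      · obtain ⟨u, rfl⟩ := hm
        exact ⟨Submodule.Quotient.mk u, rfl⟩
    have ih := exact_of_torsion_le rs M' d' hdd'
      (fun i => ((isWeaklyRegular_cons_iff (M i) x rs).1 (hreg i)).2) fun y hy i hi z hz => by
        induction z using Submodule.Quotient.induction_on with
        | H m =>
          rw [hd'', Submodule.Quotient.mk_eq_zero] at hz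
          obtain ⟨w, hw⟩ := mem_smul_top hz
          have hwc : d (i + 1) w = 0 := (hx _) (by simp only [smul_zero, ← map_smul, ← hw, hdd])
          obtain ⟨N, u, hu⟩ := htor y (List.mem_cons_of_mem _ hy) (i + 1) (Nat.succ_le_succ hi) w hwc
          obtain ⟨N', hN'⟩ := htor y (List.mem_cons_of_mem _ hy) i (Nat.le_succ_of_le hi) (y ^ N • m - x • u)
            (by rw [map_sub, map_smul, map_smul, hw, hu, smul_comm, sub_self])
          refine ⟨N' + N, ?_⟩
          have := hb i _ hN'
          rw [smul_sub, Submodule.Quotient.mk_sub, smul_comm (y ^ N') x u,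
            (Submodule.Quotient.mk_eq_zero (x • (⊤ : Submodule R (M i)))).2
              (Submodule.smul_mem_pointwise_smul _ _ _ trivial), sub_zero, smul_smul, ← pow_add] at this
          exact this
    obtain ⟨N, hN⟩ := htor x (List.mem_cons_self ..) i hi.le z hz
    clear hz
    induction N generalizing z with
    | zero => simpa using hN
    | succ N ihN =>
      have hN' : x • (x ^ N • z) ∈ bdry M d i := by rwa [smul_smul, ← pow_succ']
      refine ihN z ?_
      generalize x ^ N • z = y at hN' ⊢
      cases i with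
      | zero => exact (Submodule.mem_bot R).2 ((hx 0) (((Submodule.mem_bot R).1 hN').trans (smul_zero x).symm))
      | succ j =>
        obtain ⟨u, hu⟩ := hN'
        have hu' : d' j (Submodule.Quotient.mk u) = 0 := by
          rw [hd'', Submodule.Quotient.mk_eq_zero, hu]
          exact Submodule.smul_mem_pointwise_smul _ _ _ trivial
        have hm := ih j (Nat.lt_of_succ_lt_succ hi) _ hu'
        obtain ⟨v, hv, w, hw⟩ : ∃ v ∈ bdry M d j, ∃ w, u = v + x • w := by
          cases j with
          | zero =>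
            rw [show bdry M' d' 0 = ⊥ from rfl, Submodule.mem_bot, Submodule.Quotient.mk_eq_zero] at hm
            obtain ⟨w, rfl⟩ := mem_smul_top hm
            exact ⟨0, zero_mem _, w, (zero_add _).symm⟩
          | succ k =>
            obtain ⟨v, hv⟩ := hm
            induction v using Submodule.Quotient.induction_on with
            | H v =>
              rw [hd'', Submodule.Quotient.eq] at hv
              obtain ⟨w, hw⟩ := mem_smul_top hv
              exact ⟨d k v, ⟨v, rfl⟩, -w, by rw [smul_neg, ← hw, neg_sub, add_sub_cancel]⟩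
        refine ⟨w, hx _ ?_⟩
        show x • d j w = x • y
        rw [← map_smul, ← hu, hw, map_add, d_bdry hdd j v hv, zero_add]

/-- The acyclicity lemma. -/
theorem exact_of_torsion (rs : List R) (M : ℕ → Type u) [∀ i, AddCommGroup (M i)] [∀ i, Module R (M i)]
    (d : ∀ i, M i →ₗ[R] M (i + 1)) (hdd : ∀ i z, d (i + 1) (d i z) = 0) (hreg : ∀ i, IsWeaklyRegular (M i) rs)
    (htor : ∀ x ∈ rs, ∀ i z, d i z = 0 → ∃ N : ℕ, x ^ N • z ∈ bdry M d i) (i : ℕ) (hi : i < rs.length) (z : M i)
    (hz : d i z = 0) : z ∈ bdry M d i :=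
  exact_of_torsion_le rs M d hdd hreg (fun x hx i _ => htor x hx i) i hi z hz

/-- A flat module keeps weakly regular sequences. -/
theorem isWeaklyRegular_of_flat {rs : List R} (h : IsWeaklyRegular R rs) (N : Type u) [AddCommGroup N] [Module R N]
    [Module.Flat R N] : IsWeaklyRegular N rs := by
  refine ⟨fun i hi => ?_⟩
  let I := Ideal.ofList (rs.take i)
  have h1 : IsSMulRegular (R ⧸ I) rs[i] := by
    have e : (R ⧸ (I • ⊤ : Submodule R R)) ≃ₗ[R] (R ⧸ I) := Submodule.quotEquivOfEq _ _ (by simp)
    exact (LinearEquiv.isSMulRegular_congr e _).1 (h.regular_mod_prev i hi)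
  have h2 : IsSMulRegular ((R ⧸ I) ⊗[R] N) rs[i] := by
    have := Module.Flat.rTensor_preserves_injective_linearMap (M := N) (LinearMap.lsmul R (R ⧸ I) rs[i]) h1
    intro a b hab
    refine this ?_
    have e : ∀ c : (R ⧸ I) ⊗[R] N, (LinearMap.lsmul R (R ⧸ I) rs[i]).rTensor N c = rs[i] • c := fun c => by
      induction c using TensorProduct.induction_on with
      | zero => simp
      | tmul a b => rw [LinearMap.rTensor_tmul, LinearMap.lsmul_apply, TensorProduct.smul_tmul']
      | add a b ha hb => rw [map_add, ha, hb, smul_add]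
    rw [e, e]
    exact hab
  exact (LinearEquiv.isSMulRegular_congr (TensorProduct.quotTensorEquivQuotSMul N I) _).1 h2

variable (B : Type u) [CommRing B] [Algebra R B] [Module.Flat R B]

/-- Torsion homology stays torsion after a flat extension. -/
theorem torsion_baseChange {x : R} (htor : ∀ i z, d i z = 0 → ∃ N : ℕ, x ^ N • z ∈ bdry M d i) (i : ℕ)
    (z : B ⊗[R] M i) (hz : (d i).baseChange B z = 0) :
    ∃ N : ℕ, algebraMap R B x ^ N • z ∈
      bdry (fun j => B ⊗[R] M j) (fun j => (d j).baseChange B) i := by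
  have hex := Module.Flat.lTensor_exact B (LinearMap.exact_subtype_ker_map (d i))
  obtain ⟨c, rfl⟩ := (hex z).1 hz
  induction c using TensorProduct.induction_on with
  | zero => exact ⟨0, by simp⟩
  | tmul b m =>
    obtain ⟨N, hN⟩ := htor i m.1 m.2
    refine ⟨N, ?_⟩
    rw [← map_pow, algebraMap_smul, LinearMap.lTensor_tmul, Submodule.subtype_apply, ← TensorProduct.tmul_smul]
    cases i with
    | zero =>
      rw [(Submodule.mem_bot R).1 hN, tmul_zero]
      exact zero_mem _
    | succ j =>
      obtain ⟨u, hu⟩ := hN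
      exact ⟨b ⊗ₜ u, by rw [LinearMap.baseChange_tmul, hu]⟩
  | add a b ha hb =>
    have h0 : ∀ c, (d i).baseChange B ((LinearMap.ker (d i)).subtype.lTensor B c) = 0 := fun c =>
      (hex _).2 ⟨c, rfl⟩
    obtain ⟨N, hN⟩ := ha (h0 a)
    obtain ⟨N', hN'⟩ := hb (h0 b)
    refine ⟨N + N', ?_⟩
    rw [map_add, smul_add]
    refine add_mem ?_ ?_
    · rw [pow_add, mul_comm, mul_smul]; exact Submodule.smul_mem _ _ hN
    · rw [pow_add, mul_smul]; exact Submodule.smul_mem _ _ hN'

/-- Exactness after localisation gives an annihilator outside the prime. -/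
theorem exists_smul_mem_bdry (S : Submonoid R) [IsLocalization S B] (i : ℕ) (z : M i)
    (h : (1 : B) ⊗ₜ[R] z ∈ bdry (fun j => B ⊗[R] M j) (fun j => (d j).baseChange B) i) :
    ∃ s : S, (s : R) • z ∈ bdry M d i := by
  have hloc : ∀ (N : Type u) [AddCommGroup N] [Module R N],
      IsLocalizedModule S (TensorProduct.mk R B N 1) := fun N _ _ =>
    (isLocalizedModule_iff_isBaseChange S B _).2 (TensorProduct.isBaseChange R N B)
  cases i with
  | zero =>
    haveI := hloc (M 0)
    obtain ⟨s, hs⟩ := (IsLocalizedModule.eq_zero_iff S (TensorProduct.mk R B (M 0) 1)).1 (Submodule.mem_bot B |>.1 h)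
    exact ⟨s, (Submodule.mem_bot R).2 hs⟩
  | succ j =>
    obtain ⟨u, hu⟩ := h
    haveI := hloc (M j)
    haveI := hloc (M (j + 1))
    obtain ⟨⟨v, t⟩, hv⟩ := IsLocalizedModule.surj S (TensorProduct.mk R B (M j) 1) u
    have : TensorProduct.mk R B (M (j + 1)) 1 (d j v) = TensorProduct.mk R B (M (j + 1)) 1 ((t : R) • z) := by
      have := congrArg ((d j).baseChange B) hv
      simp only [TensorProduct.mk_apply, LinearMap.baseChange_tmul] at this
      rw [TensorProduct.mk_apply, TensorProduct.mk_apply, ← this, LinearMap.map_smul_of_tower, hu,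
        TensorProduct.tmul_smul]
      rfl
    obtain ⟨s, hs⟩ := IsLocalizedModule.exists_of_eq (S := S) this
    refine ⟨s * t, (s : R) • v, ?_⟩
    rw [map_smul, Submonoid.coe_mul, mul_smul]
    exact hs

end AVIndexLib
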