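import Groth.Agent.AVIndexLib.FieldExt

/-!
Additive classes stay additive under extension of the ground field.
-/

set_option autoImplicit false
set_option maxHeartbeats 1000000
set_option backward.isDefEq.respectTransparency false
set_option linter.style.haveILetI false

noncomputable section

universe u

open CategoryTheory CategoryTheory.Limits MonoidalCategory CartesianMonoidalCategory MonObj AlgebraicGeometry
open CubeConsLib AVAmpleLib

namespace AVIndexLib

variable {k : Type u} [Field k] (Ω : Type u) [Field Ω] [Algebra k Ω] {X : Over (Spec (CommRingCat.of k))}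
  [GrpObj X] [IsProper X.hom] [GeometricallyIntegral X.hom] {M : X.left.Modules} {hM : PicF.IsInvertible M}

local instance grpBcJ : GrpObj ((bcF Ω).obj X) := Functor.grpObjObj

local instance properBcJ : IsProper ((bcF Ω).obj X).hom := inferInstanceAs (IsProper (pullback.snd X.hom _))

local instance giBcJ : GeometricallyIntegral ((bcF Ω).obj X).hom :=
  inferInstanceAs (GeometricallyIntegral (pullback.snd X.hom _))

theorem P_bc {V : Over (Spec (CommRingCat.of k))} (f : V ⟶ X) (hMΩ : PicF.IsInvertible
    ((Scheme.Modules.pullback (prBc (X := X) Ω)).obj M)) :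
    P hMΩ ((bcF Ω).map f) = pullA (prBc (X := V) Ω) (P hM f) := by
  rw [P, P, ← pullA_clA _ hM, pullA_comp, pullA_comp]
  congr 2
  exact Limits.pullback.lift_fst _ _ _

theorem isAdditive_bc (h : IsAdditive hM)
    (hMΩ : PicF.IsInvertible ((Scheme.Modules.pullback (prBc (X := X) Ω)).obj M)) : IsAdditive hMΩ := by
  unfold IsAdditive
  let c : (bcF Ω).obj X ⊗ (bcF Ω).obj X ⟶ (bcF Ω).obj (X ⊗ X) := Functor.LaxMonoidal.μ (bcF Ω) X X
  have e1 : c ≫ (bcF Ω).map (fst X X) = fst ((bcF Ω).obj X) ((bcF Ω).obj X) := Functor.Monoidal.μ_fst (bcF Ω) X X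
  have e2 : c ≫ (bcF Ω).map (snd X X) = snd ((bcF Ω).obj X) ((bcF Ω).obj X) := Functor.Monoidal.μ_snd (bcF Ω) X X
  rw [← e1, ← e2, ← MonObj.comp_mul, ← Functor.map_mul, ← pullA_P, ← pullA_P, ← pullA_P, P_bc Ω (hM := hM), P_bc Ω (hM := hM),
    P_bc Ω (hM := hM), ← map_add, ← map_add, h]

end AVIndexLib

end
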