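import Groth.Agent.AVIndexLib.BidualBase
import Groth.Agent.AVIndexLib.TransIsogBase
import Groth.Agent.AVIndexLib.SwapFam

/-!
Biduality is natural.
-/

set_option autoImplicit false
set_option maxHeartbeats 1000000
set_option maxRecDepth 8000
set_option backward.isDefEq.respectTransparency false
set_option linter.style.haveILetI false
set_option linter.unusedSectionVars false

noncomputable section

universe u

open CategoryTheory CategoryTheory.Limits MonoidalCategory CartesianMonoidalCategory MonObj AlgebraicGeometry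
open CubeConsLib

namespace AVIndexLib

section Field

variable {k : Type u} [Field k] {A At Att A' A't A'tt : Over (Spec (CommRingCat.of k))}
  [GrpObj A] [IsProper A.hom] [GeometricallyIntegral A.hom]
  [GrpObj At] [IsProper At.hom] [GeometricallyIntegral At.hom] [GrpObj Att]
  [GrpObj A'] [IsProper A'.hom] [GeometricallyIntegral A'.hom]
  [GrpObj A't] [IsProper A't.hom] [GeometricallyIntegral A't.hom] [GrpObj A'tt]
  {φA : AgPol.DualMap A At}
  {φAt : AgPol.DualMap At Att} (hAt : AbDual.IsDualAV Scheme.fppfPrecoverage At Att φAt)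
  {φA' : AgPol.DualMap A' A't} (hA' : AbDual.IsDualAV Scheme.fppfPrecoverage A' A't φA')
  {φA't : AgPol.DualMap A't A'tt}
  {P : (PicF.XT A.hom At).Modules} (hP : PicF.IsInvertible P) (hPξ : AbDual.IsPoincareCl A At φA (PicF.cl P))
  (hPs : AbDual.IsPicZeroCl At.hom A (PicF.pullCl (pullbackSymmetry At.hom A.hom).hom (PicF.cl P)))
  {P' : (PicF.XT A'.hom A't).Modules} (hP' : PicF.IsInvertible P')
  (hPξ' : AbDual.IsPoincareCl A' A't φA' (PicF.cl P'))
  (hPs' : AbDual.IsPicZeroCl A't.hom A' (PicF.pullCl (pullbackSymmetry A't.hom A'.hom).hom (PicF.cl P')))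
  (f : A' ⟶ A) [IsMonHom f] {ft : At ⟶ A't} (hft : AbDual.IsTranspose f φA' φA ft)
  {ftt : A'tt ⟶ Att} (hftt : AbDual.IsTranspose ft φAt φA't ftt)

include hAt hA' hP hPξ hPs hP' hPξ' hPs' hft hftt in
/-- Biduality is natural over a field. -/
theorem bidual_natural_field :
    f ≫ φAt A (PicF.pullCl (pullbackSymmetry At.hom A.hom).hom (PicF.cl P)) =
      φA't A' (PicF.pullCl (pullbackSymmetry A't.hom A'.hom).hom (PicF.cl P')) ≫ ftt := by
  haveI : IsIntegral At.left := GeometricallyIntegral.isIntegral_of_subsingleton At.hom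
  rw [← hAt.relPic.natural _ _ f _ hPs, ← hftt A' _ hPs']
  let m₁ := AbDual.bcMap f At
  let m₂ := PicF.XTmap A'.hom ft
  have hΛ := AmpleDevLib.isInvertible_pb m₁ hP
  have hΛ0 : AbDual.IsPicZeroCl A'.hom At (PicF.cl ((Scheme.Modules.pullback m₁).obj P)) :=
    isPicZeroCl_bcMap f hPξ.1
  have hφ : φA' At (PicF.cl ((Scheme.Modules.pullback m₁).obj P)) = ft := by
    refine (hft At _ hPξ.1).trans ?_
    rw [hPξ.2.1, Category.id_comp]
  have hs : pullA (PicF.secT A'.hom η[A'].left (Over.w η[A']) At) (clA hΛ) = 0 := by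
    rw [← pullA_clA _ hP, pullA_comp]
    have e : PicF.secT A'.hom η[A'].left (Over.w η[A']) At ≫ m₁ = PicF.secT A.hom η[A].left (Over.w η[A]) At := by
      apply Limits.pullback.hom_ext
      · rw [Category.assoc, bcMap_fst]
        refine ((Category.assoc _ _ _).symm.trans (congrArg (· ≫ f.left) (Limits.pullback.lift_fst _ _ _))).trans ?_
        refine Eq.trans ?_ (Limits.pullback.lift_fst _ _ _).symm
        rw [Category.assoc, ← Over.comp_left, IsMonHom.one_hom]
      · rw [Category.assoc, bcMap_snd]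
        exact (Limits.pullback.lift_snd _ _ _).trans (Limits.pullback.lift_snd _ _ _).symm
    rw [e]
    exact clA_zero_of_trivialCl _ hP hPξ.2.2
  have key := clA_eq_pullA_poincare hA' hP' hPξ' hΛ hΛ0 hs
  rw [hφ] at key
  rw [pullCl_pullCl, pullCl_pullCl]
  congr 1
  have h1 := AmpleDevLib.isInvertible_pb (PicF.XTmap At.hom f ≫ (pullbackSymmetry At.hom A.hom).hom) hP
  have h2 := AmpleDevLib.isInvertible_pb (AbDual.bcMap ft A' ≫ (pullbackSymmetry A't.hom A'.hom).hom) hP'
  refine Quot.sound ((clA_eq_iff h1 h2).1 ?_)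
  rw [← pullA_clA _ hP, ← pullA_clA _ hP']
  have e1 : PicF.XTmap At.hom f ≫ (pullbackSymmetry At.hom A.hom).hom = (pullbackSymmetry At.hom A'.hom).hom ≫ m₁ := by
    apply Limits.pullback.hom_ext
    · rw [Category.assoc, pullbackSymmetry_hom_comp_fst, XTmap_snd, Category.assoc, bcMap_fst, ← Category.assoc,
        pullbackSymmetry_hom_comp_fst]
    · rw [Category.assoc, pullbackSymmetry_hom_comp_snd, XTmap_fst, Category.assoc, bcMap_snd,
        pullbackSymmetry_hom_comp_snd]
  have e2 : AbDual.bcMap ft A' ≫ (pullbackSymmetry A't.hom A'.hom).hom = (pullbackSymmetry At.hom A'.hom).hom ≫ m₂ := by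
    apply Limits.pullback.hom_ext
    · rw [Category.assoc, pullbackSymmetry_hom_comp_fst, bcMap_snd, Category.assoc, XTmap_fst,
        pullbackSymmetry_hom_comp_fst]
    · rw [Category.assoc, pullbackSymmetry_hom_comp_snd, bcMap_fst, Category.assoc, XTmap_snd, ← Category.assoc,
        pullbackSymmetry_hom_comp_snd]
  rw [e1, e2, ← pullA_comp, ← pullA_comp, pullA_clA m₁ hP, key]

end Field

/-- The swap of the base change of a class is the base change of the swap. -/
theorem pullCl_swap_bc {S S' : Scheme.{u}} (t : S' ⟶ S) (X Y : Over S) (P : (PicF.XT X.hom Y).Modules) :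
    PicF.pullCl (pullbackSymmetry (Red.bc t Y).hom (Red.bc t X).hom).hom
        (PicF.cl ((Scheme.Modules.pullback ((AgPol.bcXTIso t X (Red.bc t Y)).hom ≫
          PicF.XTmap X.hom (prDn t Y))).obj P)) =
      PicF.pullCl (AgPol.bcXTIso t Y (Red.bc t X)).hom (PicF.pullCl (PicF.XTmap Y.hom (prDn t X))
        (PicF.pullCl (pullbackSymmetry Y.hom X.hom).hom (PicF.cl P))) := by
  change PicF.pullCl _ (PicF.pullCl _ (PicF.cl P)) = _
  rw [pullCl_pullCl, pullCl_pullCl, pullCl_pullCl]
  exact congrArg (fun g => PicF.pullCl g (PicF.cl P)) (swap_bc t X Y)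

variable {S : Scheme.{u}} {A At Att A' A't A'tt : Over S}
  [GrpObj A] [IsProper A.hom] [Smooth A.hom] [GeometricallyConnected A.hom]
  [GrpObj At] [IsProper At.hom] [Smooth At.hom] [GeometricallyConnected At.hom]
  [GrpObj Att] [IsProper Att.hom] [Smooth Att.hom] [GeometricallyConnected Att.hom]
  [GrpObj A'] [IsProper A'.hom] [Smooth A'.hom] [GeometricallyConnected A'.hom]
  [GrpObj A't] [IsProper A't.hom] [Smooth A't.hom] [GeometricallyConnected A't.hom]
  [GrpObj A'tt] [IsProper A'tt.hom] [Smooth A'tt.hom] [GeometricallyConnected A'tt.hom]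
  {φA : AgPol.DualMap A At} (hA : AbDual.IsDualAV Scheme.fppfPrecoverage A At φA)
  {φAt : AgPol.DualMap At Att} (hAt : AbDual.IsDualAV Scheme.fppfPrecoverage At Att φAt)
  {φA' : AgPol.DualMap A' A't} (hA' : AbDual.IsDualAV Scheme.fppfPrecoverage A' A't φA')
  {φA't : AgPol.DualMap A't A'tt} (hA't : AbDual.IsDualAV Scheme.fppfPrecoverage A't A'tt φA't)
  {P : (PicF.XT A.hom At).Modules} (hP : PicF.IsInvertible P) (hPξ : AbDual.IsPoincareCl A At φA (PicF.cl P))
  (hPs : AbDual.IsPicZeroCl At.hom A (PicF.pullCl (pullbackSymmetry At.hom A.hom).hom (PicF.cl P)))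
  {P' : (PicF.XT A'.hom A't).Modules} (hP' : PicF.IsInvertible P')
  (hPξ' : AbDual.IsPoincareCl A' A't φA' (PicF.cl P'))
  (hPs' : AbDual.IsPicZeroCl A't.hom A' (PicF.pullCl (pullbackSymmetry A't.hom A'.hom).hom (PicF.cl P')))
  (f : A' ⟶ A) [IsMonHom f] {ft : At ⟶ A't} (hft : AbDual.IsTranspose f φA' φA ft)
  {ftt : A'tt ⟶ Att} (hftt : AbDual.IsTranspose ft φAt φA't ftt)

include hA hAt hA' hA't hP hPξ hPs hP' hPξ' hPs' hft hftt in
/-- Biduality is natural. -/
theorem bidual_natural [IsLocallyNoetherian S] :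
    f ≫ φAt A (PicF.pullCl (pullbackSymmetry At.hom A.hom).hom (PicF.cl P)) =
      φA't A' (PicF.pullCl (pullbackSymmetry A't.hom A'.hom).hom (PicF.cl P')) ≫ ftt := by
  let κ := φAt A (PicF.pullCl (pullbackSymmetry At.hom A.hom).hom (PicF.cl P))
  let κ' := φA't A' (PicF.pullCl (pullbackSymmetry A't.hom A'.hom).hom (PicF.cl P'))
  haveI := geometricallyIntegral_of_smooth_group A
  haveI := geometricallyIntegral_of_smooth_group At
  haveI := geometricallyIntegral_of_smooth_group A'
  haveI := geometricallyIntegral_of_smooth_group A't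
  haveI := AbSchLib.geometricallyReduced_of_smooth A'.hom
  haveI := AbSchLib.geometricallyReduced_of_smooth A'tt.hom
  haveI : IsMonHom κ := (isIso_bidual hA hAt hP hPξ hPs).1
  haveI : IsMonHom κ' := (isIso_bidual hA' hA't hP' hPξ' hPs').1
  have h1 : η[A'tt] ≫ ftt = η[Att] := by
    have h := hftt (𝟙_ (Over S)) _ (isPicZeroCl_structure A't _)
    rw [phi_structure hA't, show PicF.pullCl (AbDual.bcMap ft (𝟙_ (Over S))) (PicF.cl (Coh.structureModule _)) =
      PicF.cl (Coh.structureModule _) from Quot.sound ⟨KFlatLib.pullUnitIso _⟩, phi_structure hAt, Hom.one_def,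
      Hom.one_def, toUnit_unique (toUnit (𝟙_ (Over S))) (𝟙 _), Category.id_comp, Category.id_comp] at h
    exact h.symm
  haveI : IsMonHom ftt := H0Lib.isMonHom_of_one_comp ftt h1
  show f ≫ κ = κ' ≫ ftt
  have key : ∀ s : S, ∃ W : S.Opens, s ∈ W ∧
      (A'.hom ⁻¹ᵁ W).ι ≫ (f ≫ κ).left = (A'.hom ⁻¹ᵁ W).ι ≫ (κ' ≫ ftt).left := fun s => by
    let t : Spec (CommRingCat.of (S.residueField s)) ⟶ S := S.fromSpecResidueField s
    suffices e : A'.hom.fiberι s ≫ (f ≫ κ).left = A'.hom.fiberι s ≫ (κ' ≫ ftt).left by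
      obtain ⟨W, -, hsW, hW⟩ := H0Lib.eq_on_clopen (f ≫ κ) (κ' ≫ ftt) s e
      exact ⟨W, hsW, hW⟩
    let F := Over.pullback t
    suffices e : F.map (f ≫ κ) = F.map (κ' ≫ ftt) by
      have hl : ∀ g : A' ⟶ Att, (F.map g).left ≫ pullback.fst Att.hom t = pullback.fst A'.hom t ≫ g.left :=
        fun g => pullback.lift_fst _ _ _
      exact (hl _).symm.trans ((congrArg (fun g => CommaMorphism.left g ≫ pullback.fst Att.hom t) e).trans (hl _))
    haveI : IsProper (Red.bc t A).hom := inferInstanceAs (IsProper (pullback.snd A.hom t))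
    haveI : IsProper (Red.bc t At).hom := inferInstanceAs (IsProper (pullback.snd At.hom t))
    haveI : IsProper (Red.bc t A').hom := inferInstanceAs (IsProper (pullback.snd A'.hom t))
    haveI : GeometricallyIntegral (Red.bc t A).hom := inferInstanceAs (GeometricallyIntegral (pullback.snd A.hom t))
    haveI : GeometricallyIntegral (Red.bc t At).hom := inferInstanceAs (GeometricallyIntegral (pullback.snd At.hom t))
    haveI : GeometricallyIntegral (Red.bc t A').hom := inferInstanceAs (GeometricallyIntegral (pullback.snd A'.hom t))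
    haveI : IsProper (Red.bc t A't).hom := inferInstanceAs (IsProper (pullback.snd A't.hom t))
    haveI : GeometricallyIntegral (Red.bc t A't).hom :=
      inferInstanceAs (GeometricallyIntegral (pullback.snd A't.hom t))
    haveI : IsMonHom (F.map f) := AbSchLib.isMonHom_pullback_map t f
    let Pb := (Scheme.Modules.pullback ((AgPol.bcXTIso t A (Red.bc t At)).hom ≫ PicF.XTmap A.hom (prDn t At))).obj P
    let Pb' := (Scheme.Modules.pullback ((AgPol.bcXTIso t A' (Red.bc t A't)).hom ≫
      PicF.XTmap A'.hom (prDn t A't))).obj P'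
    have hs : AbDual.IsPicZeroCl (Red.bc t At).hom (Red.bc t A)
        (PicF.pullCl (pullbackSymmetry (Red.bc t At).hom (Red.bc t A).hom).hom (PicF.cl Pb)) := by
      rw [pullCl_swap_bc]
      exact isPicZeroCl_hom t (isPicZeroCl_XTmap _ hPs)
    have hs' : AbDual.IsPicZeroCl (Red.bc t A't).hom (Red.bc t A')
        (PicF.pullCl (pullbackSymmetry (Red.bc t A't).hom (Red.bc t A').hom).hom (PicF.cl Pb')) := by
      rw [pullCl_swap_bc]
      exact isPicZeroCl_hom t (isPicZeroCl_XTmap _ hPs')
    have eκ : AgPol.bcDual t At Att φAt (Red.bc t A)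
        (PicF.pullCl (pullbackSymmetry (Red.bc t At).hom (Red.bc t A).hom).hom (PicF.cl Pb)) = F.map κ := by
      refine toDn_injective t ?_
      rw [toDn_bcDual, pullCl_swap_bc, pullCl_pullCl, Iso.inv_hom_id, pullCl_id, hAt.relPic.natural _ _ _ _ hPs,
        toDn_bc_map]
    have eκ' : AgPol.bcDual t A't A'tt φA't (Red.bc t A')
        (PicF.pullCl (pullbackSymmetry (Red.bc t A't).hom (Red.bc t A').hom).hom (PicF.cl Pb')) = F.map κ' := by
      refine toDn_injective t ?_
      rw [toDn_bcDual, pullCl_swap_bc, pullCl_pullCl, Iso.inv_hom_id, pullCl_id, hA't.relPic.natural _ _ _ _ hPs',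
        toDn_bc_map]
    rw [Functor.map_comp, Functor.map_comp, ← eκ, ← eκ']
    exact bidual_natural_field (isDualAV_bcDual t hAt) (isDualAV_bcDual t hA')
      (AmpleDevLib.isInvertible_pb _ hP) (isPoincareCl_bc t hA hP hPξ) hs
      (AmpleDevLib.isInvertible_pb _ hP') (isPoincareCl_bc t hA' hP' hPξ') hs'
      (F.map f) (isTranspose_bc t hft) (isTranspose_bc t hftt)
  choose W hsW hW using key
  ext1
  refine Scheme.Cover.hom_ext (A'.left.openCoverOfIsOpenCover (fun s => A'.hom ⁻¹ᵁ W s)
    (TopologicalSpace.Opens.ext (Set.eq_univ_of_forall fun y => by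
      rw [TopologicalSpace.Opens.coe_iSup]; exact Set.mem_iUnion.2 ⟨A'.hom y, hsW _⟩))) _ _ fun s => ?_
  exact hW s

end AVIndexLib

end
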