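import Groth.Agent.AVVanishLib.Basic
import Groth.Agent.LerayLowLib.Basic

/-!
Corners of the Leray spectral sequence survive.
-/

set_option autoImplicit false
set_option linter.style.haveILetI false

universe u

open CategoryTheory CategoryTheory.Limits TopologicalSpace Opposite AlgebraicGeometry

namespace AVIndexLib

/-- A position of the second page without nonzero neighbours along the differentials is a subquotient of the
cohomology. -/
theorem subsingleton_H_corner {X Y : TopCat.{u}} (f : X ⟶ Y) (F : CohTop.Ab X) (p q : ℕ)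
    (hH : Subsingleton (CohTop.H F (p + q)))
    (hin : ∀ p' q' : ℕ, p' < p → q < q' → Subsingleton (CohTop.H ((CohTop.Rpush f q').obj F) p'))
    (hout : ∀ p' q' : ℕ, p < p' → q' < q → Subsingleton (CohTop.H ((CohTop.Rpush f q').obj F) p')) :
    Subsingleton (CohTop.H ((CohTop.Rpush f q).obj F) p) := by
  haveI : (Opens.map f).IsContinuous (Opens.grothendieckTopology Y) (Opens.grothendieckTopology X) :=
    Functor.isContinuous_of_coverPreserving (compatiblePreserving_opens_map f) (coverPreserving_opens_map f)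
  haveI : RepresentablyFlat (Opens.map f) := inferInstance
  haveI : PreservesFiniteLimits ((Opens.map f).sheafPullback (Type u) (Opens.grothendieckTopology Y) (Opens.grothendieckTopology X)) :=
    Functor.SmallCategories.instPreservesFiniteLimitsSheafSheafPullbackOfRepresentablyFlat _ _ _ _
  obtain ⟨E, a, -, -, h₃⟩ := Groth.Agent.S6162.result (Opens.grothendieckTopology X)
    (Opens.grothendieckTopology Y) (Opens.map f) F (⊤ : Opens Y)
  have hz : ∀ p' q' : ℤ,
      (0 ≤ p' → 0 ≤ q' → Subsingleton (CohTop.H ((CohTop.Rpush f q'.toNat).obj F) p'.toNat)) →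
      ∀ (r : ℤ) (hr : 2 ≤ r), IsZero ((E.page r hr).X (p', q')) := fun p' q' h r hr => by
    obtain ⟨e⟩ := h₃ p' q'
    refine SpSeqLib.isZero_page_of_le E 2 le_rfl (p', q') (IsZero.of_iso ?_ e) r hr
    split_ifs with hpq
    · exact @AddCommGrpCat.isZero_of_subsingleton _ ((QCohLib.subsingleton_H_iff _ _).1 (h hpq.1 hpq.2))
    · exact AddCommGrpCat.isZero_of_subsingleton _
  have hst : SpSeq.StationaryAt E ((p : ℤ), (q : ℤ)) 2 := ⟨le_rfl, fun r hr _ => by
    refine ⟨IsZero.eq_of_src ?_ _ _, IsZero.eq_of_tgt ?_ _ _⟩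
    · rw [show ((p : ℤ), (q : ℤ)) - (r, 1 - r) = ((p : ℤ) - r, (q : ℤ) - (1 - r)) from rfl]
      exact hz _ _ (fun h₁ h₂ => hin _ _ (by omega) (by omega)) r hr
    · rw [show ((p : ℤ), (q : ℤ)) + (r, 1 - r) = ((p : ℤ) + r, (q : ℤ) + (1 - r)) from rfl]
      exact hz _ _ (fun h₁ h₂ => hout _ _ (by omega) (by omega)) r hr⟩
  have hgr : IsZero (SpSeq.grPiece (a.fil ((p : ℤ) + q)) (a.anti ((p : ℤ) + q)) (p : ℤ)) := by
    have key : ∀ m : ℤ, m = ((p + q : ℕ) : ℤ) → IsZero (SpSeq.grPiece (a.fil m) (a.anti m) (p : ℤ)) := by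
      rintro m rfl
      have h0 := (QCohLib.subsingleton_H_iff _ _).1 hH
      have hHz : IsZero (AddCommGrpCat.of (CohSite.HU F (p + q) ((Opens.map f).obj ⊤))) :=
        @AddCommGrpCat.isZero_of_subsingleton _ h0
      have hF : IsZero (a.fil ((p + q : ℕ) : ℤ) (p : ℤ) : AddCommGrpCat.{u}) := by
        refine IsZero.of_mono (a.fil _ (p : ℤ)).arrow (hHz.of_iso (eqToIso ?_))
        simp only [Int.natCast_nonneg, if_true, Int.toNat_natCast]
      dsimp only [SpSeq.grPiece, SpSeq.subquot]
      exact IsZero.of_epi (cokernel.π _) hF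
    exact key _ (by push_cast; rfl)
  obtain ⟨e₁⟩ := SpSeqLib.nonempty_page_iso_of_stationary E _ 2 hst (a.rk ((p : ℤ), (q : ℤ)))
    (a.stat ((p : ℤ), (q : ℤ))).1
  obtain ⟨e⟩ := h₃ p q
  have h2 := (hgr.of_iso (e₁.symm ≪≫ a.β ((p : ℤ), (q : ℤ)))).of_iso e.symm
  have hs := AddCommGrpCat.subsingleton_of_isZero h2
  simp only [Int.natCast_nonneg, and_self, if_true, Int.toNat_natCast] at hs
  exact (QCohLib.subsingleton_H_iff _ _).2 hs

variable {X S : Scheme.{u}} (f : X ⟶ S) (F : X.Modules) [HasInjectiveResolutions X.Modules]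

theorem subsingleton_H_rpush_iff (q p : ℕ) :
    Subsingleton (CohTop.H ((CohTop.Rpush f.base q).obj (Coh.toAb F)) p) ↔
      Subsingleton (Coh.HH S ((Coh.Rpush f q).obj F) p) := by
  obtain ⟨e⟩ := RpushLib.nonempty_toAb_rpush_iso f F q
  constructor <;> intro h
  · exact Function.Injective.subsingleton (f := Sheaf.H.map e.hom p) fun a b hab => by
      have := congrArg (Sheaf.H.map e.inv p) hab
      rw [← Sheaf.H.map_comp_apply, ← Sheaf.H.map_comp_apply, e.hom_inv_id, Sheaf.H.map_id_apply,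
        Sheaf.H.map_id_apply] at this
      exact this
  · exact Function.Injective.subsingleton (f := Sheaf.H.map e.inv p) fun a b hab => by
      have := congrArg (Sheaf.H.map e.hom p) hab
      rw [← Sheaf.H.map_comp_apply, ← Sheaf.H.map_comp_apply, e.inv_hom_id, Sheaf.H.map_id_apply,
        Sheaf.H.map_id_apply] at this
      exact this

/-- The corner lemma for quasi-coherent higher direct images. -/
theorem subsingleton_HH_corner (p q : ℕ) (hH : Subsingleton (Coh.HH X F (p + q)))
    (hin : ∀ p' q' : ℕ, p' < p → q < q' → Subsingleton (Coh.HH S ((Coh.Rpush f q').obj F) p'))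
    (hout : ∀ p' q' : ℕ, p < p' → q' < q → Subsingleton (Coh.HH S ((Coh.Rpush f q').obj F) p')) :
    Subsingleton (Coh.HH S ((Coh.Rpush f q).obj F) p) :=
  (subsingleton_H_rpush_iff f F q p).1 (subsingleton_H_corner f.base (Coh.toAb F) p q hH
    (fun p' q' h₁ h₂ => (subsingleton_H_rpush_iff f F q' p').2 (hin p' q' h₁ h₂))
    (fun p' q' h₁ h₂ => (subsingleton_H_rpush_iff f F q' p').2 (hout p' q' h₁ h₂)))

/-- Vanishing along an antidiagonal. -/
theorem subsingleton_HH_antidiagonal (n : ℕ)
    (h : ∀ p q : ℕ, p + q = n → Subsingleton (Coh.HH S ((Coh.Rpush f q).obj F) p)) :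
    Subsingleton (Coh.HH X F n) :=
  LerayLowLib.subsingleton_H_of_antidiagonal f.base (Coh.toAb F) n fun p q hpq =>
    (subsingleton_H_rpush_iff f F q p).2 (h p q hpq)

end AVIndexLib
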