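import Groth.Agent.AVIndexLib.Homotopy
import Mathlib.RingTheory.Nakayama
import Mathlib.RingTheory.LocalRing.ResidueField.Basic

/-!
A map of finite projective modules over a local ring whose reduction has a one dimensional kernel:
the cokernel of the dual map is cyclic, and its annihilator is the smallest ideal modulo which a
kernel element exists.
-/

set_option autoImplicit false
set_option maxHeartbeats 1000000
set_option linter.style.haveILetI false

universe u

open Module IsLocalRing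

namespace AVIndexLib

variable {R : Type u} [CommRing R]

/-- Elements of `I • ⊤` in a finite projective module are detected by the functionals. -/
theorem mem_smul_top_iff_dual {N : Type u} [AddCommGroup N] [Module R N] [Module.Finite R N] [Module.Projective R N]
    (I : Ideal R) (x : N) : x ∈ I • (⊤ : Submodule R N) ↔ ∀ q : N →ₗ[R] R, q x ∈ I := by
  constructor
  · intro hx q
    have := Submodule.mem_map_of_mem (f := q) hx
    rw [Submodule.map_smul''] at this
    exact (Submodule.smul_mono le_rfl le_top : I • Submodule.map q ⊤ ≤ I • ⊤).trans_eq (Ideal.mul_top I) this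
  · intro h
    obtain ⟨n, π, i, -, -, hi⟩ := Module.Finite.exists_comp_eq_id_of_projective R N
    have e : x = π (i x) := (LinearMap.congr_fun hi x).symm
    rw [e, ← Finset.univ_sum_single (i x), map_sum]
    refine Submodule.sum_mem _ fun j _ => ?_
    rw [show Pi.single j (i x j) = (i x j) • Pi.single j (1 : R) by rw [← Pi.single_smul]; simp, map_smul]
    exact Submodule.smul_mem_smul (h (LinearMap.proj j ∘ₗ i)) trivial

variable [IsLocalRing R] {N₀ N₁ : Type u} [AddCommGroup N₀] [Module R N₀] [AddCommGroup N₁] [Module R N₁]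
  [Module.Finite R N₀] [Module.Projective R N₀] [Module.Finite R N₁] [Module.Projective R N₁]

/-- The ideal of scalars killing the cokernel of the dual map. -/
def annDual (d : N₀ →ₗ[R] N₁) : Ideal R where
  carrier := {a | ∀ q : N₀ →ₗ[R] R, ∃ q' : N₁ →ₗ[R] R, a • q = q' ∘ₗ d}
  zero_mem' q := ⟨0, by simp⟩
  add_mem' {a b} ha hb q := by
    obtain ⟨p, hp⟩ := ha q
    obtain ⟨p', hp'⟩ := hb q
    exact ⟨p + p', by rw [add_smul, hp, hp', LinearMap.add_comp]⟩
  smul_mem' c a ha q := by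
    obtain ⟨p, hp⟩ := ha q
    exact ⟨c • p, by rw [smul_eq_mul, mul_smul, hp, LinearMap.smul_comp]⟩

/-- A one dimensional kernel of the reduction makes the cokernel of the dual cyclic. -/
theorem exists_cyclic_dual (d : N₀ →ₗ[R] N₁) (m₀ : N₀) (h₁ : d m₀ ∈ maximalIdeal R • (⊤ : Submodule R N₁))
    (h₂ : m₀ ∉ maximalIdeal R • (⊤ : Submodule R N₀))
    (h₃ : ∀ x, d x ∈ maximalIdeal R • (⊤ : Submodule R N₁) → ∃ a : R, x - a • m₀ ∈ maximalIdeal R • (⊤ : Submodule R N₀)) :
    ∃ b : N₀ →ₗ[R] R, (∀ q : N₀ →ₗ[R] R, ∃ (a : R) (q' : N₁ →ₗ[R] R), q = a • b + q' ∘ₗ d) ∧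
      (∀ (I : Ideal R) (x : N₀), d x ∈ I • (⊤ : Submodule R N₁) → x ∉ maximalIdeal R • (⊤ : Submodule R N₀) →
        I ≤ maximalIdeal R → annDual d ≤ I) ∧
      ∃ x : N₀, d x ∈ annDual d • (⊤ : Submodule R N₁) ∧ x ∉ maximalIdeal R • (⊤ : Submodule R N₀) := by
  set 𝔪 := maximalIdeal R with h𝔪
  obtain ⟨q₀, hq₀⟩ : ∃ q : N₀ →ₗ[R] R, q m₀ ∉ 𝔪 := by
    by_contra h
    push_neg at h
    exact h₂ ((mem_smul_top_iff_dual _ _).2 h)
  obtain ⟨c, hc⟩ := (notMem_maximalIdeal.1 hq₀).exists_left_inv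
  let b : N₀ →ₗ[R] R := c • q₀
  have hb : b m₀ = 1 := hc
  let δ : (N₁ →ₗ[R] R) →ₗ[R] (N₀ →ₗ[R] R) := d.dualMap
  let S : Submodule R (N₀ →ₗ[R] R) := Submodule.span R {b} ⊔ LinearMap.range δ
  have hsub : (⊤ : Submodule R (N₀ →ₗ[R] R)) ≤ S := by
    refine Submodule.le_of_le_smul_of_le_jacobson_bot Module.Finite.fg_top (I := 𝔪)
      (maximalIdeal_le_jacobson ⊥) ?_
    intro q _
    let q₁ := q - q m₀ • b
    have hq₁ : q₁ m₀ = 0 := by simp [q₁, hb]
    -- the reductions
    let V₀ := N₀ ⧸ (𝔪 • (⊤ : Submodule R N₀))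
    let V₁ := N₁ ⧸ (𝔪 • (⊤ : Submodule R N₁))
    let k := R ⧸ 𝔪
    let dk : V₀ →ₗ[R] V₁ := Submodule.mapQ _ _ d (by
      rw [← Submodule.map_le_iff_le_comap, Submodule.map_smul'']
      exact Submodule.smul_mono le_rfl le_top)
    let qk : V₀ →ₗ[R] k := Submodule.mapQ _ _ q₁ (fun x hx => (mem_smul_top_iff_dual _ _).1 hx q₁)
    have hker : LinearMap.ker dk ≤ LinearMap.ker qk := by
      intro z hz
      induction z using Submodule.Quotient.induction_on with
      | H x =>
        have hz' : d x ∈ 𝔪 • (⊤ : Submodule R N₁) := (Submodule.Quotient.mk_eq_zero _).1 hz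
        obtain ⟨a, ha⟩ := h₃ x hz'
        have := (mem_smul_top_iff_dual _ _).1 ha q₁
        rw [map_sub, map_smul, hq₁, smul_zero, sub_zero] at this
        exact (Submodule.Quotient.mk_eq_zero _).2 this
    haveI : 𝔪.IsMaximal := maximalIdeal.isMaximal R
    letI : Field k := Ideal.Quotient.field 𝔪
    have hsurj : Function.Surjective (algebraMap R k) := Ideal.Quotient.mk_surjective
    let dk' : V₀ →ₗ[k] V₁ := LinearMap.extendScalarsOfSurjective hsurj dk
    let qk' : V₀ →ₗ[k] k := LinearMap.extendScalarsOfSurjective hsurj qk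
    obtain ⟨pk, hpk⟩ : ∃ pk : V₁ →ₗ[k] k, pk ∘ₗ dk' = qk' := by
      obtain ⟨φ, hφ⟩ := LinearMap.exists_extend (((LinearMap.ker dk').liftQ qk' hker) ∘ₗ
        (dk'.quotKerEquivRange.symm.toLinearMap))
      refine ⟨φ, LinearMap.ext fun z => ?_⟩
      have := LinearMap.congr_fun hφ ⟨dk' z, LinearMap.mem_range_self _ _⟩
      rw [LinearMap.comp_apply, LinearMap.comp_apply, LinearEquiv.coe_coe,
        show dk'.quotKerEquivRange.symm ⟨dk' z, LinearMap.mem_range_self _ _⟩ = Submodule.Quotient.mk z from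
          dk'.quotKerEquivRange_symm_apply_image z _] at this
      exact this
    obtain ⟨p, hp⟩ := Module.projective_lifting_property (Submodule.mkQ (𝔪 : Submodule R R))
      ((pk.restrictScalars R) ∘ₗ Submodule.mkQ (𝔪 • (⊤ : Submodule R N₁))) (Submodule.mkQ_surjective _)
    have hmem : q₁ - p ∘ₗ d ∈ 𝔪 • (⊤ : Submodule R (N₀ →ₗ[R] R)) := by
      refine (mem_smul_top_iff_dual _ _).2 fun ψ => ?_
      obtain ⟨x, rfl⟩ := (Module.bijective_dual_eval R N₀).2 ψ
      rw [Module.Dual.eval_apply, LinearMap.sub_apply, LinearMap.comp_apply]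
      refine (Submodule.Quotient.eq 𝔪).1 ?_
      rw [show (Submodule.Quotient.mk (p (d x)) : k) = pk (Submodule.Quotient.mk (d x)) from LinearMap.congr_fun hp (d x)]
      exact (LinearMap.congr_fun hpk (Submodule.Quotient.mk x)).symm
    have e : q = (q m₀ • b + p ∘ₗ d) + (q₁ - p ∘ₗ d) := by simp only [q₁]; abel
    rw [e]
    exact Submodule.add_mem_sup (Submodule.add_mem_sup (Submodule.smul_mem _ _ (Submodule.mem_span_singleton_self b))
      ⟨p, rfl⟩) hmem
  have hcyc : ∀ q : N₀ →ₗ[R] R, ∃ (a : R) (q' : N₁ →ₗ[R] R), q = a • b + q' ∘ₗ d := by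
    intro q
    obtain ⟨s, hs, t, ⟨q', rfl⟩, rfl⟩ := Submodule.mem_sup.1 (hsub (Submodule.mem_top (x := q)))
    obtain ⟨a, rfl⟩ := Submodule.mem_span_singleton.1 hs
    exact ⟨a, q', rfl⟩
  refine ⟨b, hcyc, fun I x hx hx' hI a ha => ?_, ?_⟩
  · have hu : IsUnit (b x) := by
      by_contra hbx
      obtain ⟨a', ha'⟩ := h₃ x ((Submodule.smul_mono hI le_rfl : I • (⊤ : Submodule R N₁) ≤ _) hx)
      have h0 := (mem_smul_top_iff_dual _ _).1 ha' b
      rw [map_sub, map_smul, hb, smul_eq_mul, mul_one] at h0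
      have ha'' : a' ∈ 𝔪 := by
        have := sub_mem ((mem_maximalIdeal _).2 hbx) h0
        rwa [sub_sub_cancel] at this
      refine hx' ?_
      have := Submodule.add_mem _ ha' (Submodule.smul_mem_smul ha'' (Submodule.mem_top (x := m₀)))
      rwa [sub_add_cancel] at this
    obtain ⟨p, hp⟩ := ha b
    have := LinearMap.congr_fun hp x
    rw [LinearMap.smul_apply, smul_eq_mul, LinearMap.comp_apply] at this
    have h : a * b x ∈ I := this ▸ (mem_smul_top_iff_dual _ _).1 hx p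
    obtain ⟨c, hc⟩ := hu.exists_right_inv
    have := I.mul_mem_right c h
    rwa [mul_assoc, hc, mul_one] at this
  · obtain ⟨ψ, hψ⟩ := Module.projective_lifting_property
      ((Submodule.mkQ (LinearMap.range δ)) ∘ₗ LinearMap.toSpanSingleton R (N₀ →ₗ[R] R) b)
      (Submodule.mkQ (LinearMap.range δ)) (fun z => by
        obtain ⟨q, rfl⟩ := Submodule.mkQ_surjective _ z
        obtain ⟨a, q', rfl⟩ := hcyc q
        exact ⟨a, by
          rw [LinearMap.comp_apply, LinearMap.toSpanSingleton_apply, map_add,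
            show Submodule.mkQ (LinearMap.range δ) (q' ∘ₗ d) = 0 from (Submodule.Quotient.mk_eq_zero _).2 ⟨q', rfl⟩,
            add_zero]⟩)
    have hψ' : ∀ q : N₀ →ₗ[R] R, ∃ q' : N₁ →ₗ[R] R, ψ q • b - q = q' ∘ₗ d := fun q => by
      obtain ⟨q', hq'⟩ := (Submodule.Quotient.eq _).1 (LinearMap.congr_fun hψ q)
      exact ⟨q', hq'.symm⟩
    have hann : ∀ a : R, (∃ p : N₁ →ₗ[R] R, a • b = p ∘ₗ d) → a ∈ annDual d := by
      rintro a ⟨p, hp⟩ q
      obtain ⟨c, q', rfl⟩ := hcyc q
      exact ⟨c • p + a • q', by rw [smul_add, smul_comm, hp, LinearMap.add_comp, LinearMap.smul_comp, LinearMap.smul_comp]⟩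
    obtain ⟨x, hx⟩ := (Module.bijective_dual_eval R N₀).2 ψ
    have hev : ∀ q : N₀ →ₗ[R] R, q x = ψ q := fun q => LinearMap.congr_fun hx q
    refine ⟨x, (mem_smul_top_iff_dual _ _).2 fun p => hann _ ?_, fun hxm => ?_⟩
    · obtain ⟨q', hq'⟩ := hψ' (p ∘ₗ d)
      refine ⟨q' + p, ?_⟩
      rw [LinearMap.add_comp, ← hq', sub_add_cancel, ← hev]
      rfl
    · obtain ⟨q', hq'⟩ := hψ' b
      have hb1 : ψ b ∈ 𝔪 := hev b ▸ (mem_smul_top_iff_dual _ _).1 hxm b
      have := LinearMap.congr_fun hq' m₀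
      rw [LinearMap.sub_apply, LinearMap.smul_apply, hb, smul_eq_mul, mul_one, LinearMap.comp_apply] at this
      have h2 := sub_mem hb1 (this ▸ (mem_smul_top_iff_dual _ _).1 h₁ q')
      rw [sub_sub_cancel] at h2
      exact (maximalIdeal.isMaximal R).ne_top ((Ideal.eq_top_iff_one _).2 h2)

end AVIndexLib
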