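import Groth.Agent.AVIndexLib.TransDeg
import Groth.Agent.AVAmpleLib.Complement
import Groth.Agent.AVAmpleLib.MulDegree
import Groth.Agent.AVAmpleLib.IsogInv

/-!
The Euler characteristic of a family with degenerate classifying map.
-/

set_option autoImplicit false
set_option maxHeartbeats 1000000
set_option maxRecDepth 8000
set_option backward.isDefEq.respectTransparency false
set_option linter.style.haveILetI false
set_option linter.unusedSectionVars false

noncomputable section

universe u

open CategoryTheory CategoryTheory.Limits MonoidalCategory CartesianMonoidalCategory MonObj AlgebraicGeometry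
open TopologicalSpace
open CubeConsLib AVVanishLib AVAmpleLib

namespace AVIndexLib

variable {k : Type u} [Field k] {A Y : Over (Spec (CommRingCat.of k))} [GrpObj A] [IsProper A.hom]
  [GeometricallyIntegral A.hom] [GrpObj Y] [IsProper Y.hom]

/-- A homomorphism which is not finite kills a positive-dimensional abelian subvariety. -/
theorem exists_subAV_ker (f : A ⟶ Y) [IsMonHom f] (hf : ¬ IsFinite f.left) :
    ∃ (C : Over (Spec (CommRingCat.of k))) (_ : GrpObj C) (j : C ⟶ A), IsMonHom j ∧ IsClosedImmersion j.left ∧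
      IsProper C.hom ∧ GeometricallyIntegral C.hom ∧ topologicalKrullDim C.left ≠ 0 ∧ j ≫ f = 1 := by
  let Ω := AlgebraicClosure k
  let e := (η[Y] : 𝟙_ (Over (Spec (CommRingCat.of k))) ⟶ Y).left
  haveI : IsClosedImmersion e := isClosedImmersion_eta Y
  let D : Set A.left := f.left ⁻¹' Set.range e
  have hD : IsClosed D := e.isClosedEmbedding.isClosed_range.preimage f.left.continuous
  have hmem : ∀ a : SGA7.pt (K := k) Ω ⟶ A, imgPt a ∈ D ↔ a ≫ f = 1 := fun a => imgPt_eq_unit_iff (a ≫ f)
  obtain ⟨C, _, j, hj, hjcl, hCp, hCg, hCD, F, hF, hFD⟩ := exists_torsClosure D hD ((hmem 1).2 (MonObj.one_comp f))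
    (fun a b ha hb => (hmem _).2 (by rw [MonObj.mul_comp, (hmem a).1 ha, (hmem b).1 hb, _root_.one_mul]))
    (fun a ha => (hmem _).2 (by rw [GrpObj.inv_comp, (hmem a).1 ha, inv_one]))
  haveI : IsIntegral C.left := GeometricallyIntegral.isIntegral_of_subsingleton C.hom
  refine ⟨C, inferInstance, j, hj, hjcl, hCp, hCg, fun h0 => hf ?_, ?_⟩
  · haveI : Subsingleton C.left := subsingleton_of_dim_zero h0
    haveI := isIso_hom_point C
    have hc : ∀ c : SGA7.pt (K := k) Ω ⟶ C, c = 1 := fun c =>
      Over.OverMorphism.ext ((cancel_mono C.hom).1 ((Over.w c).trans (Over.w _).symm))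
    refine isFinite_of_finite_kernel f ?_
    haveI : JacobsonSpace A.left := LocallyOfFiniteType.jacobsonSpace A.hom
    have hsub : D ∩ closedPoints A.left ⊆ imgPt '' F := by
      rintro y ⟨hy, hyc⟩
      obtain ⟨a, rfl⟩ := exists_imgPt (Ω := Ω) (mem_closedPoints_iff.1 hyc)
      obtain ⟨f₀, hf₀, c, hc'⟩ := hFD a hy
      exact ⟨f₀, hf₀, by rw [hc', hc c, MonObj.one_comp, _root_.mul_one]⟩
    have hfin : (D ∩ closedPoints A.left).Finite := (hF.image _).subset hsub
    have hcl : IsClosed (D ∩ closedPoints A.left) := by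
      rw [← Set.biUnion_of_singleton (D ∩ closedPoints A.left)]
      exact hfin.isClosed_biUnion fun y hy => mem_closedPoints_iff.1 hy.2
    have hDf : D ⊆ D ∩ closedPoints A.left := by
      have h := JacobsonSpace.closure_inter_closedPoints hD
      rw [hcl.closure_eq] at h
      exact h.ge
    refine (hfin.subset hDf).subset fun y hy => ?_
    exact ⟨IsLocalRing.closedPoint k, (Set.mem_singleton_iff.1 hy).symm⟩
  · haveI := hjcl
    have hr : Set.range (j ≫ f).left ⊆ Set.range e := by
      rintro _ ⟨x, rfl⟩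
      exact range_subset_of_imgPts (Ω := Ω) j hD hCD ⟨x, rfl⟩
    obtain ⟨l, hl⟩ := exists_lift_of_reduced e (j ≫ f).left hr
    have he : e ≫ Y.hom = 𝟙 _ := Over.w η[Y]
    have hl' : l = C.hom := by
      have := Over.w (j ≫ f)
      rw [← hl, Category.assoc, he] at this
      exact (Category.comp_id _).symm.trans this
    ext1
    rw [← hl, hl', Hom.one_def, Over.comp_left]
    rfl

/-- A degenerate homomorphism is unchanged by an endomorphism of degree greater than one. -/
theorem exists_endo_fix [GeometricallyIntegral Y.hom] (f : A ⟶ Y) [IsMonHom f] (hf : ¬ IsFinite f.left) :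
    ∃ (α : A ⟶ A) (d : ℕ), IsMonHom α ∧ IsFinite α.left ∧ Flat α.left ∧ α ≫ f = f ∧ 1 < d ∧
      ∀ a, α.left.finrank a = d := by
  obtain ⟨C, _, j, hj, hjcl, hCp, hCg, hC0, hjf⟩ := exists_subAV_ker f hf
  obtain ⟨D, _, jD, hDp, hDg, hjD, hjDcl, hsurj, hfin⟩ := exists_complement j
  haveI : IsCommMonObj A := isCommMonObj_field
  haveI : IsCommMonObj C := isCommMonObj_field
  haveI : IsProper (C ⊗ D).hom := inferInstanceAs (IsProper (pullback.fst C.hom D.hom ≫ C.hom))
  haveI : GeometricallyIntegral (C ⊗ D).hom := CubeConsLib.geometricallyIntegral_prod C.hom D.hom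
  haveI : IsCommMonObj (C ⊗ D) := isCommMonObj_field
  haveI : LocallyOfFinitePresentation A.hom := LocallyOfFinitePresentation.iff_locallyOfFiniteType.2 inferInstance
  haveI : LocallyOfFinitePresentation (C ⊗ D).hom := LocallyOfFinitePresentation.iff_locallyOfFiniteType.2 inferInstance
  haveI := geometricallyConnected_of_integral A.hom
  haveI := geometricallyConnected_of_integral (C ⊗ D).hom
  let s : C ⊗ D ⟶ A := (fst C D ≫ j) * (snd C D ≫ jD)
  haveI : Surjective s.left := hsurj
  haveI : IsFinite s.left := hfin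
  haveI hs : IsMonHom s := H0Lib.isMonHom_of_one_comp s (by
    rw [MonObj.comp_mul, IsMonHom.one_hom (fst C D ≫ j), IsMonHom.one_hom (snd C D ≫ jD), MonObj.one_eq_one,
      _root_.mul_one])
  obtain ⟨n, v, hn, hv, hsv, -⟩ := exists_quasi_inverse s
  let β : A ⟶ A := v ≫ fst C D ≫ j
  have hβf : β ≫ f = 1 := by simp only [β, Category.assoc, hjf, MonObj.comp_one]
  let α : A ⟶ A := 𝟙 A * β
  haveI hα : IsMonHom α := H0Lib.isMonHom_of_one_comp α (by
    rw [MonObj.comp_mul, Category.comp_id, IsMonHom.one_hom β, MonObj.one_eq_one, _root_.mul_one])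
  let gm : C ⊗ D ⟶ C ⊗ D := (𝟙 C ^ (n + 1)) ▷ D
  have hsα : s ≫ α = gm ≫ s := by
    have h1 : s ≫ β = (fst C D ≫ j) ^ n := by
      simp only [β]
      rw [← Category.assoc, hsv, MonObj.pow_comp, Category.id_comp]
    have h2 : gm ≫ s = (fst C D ≫ j) ^ (n + 1) * (snd C D ≫ jD) := by
      rw [MonObj.comp_mul, ← Category.assoc, whiskerRight_fst, ← Category.assoc, whiskerRight_snd, Category.assoc,
        MonObj.pow_comp, Category.id_comp, MonObj.comp_pow]
    rw [h2, MonObj.comp_mul, Category.comp_id, h1, pow_succ]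
    letI : CommGroup (C ⊗ D ⟶ A) := Hom.commGroup
    simp only [s]
    rw [mul_right_comm, mul_comm (fst C D ≫ j)]
  have hn1 : ((n + 1 : ℕ) : ℤ) ≠ 0 := by omega
  haveI : IsFinite (𝟙 C ^ (n + 1)).left := by
    rw [← zpow_natCast]
    exact AVAmpleLib.isFinite_zpow C hn1
  haveI : Flat (𝟙 C ^ (n + 1)).left := by
    rw [← zpow_natCast]
    exact AVAmpleLib.flat_zpow C hn1
  have sq : IsPullback gm.left (fst C D).left (fst C D).left (𝟙 C ^ (n + 1)).left := by
    refine IsPullback.of_right ?_ ?_ (IsPullback.of_hasPullback C.hom D.hom).flip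
    · rw [show gm.left ≫ Limits.pullback.snd C.hom D.hom = (snd C D).left from
        congrArg Over.Hom.left (whiskerRight_snd _ D), Over.w]
      exact (IsPullback.of_hasPullback C.hom D.hom).flip
    · exact congrArg Over.Hom.left (whiskerRight_fst _ D)
  haveI : IsFinite gm.left := MorphismProperty.of_isPullback (P := @IsFinite) sq.flip inferInstance
  haveI : Flat gm.left := MorphismProperty.of_isPullback (P := @Flat) sq.flip inferInstance
  obtain ⟨gC, hgC⟩ := exists_dim_field C
  haveI : IsMonHom gm := H0Lib.isMonHom_of_one_comp gm (by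
    apply CartesianMonoidalCategory.hom_ext
    · rw [Category.assoc, whiskerRight_fst, ← Category.assoc, IsMonHom.one_hom (fst C D), MonObj.comp_pow,
        Category.comp_id, MonObj.one_eq_one, one_pow]
    · rw [Category.assoc, whiskerRight_snd])
  haveI : IsFinite (s.left ≫ α.left) := by
    rw [← Over.comp_left, hsα, Over.comp_left]
    infer_instance
  haveI : IsFinite α.left := by
    refine isFinite_of_finite_kernel α
      ((((s.left ≫ α.left).finite_preimage_singleton
        ((η[A] : 𝟙_ (Over (Spec (CommRingCat.of k))) ⟶ A).left (IsLocalRing.closedPoint k))).image s.left).subset fun y hy => ?_)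
    obtain ⟨x, rfl⟩ := s.left.surjective y
    exact ⟨x, hy, rfl⟩
  obtain ⟨g, hg⟩ := exists_dim_field (C ⊗ D)
  have hgA : topologicalKrullDim A.left = (g : ℕ) :=
    ((MiscFlat6.dim_le_of_isIntegralHom s.left).2 inferInstance).symm.trans hg
  obtain ⟨hflat, -⟩ := flat_of_isFinite α hgA hgA
  haveI := hflat
  have hgC0 : 0 < gC := Nat.pos_of_ne_zero fun h => hC0 (by rw [hgC, h]; rfl)
  refine ⟨α, (n + 1) ^ (2 * gC), hα, ‹_›, ‹_›, ?_, Nat.one_lt_pow (by omega) (by omega), fun a => ?_⟩
  · rw [MonObj.mul_comp, Category.id_comp, hβf, _root_.mul_one]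
  let oC := (η[C ⊗ D] : 𝟙_ (Over (Spec (CommRingCat.of k))) ⟶ C ⊗ D).left (IsLocalRing.closedPoint k)
  let oA := (η[A] : 𝟙_ (Over (Spec (CommRingCat.of k))) ⟶ A).left (IsLocalRing.closedPoint k)
  have e1 := finrank_comp_isogeny s α hg hgA hgA oA a
  have e2 := finrank_comp_isogeny gm s hg hg hgA oC a
  rw [hsα, e2] at e1
  have hgm : gm.left.finrank oC = (n + 1) ^ (2 * gC) := by
    rw [Scheme.Hom.finrank_of_isPullback _ _ _ _ sq.flip oC]
    have := AVAmpleLib.finrank_zpow C hn1 hgC ((fst C D).left oC)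
    rwa [Int.natAbs_natCast, zpow_natCast] at this
  haveI : Flat s.left := (flat_of_isFinite s hg hgA).1
  rw [hgm, finrank_const s a oA] at e1
  have hpos : 0 < s.left.finrank oA := by
    obtain ⟨x, hx⟩ := s.left.surjective oA
    rw [← hx]
    exact Scheme.Hom.one_le_finrank_map s.left x
  exact (Nat.eq_of_mul_eq_mul_left hpos ((mul_comm _ _).trans e1)).symm

variable {B Bt : Over (Spec (CommRingCat.of k))} [GrpObj B] [IsProper B.hom] [GeometricallyIntegral B.hom]
  [GrpObj Bt] [IsProper Bt.hom] [GeometricallyIntegral Bt.hom]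
  {φ : AgPol.DualMap B Bt} (hB : AbDual.IsDualAV Scheme.fppfPrecoverage B Bt φ)
  {Q : (PicF.XT B.hom A).Modules} (hQ : PicF.IsInvertible Q) (hQ0 : AbDual.IsPicZeroCl B.hom A (PicF.cl Q))
  (hs : pullA (PicF.secT B.hom η[B].left (Over.w η[B]) A) (clA hQ) = 0)

include hB hQ0 hs in
/-- A rigidified family with degenerate classifying map has Euler characteristic zero. -/
theorem euler_eq_zero_of_not_isFinite [IsMonHom (φ A (PicF.cl Q))] (hf : ¬ IsFinite (φ A (PicF.cl Q)).left) :
    @Curv2.euler k _ (PicF.XT B.hom A) ⟨PicF.XTproj B.hom A ≫ A.hom⟩ Q = 0 := by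
  obtain ⟨α, d, hα, hfin, hflat, hαf, hd1, hd⟩ := exists_endo_fix (φ A (PicF.cl Q)) hf
  haveI : IsIntegral A.left := GeometricallyIntegral.isIntegral_of_subsingleton A.hom
  let a := B ◁ α
  have ea : a.left = PicF.XTmap B.hom α := by
    apply Limits.pullback.hom_ext
    · exact (congrArg Over.Hom.left (whiskerLeft_fst B α)).trans (XTmap_fst B.hom α).symm
    · exact (congrArg Over.Hom.left (whiskerLeft_snd B α)).trans (XTmap_snd B.hom α).symm
  have hm := AmpleDevLib.isInvertible_pb (PicF.XTmap B.hom α) hQ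
  have key : clA hm = clA hQ := by
    refine eq_of_phi_eq hB hm hQ (isPicZeroCl_XTmap α hQ0) hQ0 ?_ hs ?_
    · rw [← pullA_clA _ hQ, pullA_comp, secT_natural, ← pullA_comp, hs, map_zero]
    · exact (hB.relPic.natural _ _ α _ hQ0).trans hαf
  rw [clA_eq_iff] at key
  haveI : IsProper (B ⊗ A).hom := inferInstanceAs (IsProper (pullback.fst B.hom A.hom ≫ B.hom))
  haveI : GeometricallyIntegral (B ⊗ A).hom := CubeConsLib.geometricallyIntegral_prod B.hom A.hom
  have pa : IsPullback a.left (snd B A).left (snd B A).left α.left := by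
    refine IsPullback.of_right ?_ ?_ (IsPullback.of_hasPullback B.hom A.hom)
    · rw [show a.left ≫ Limits.pullback.fst B.hom A.hom = (fst B A).left from
        congrArg Over.Hom.left (whiskerLeft_fst B α), Over.w α]
      exact IsPullback.of_hasPullback B.hom A.hom
    · exact congrArg Over.Hom.left (whiskerLeft_snd B α)
  haveI : IsFinite a.left := MorphismProperty.of_isPullback (P := @IsFinite) pa.flip hfin
  haveI : Flat a.left := MorphismProperty.of_isPullback (P := @Flat) pa.flip hflat
  have e1 := AVRRLib.euler_pullback a d (fun y => (Scheme.Hom.finrank_of_isPullback _ _ _ _ pa.flip y).trans (hd _))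
    (F := (show (B ⊗ A).left.Modules from Q)) (CurvLib.isCoh_of_isInvertible hQ)
  letI : (B ⊗ A).left.Over (Spec (CommRingCat.of k)) := ⟨(B ⊗ A).hom⟩
  have e2 : Curv2.euler k (B ⊗ A).left ((Scheme.Modules.pullback a.left).obj Q) = Curv2.euler k (B ⊗ A).left Q :=
    CurvLib.euler_congr (k := k) ((Scheme.Modules.pullbackCongr ea).app Q ≪≫ key.some)
  rw [e2] at e1
  have e3 : ((d : ℤ) - 1) * Curv2.euler k (B ⊗ A).left Q = 0 := by linear_combination -e1
  have h0 : Curv2.euler k (B ⊗ A).left Q = 0 :=
    (mul_eq_zero.1 e3).resolve_left (by omega)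
  rw [show PicF.XTproj B.hom A ≫ A.hom = (B ⊗ A).hom from (Over.w (snd B A))]
  exact h0

include hB hQ0 hs in
/-- The classifying map is an isomorphism exactly when the Euler characteristic is a sign. -/
theorem natAbs_euler_eq_one_iff [IsMonHom (φ A (PicF.cl Q))] {g : ℕ} (hgpos : 0 < g)
    (hgA : topologicalKrullDim A.left = (g : ℕ)) (hgB : topologicalKrullDim B.left = (g : ℕ)) :
    (@Curv2.euler k _ (PicF.XT B.hom A) ⟨PicF.XTproj B.hom A ≫ A.hom⟩ Q).natAbs = 1 ↔
      IsIso (φ A (PicF.cl Q)) := by
  let f := φ A (PicF.cl Q)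
  have key : IsFinite f.left → ∀ y, (@Curv2.euler k _ (PicF.XT B.hom A) ⟨PicF.XTproj B.hom A ≫ A.hom⟩ Q).natAbs =
      f.left.finrank y := fun hfin y => by
    haveI := hfin
    haveI : Flat f.left := (flat_of_isFinite f hgA (dim_dual hB hgB)).1
    haveI : IsProper (B ⊗ A).hom := inferInstanceAs (IsProper (pullback.fst B.hom A.hom ≫ B.hom))
    haveI : IsLocallyNoetherian (B ⊗ A).left := LocallyOfFiniteType.isLocallyNoetherian (B ⊗ A).hom
    haveI : HasInjectiveResolutions (PicF.XT B.hom A).Modules :=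
      inferInstanceAs (HasInjectiveResolutions (B ⊗ A).left.Modules)
    obtain ⟨hv, hdeg⟩ := family_top_kernel hB hQ hQ0 hgpos hgB hgA fun z => finrank_const f z y
    letI : (PicF.XT B.hom A).Over (Spec (CommRingCat.of k)) := ⟨PicF.XTproj B.hom A ≫ A.hom⟩
    haveI : IsProper ((PicF.XT B.hom A) ↘ Spec (CommRingCat.of k)) :=
      show IsProper ((snd B A).left ≫ A.hom) by rw [Over.w (snd B A)]; infer_instance
    rw [euler_of_concentrated (k := k) hv, Int.natAbs_mul, Int.natAbs_pow, Int.natAbs_neg, Int.natAbs_one, one_pow,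
      _root_.one_mul, Int.natAbs_natCast]
    exact hdeg
  haveI : IsIntegral Bt.left := GeometricallyIntegral.isIntegral_of_subsingleton Bt.hom
  constructor
  · intro h
    by_cases hfin : IsFinite f.left
    · haveI := hfin
      haveI : Flat f.left := (flat_of_isFinite f hgA (dim_dual hB hgB)).1
      haveI : IsLocallyNoetherian Bt.left := LocallyOfFiniteType.isLocallyNoetherian Bt.hom
      haveI : LocallyOfFinitePresentation f.left := by
        haveI : IsLocallyNoetherian A.left := LocallyOfFiniteType.isLocallyNoetherian A.hom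
        exact LocallyOfFinitePresentation.iff_locallyOfFiniteType.2 inferInstance
      haveI : IsIso f.left := by
        rw [Scheme.Hom.isIso_iff_finrank_eq]
        funext y
        exact (key hfin y).symm.trans h
      exact @isIso_of_reflects_iso _ _ _ _ _ _ f (Over.forget _) ‹IsIso f.left› _
    · rw [euler_eq_zero_of_not_isFinite hB hQ hQ0 hs hfin] at h
      exact absurd h (by norm_num)
  · intro h
    haveI : IsIso f.left := inferInstanceAs (IsIso ((Over.forget _).map f))
    rw [key inferInstance (genericPoint Bt.left)]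
    exact congrFun (Scheme.Hom.finrank_eq_one_of_isIso f.left) _

end AVIndexLib

end
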