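import Groth.Agent.AVIndexLib.StructCoh
import Groth.Agent.ConormalSecLib.GrpSch
import Groth.Agent.CohCmpLib.OmegaRank
import Groth.Agent.CohCmpLib.CanonApps
import Groth.Agent.SeesawLib.Ranks
import Groth.Agent.FibDimLib.Smooth
import Groth.Agent.RankLocusLib.Mod
import Groth.Prelude.Def_ExtPow2
import Mathlib.LinearAlgebra.ExteriorPower.Basis

/-!
The cohomology of the exterior powers of the differentials of an abelian variety.
-/

set_option autoImplicit false
set_option maxHeartbeats 1000000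
set_option maxRecDepth 8000
set_option backward.isDefEq.respectTransparency false
set_option linter.style.haveILetI false
set_option linter.unusedSectionVars false

noncomputable section

universe u

open CategoryTheory CategoryTheory.Limits MonoidalCategory CartesianMonoidalCategory MonObj AlgebraicGeometry
open TopologicalSpace Opposite

namespace AVIndexLib

section Free

variable {X : Scheme.{u}}

/-- The combinations of global sections over an open. -/
def combo {I : Type*} [Fintype I] {M : X.Modules} (e : I → Γ(M, ⊤)) (V : X.Opens) (c : I → Γ(X, V)) : Γ(M, V) :=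
  ∑ i, c i • M.presheaf.map (homOfLE (le_top : V ≤ ⊤)).op (e i)

theorem app_combo {I : Type*} [Fintype I] {M N : X.Modules} (φ : M ⟶ N) (e : I → Γ(M, ⊤)) (V : X.Opens)
    (c : I → Γ(X, V)) : φ.app V (combo e V c) = combo (fun i => φ.app ⊤ (e i)) V c := by
  refine (map_sum _ _ _).trans (Finset.sum_congr rfl fun i _ => ?_)
  rw [QCohLib.app_smul, QCohLib.app_map]

/-- The standard sections of a free module. -/
def stdSec (X : Scheme.{u}) (n : ℕ) (i : Fin n) : Γ(FlatMod.freeMod X n, ⊤) :=
  KFlatLib.unitSecEquiv _ (Sigma.ι (fun _ : Fin n => Coh.structureModule X) i)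

theorem app_one {M : X.Modules} (φ : Coh.structureModule X ⟶ M) (V : X.Opens) (r : Γ(X, V)) :
    φ.app V (show Γ(Coh.structureModule X, V) from r) =
      r • M.presheaf.map (homOfLE (le_top : V ≤ ⊤)).op (KFlatLib.unitSecEquiv M φ) := by
  conv_lhs => rw [← (KFlatLib.unitSecEquiv M).symm_apply_apply φ]
  exact QCohLib.unitHom_app M _ V r

/-- The standard sections form bases over every open. -/
theorem bijective_stdSec (n : ℕ) (V : X.Opens) : Function.Bijective (combo (stdSec X n) V) := by
  classical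
  let ιs : Fin n → (Coh.structureModule X ⟶ FlatMod.freeMod X n) :=
    fun i => Sigma.ι (fun _ : Fin n => Coh.structureModule X) i
  let π : Fin n → (FlatMod.freeMod X n ⟶ Coh.structureModule X) :=
    fun i => Sigma.desc fun j => if j = i then 𝟙 _ else 0
  have hid : ∑ i, π i ≫ ιs i = 𝟙 (FlatMod.freeMod X n) := by
    refine Sigma.hom_ext _ _ fun j => ?_
    rw [Preadditive.comp_sum, Category.comp_id, Finset.sum_eq_single j]
    · rw [Sigma.ι_desc_assoc, if_pos rfl, Category.id_comp]
    · intro i _ hij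
      rw [Sigma.ι_desc_assoc, if_neg (Ne.symm hij), zero_comp]
    · simp
  let c : Γ(FlatMod.freeMod X n, V) → Fin n → Γ(X, V) := fun x i => (show Γ(X, V) from (π i).app V x)
  have hdec : ∀ x, combo (stdSec X n) V (c x) = x := fun x => by
    have hx := congrArg (fun φ : FlatMod.freeMod X n ⟶ FlatMod.freeMod X n => φ.app V x) hid
    refine Eq.trans ?_ hx
    have hsum : ∀ (t : Finset (Fin n)), (∑ i ∈ t, π i ≫ ιs i).app V x =
        ∑ i ∈ t, c x i • (FlatMod.freeMod X n).presheaf.map (homOfLE (le_top : V ≤ ⊤)).op (stdSec X n i) := by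
      intro t
      induction t using Finset.induction_on with
      | empty => rfl
      | insert a t ha ih =>
        rw [Finset.sum_insert ha, Finset.sum_insert ha, ← ih, stdSec, ← app_one (ιs a) V (c x a)]
        rfl
    exact (hsum _).symm
  have hc : ∀ (a : Fin n → Γ(X, V)) (i : Fin n),
      (π i).app V (combo (stdSec X n) V a) = (show Γ(Coh.structureModule X, V) from a i) := by
    intro a i
    rw [combo, map_sum, Finset.sum_eq_single i]
    · rw [stdSec, ← app_one]
      change (ιs i ≫ π i).app V _ = _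
      rw [Sigma.ι_desc, if_pos rfl]
      rfl
    · intro j _ hj
      rw [stdSec, ← app_one]
      change (ιs j ≫ π i).app V _ = _
      rw [Sigma.ι_desc, if_neg hj]
      rfl
    · simp
  exact ⟨fun a b hab => funext fun i => ((hc a i).symm.trans ((congrArg ((π i).app V) hab).trans (hc b i)) :),
    fun x => ⟨c x, hdec x⟩⟩

/-- A trivialization gives global sections forming bases over every open. -/
theorem exists_sections_of_iso {M : X.Modules} {n : ℕ} (θ : M ≅ FlatMod.freeMod X n) :
    ∃ e : Fin n → Γ(M, ⊤), ∀ V : X.Opens, Function.Bijective (combo e V) := by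
  refine ⟨fun i => θ.inv.app ⊤ (stdSec X n i), fun V => ?_⟩
  rw [show combo (fun i => θ.inv.app ⊤ (stdSec X n i)) V = θ.inv.app V ∘ combo (stdSec X n) V from
    funext fun c => (app_combo θ.inv _ V c).symm]
  haveI : IsIso (θ.inv.app V) := inferInstance
  exact (ConcreteCategory.bijective_of_isIso (θ.inv.app V)).comp (bijective_stdSec n V)

/-- Global sections forming bases over affine opens give a trivialization. -/
theorem nonempty_iso_of_sections {M : X.Modules} {n : ℕ} (w : Fin n → Γ(M, ⊤))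
    (h : ∀ V : X.Opens, IsAffineOpen V → Function.Bijective (combo w V)) :
    Nonempty (M ≅ FlatMod.freeMod X n) := by
  let φ : FlatMod.freeMod X n ⟶ M := Sigma.desc fun i => QCohLib.unitHom M (w i)
  have hφ : ∀ i, φ.app ⊤ (stdSec X n i) = w i := fun i => by
    show φ.app ⊤ (KFlatLib.unitSecEquiv _ _) = _
    rw [show φ.app ⊤ (KFlatLib.unitSecEquiv (FlatMod.freeMod X n) (Sigma.ι (fun _ : Fin n => Coh.structureModule X) i)) =
      KFlatLib.unitSecEquiv M (Sigma.ι (fun _ : Fin n => Coh.structureModule X) i ≫ φ) from rfl, Sigma.ι_desc]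
    exact (KFlatLib.unitSecEquiv M).apply_symm_apply (w i)
  haveI : IsIso φ := QCohLib.isIso_of_bijective_affine φ fun V hV => by
    have e : φ.app V ∘ combo (stdSec X n) V = combo w V := funext fun c =>
      (app_combo φ _ V c).trans (congrArg (fun v => combo v V c) (funext hφ))
    exact (Function.Bijective.of_comp_iff _ (bijective_stdSec n V)).1 (e ▸ h V hV)
  exact ⟨(asIso φ).symm⟩

/-- An exterior power of a free module on a separated scheme is free. -/
theorem nonempty_iso_extPow [X.IsSeparated] {E L : X.Modules} {g r : ℕ} (θ : E ≅ FlatMod.freeMod X g)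
    (hL : ExtPow.IsExtPow r E L) : Nonempty (L ≅ FlatMod.freeMod X (g.choose r)) := by
  classical
  obtain ⟨φ, hφ⟩ := hL
  obtain ⟨e, he⟩ := exists_sections_of_iso θ
  let b : ∀ U : X.affineOpens, Module.Basis (Fin g) Γ(X, U.1) (E.val.obj (op U.1)) := fun U =>
    Module.Basis.ofEquivFun (LinearEquiv.ofBijective
      (Fintype.linearCombination Γ(X, U.1) (M := E.val.obj (op U.1))
        fun i => E.val.map (homOfLE (le_top : U.1 ≤ ⊤)).op (e i)) (he U.1)).symm
  have hb : ∀ U i, b U i = E.val.map (homOfLE (le_top : U.1 ≤ ⊤)).op (e i) := fun U i => by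
    simp [b, Module.Basis.coe_ofEquivFun, Fintype.linearCombination_apply_single]
  let w : ∀ (U : X.affineOpens) (_ : Set.powersetCard (Fin g) r), Γ(L, U.1) :=
    fun U s => (φ U).symm ((b U).exteriorPower r s)
  have hres : ∀ (U V : X.affineOpens) (h : V.1 ≤ U.1) (s : Set.powersetCard (Fin g) r),
      L.presheaf.map (homOfLE h).op (w U s) = w V s := fun U V h s => by
    show L.val.map (homOfLE h).op ((φ U).symm ((b U).exteriorPower r s)) = (φ V).symm ((b V).exteriorPower r s)
    rw [exteriorPower.basis_apply, exteriorPower.basis_apply, exteriorPower.ιMulti_family, hφ]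
    refine congrArg (fun v => (φ V).symm (exteriorPower.ιMulti _ r v)) (funext fun j => ?_)
    simp only [Function.comp_apply, hb]
    exact QCohLib.map_map' E (homOfLE h) (homOfLE le_top) _
  choose U hU hx _ using fun x : X => exists_isAffineOpen_mem_and_subset (x := x) (U := ⊤) trivial
  have hg : ∀ s, ∃ t : Γ(L, ⊤), ∀ x, L.presheaf.map (homOfLE (le_top : U x ≤ ⊤)).op t = w ⟨U x, hU x⟩ s := by
    intro s
    obtain ⟨t, ht, -⟩ := TopCat.Sheaf.existsUnique_gluing'
      ((QCohLib.toAbF X).obj L : TopCat.Sheaf AddCommGrpCat _) U ⊤ (fun x => homOfLE le_top)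
      (fun x _ => Opens.mem_iSup.mpr ⟨x, hx x⟩) (fun x => w ⟨U x, hU x⟩ s) fun x y =>
        (hres ⟨U x, hU x⟩ ⟨U x ⊓ U y, (hU x).inf (hU y)⟩ inf_le_left s).trans
          (hres ⟨U y, hU y⟩ ⟨U x ⊓ U y, (hU x).inf (hU y)⟩ inf_le_right s).symm
    exact ⟨t, ht⟩
  choose t ht using hg
  have ht' : ∀ (V : X.affineOpens) s, L.presheaf.map (homOfLE (le_top : V.1 ≤ ⊤)).op (t s) = w V s := by
    intro V s
    refine TopCat.Sheaf.eq_of_locally_eq' ((QCohLib.toAbF X).obj L : TopCat.Sheaf AddCommGrpCat _)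
      (fun x => V.1 ⊓ U x) V.1 (fun x => homOfLE inf_le_left)
      (fun x hxV => Opens.mem_iSup.mpr ⟨x, hxV, hx x⟩) _ _ fun x => ?_
    refine Eq.trans ?_ (hres V ⟨V.1 ⊓ U x, V.2.inf (hU x)⟩ inf_le_left s).symm
    refine Eq.trans ?_ (hres ⟨U x, hU x⟩ ⟨V.1 ⊓ U x, V.2.inf (hU x)⟩ inf_le_right s)
    rw [← ht s x]
    exact (QCohLib.map_map' L _ _ _).trans
      (QCohLib.map_map' L (homOfLE (inf_le_right : V.1 ⊓ U x ≤ U x)) (homOfLE le_top) (t s)).symm
  let σ : Fin (g.choose r) ≃ Set.powersetCard (Fin g) r :=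
    (Finite.equivFinOfCardEq (by rw [Set.powersetCard.card, Nat.card_fin])).symm
  refine nonempty_iso_of_sections (fun i => t (σ i)) fun V hV => ?_
  let B : Module.Basis (Fin (g.choose r)) Γ(X, V) (L.val.obj (op V)) :=
    (((b ⟨V, hV⟩).exteriorPower r).map (φ ⟨V, hV⟩).symm).reindex σ.symm
  rw [show combo (fun i => t (σ i)) V = fun c => B.equivFun.symm c from funext fun c => by
    rw [Module.Basis.equivFun_symm_apply]
    refine Finset.sum_congr rfl fun i _ => ?_
    show c i • L.presheaf.map (homOfLE le_top).op (t (σ i)) = c i • B i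
    rw [ht' ⟨V, hV⟩]
    simp [B, w]]
  exact B.equivFun.symm.bijective

variable {k : Type u} [Field k] [X.Over (Spec (CommRingCat.of k))]

/-- Projections and injections give a product decomposition. -/
def prodEquivOfMaps {P A B : Type u} [AddCommGroup P] [Module k P] [AddCommGroup A] [Module k A] [AddCommGroup B]
    [Module k B] (p₁ : P →ₗ[k] A) (p₂ : P →ₗ[k] B) (i₁ : A →ₗ[k] P) (i₂ : B →ₗ[k] P) (h11 : ∀ a, p₁ (i₁ a) = a)
    (h12 : ∀ b, p₁ (i₂ b) = 0) (h21 : ∀ a, p₂ (i₁ a) = 0) (h22 : ∀ b, p₂ (i₂ b) = b)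
    (hid : ∀ x, i₁ (p₁ x) + i₂ (p₂ x) = x) : P ≃ₗ[k] A × B where
  toFun x := (p₁ x, p₂ x)
  map_add' x y := by simp
  map_smul' c x := by simp
  invFun v := i₁ v.1 + i₂ v.2
  left_inv := hid
  right_inv := fun ⟨a, b⟩ => by simp [h11, h12, h21, h22]

theorem hMap_zero' {M N : X.Modules} (p : ℕ) (y : Coh.HH X M p) :
    CurvLib.hMap (k := k) (0 : M ⟶ N) p y = 0 := by
  rw [CurvLib.hMap_apply, Functor.map_zero]
  show Abelian.Ext.comp y (Abelian.Ext.mk₀ 0) (add_zero p) = 0
  rw [Abelian.Ext.mk₀_zero, Abelian.Ext.comp_zero]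

theorem hMap_id' {M : X.Modules} (p : ℕ) (y : Coh.HH X M p) : CurvLib.hMap (k := k) (𝟙 M) p y = y := by
  rw [CurvLib.hMap_apply, CategoryTheory.Functor.map_id, Sheaf.H.map_id_apply]

theorem hMap_add' {M N : X.Modules} (f g : M ⟶ N) (p : ℕ) (y : Coh.HH X M p) :
    CurvLib.hMap (k := k) (f + g) p y = CurvLib.hMap (k := k) f p y + CurvLib.hMap (k := k) g p y := by
  rw [CurvLib.hMap_apply, CurvLib.hMap_apply, CurvLib.hMap_apply, Functor.map_add]
  show Abelian.Ext.comp y (Abelian.Ext.mk₀ _) (add_zero p) = _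
  rw [Abelian.Ext.mk₀_add, Abelian.Ext.comp_add]
  rfl

/-- The cohomology of a biproduct. -/
def hhBiprod (M N : X.Modules) (p : ℕ) : Coh.HH X (M ⊞ N) p ≃ₗ[k] Coh.HH X M p × Coh.HH X N p :=
  prodEquivOfMaps (CurvLib.hMap (k := k) biprod.fst p) (CurvLib.hMap (k := k) biprod.snd p)
    (CurvLib.hMap (k := k) biprod.inl p) (CurvLib.hMap (k := k) biprod.inr p)
    (fun a => by rw [← CurvLib.hMap_comp, biprod.inl_fst, hMap_id'])
    (fun b => by rw [← CurvLib.hMap_comp, biprod.inr_fst, hMap_zero'])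
    (fun a => by rw [← CurvLib.hMap_comp, biprod.inl_snd, hMap_zero'])
    (fun b => by rw [← CurvLib.hMap_comp, biprod.inr_snd, hMap_id'])
    (fun x => by rw [← CurvLib.hMap_comp, ← CurvLib.hMap_comp, ← hMap_add', biprod.total, hMap_id'])

/-- The cohomology of a free module. -/
theorem finrank_HH_free [IsProper (X ↘ Spec (CommRingCat.of k))] (p : ℕ) : ∀ n : ℕ,
    Module.Finite k (Coh.HH X (FlatMod.freeMod X n) p) ∧
      Module.finrank k (Coh.HH X (FlatMod.freeMod X n) p) = n * Module.finrank k (Coh.HH X (Coh.structureModule X) p)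
  | 0 => by
    haveI : Subsingleton (Coh.HH X (FlatMod.freeMod X 0) p) := subsingleton_HH_isZero (by
      rw [IsZero.iff_id_eq_zero]
      exact Sigma.hom_ext _ _ fun i => i.elim0) p
    exact ⟨Module.Finite.of_finite, by rw [Module.finrank_zero_of_subsingleton, zero_mul]⟩
  | n + 1 => by
    obtain ⟨hf, hn⟩ := finrank_HH_free p n
    haveI := hf
    haveI := CurvLib.isNoetherian k (X := X)
    haveI := CurvLib.finite_HH (k := k) (DevissLib.isCoh_structureModule X) p
    let e := (CurvLib.hIso (k := k) (CurvLib.freeModSucc X n) p).trans (hhBiprod _ _ p)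
    exact ⟨Module.Finite.equiv e.symm, by rw [e.finrank_eq, Module.finrank_prod, hn, Nat.succ_mul, add_comm]⟩

end Free

variable {k : Type u} [Field k] {A : Over (Spec (CommRingCat.of k))} [GrpObj A] [IsProper A.hom]
  [GeometricallyIntegral A.hom] {g : ℕ}

/-- An abelian variety is smooth of relative dimension its dimension. -/
theorem smoothOfRelativeDimension_hom (hg : topologicalKrullDim A.left = (g : ℕ)) :
    SmoothOfRelativeDimension g A.hom := by
  haveI : Smooth A.hom := AVAmpleLib.smooth_hom A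
  haveI : IsIntegral A.left := GeometricallyIntegral.isIntegral_of_subsingleton A.hom
  refine ⟨fun x => ?_⟩
  obtain ⟨U, hU, V, hV, hx, e, hf⟩ := Smooth.exists_isStandardSmooth A.hom x
  refine ⟨U, hU, V, hV, hx, e, ?_⟩
  letI := (A.hom.appLE U V e).hom.toAlgebra
  obtain ⟨ιs, σ, _, _, ⟨P⟩⟩ := hf.toAlgebra
  have hn : RingHom.IsStandardSmoothOfRelativeDimension P.dimension (A.hom.appLE U V e).hom :=
    ⟨ιs, σ, inferInstance, inferInstance, P, rfl⟩
  obtain ⟨q, hq, het⟩ := hn.exists_etale_mvPolynomial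
  have h1 := FibDimLib.fibreDimAt_chart A.hom hU hV e q hq het x hx
  have hopen : Topology.IsOpenEmbedding (A.hom.fiberι (A.hom x)) := by
    refine ⟨(A.hom.fiberι (A.hom x)).isEmbedding, ?_⟩
    rw [Scheme.Hom.range_fiberι, show A.hom ⁻¹' {A.hom x} = Set.univ from
      Set.eq_univ_of_forall fun y => Subsingleton.elim (α := PrimeSpectrum k) _ _]
    exact isOpen_univ
  rw [FlatMor.fibreDimAt, ← FibDimLib.localDim_eq_of_isOpenEmbedding hopen,
    FibDimLib.localDim_of_irreducible A.hom, hg] at h1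
  exact (show g = P.dimension from by exact_mod_cast h1) ▸ hn

/-- The differentials of an abelian variety are free. -/
theorem omega_free (hg : topologicalKrullDim A.left = (g : ℕ)) :
    Nonempty (Omega.sheaf A.hom ≅ FlatMod.freeMod A.left g) := by
  haveI := smoothOfRelativeDimension_hom (A := A) hg
  obtain ⟨θ⟩ := ConormalSecLib.nonempty_omega_iso_grp A
  haveI := ConormalSecLib.isQCoh_conormal_unit A
  let C := Omega.conormal (η[A] : 𝟙_ (Over (Spec (CommRingCat.of k))) ⟶ A).left
  let e : Spec (CommRingCat.of k) ⟶ A.left := (η[A] : 𝟙_ (Over (Spec (CommRingCat.of k))) ⟶ A).left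
  have he : e ≫ A.hom = 𝟙 _ := Over.w η[A]
  have hrank := CohCmpLib.rank_omega A.hom g
  have hpb : FlatMod.IsFinLocFreeOfRank g ((Scheme.Modules.pullback e).obj (Omega.sheaf A.hom)) :=
    SeesawLib.isFinLocFreeOfRank_pullback e hrank
  let κ : (Scheme.Modules.pullback e).obj (Omega.sheaf A.hom) ≅ C :=
    (Scheme.Modules.pullback e).mapIso θ ≪≫ (Scheme.Modules.pullbackComp e A.hom).app C ≪≫
      (Scheme.Modules.pullbackCongr he).app C ≪≫ (Scheme.Modules.pullbackId _).app C
  haveI : Coh.IsQCoh ((Scheme.Modules.pullback e).obj (Omega.sheaf A.hom)) := (CurvLib.isCoh_of_locFree hpb).1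
  obtain ⟨r, ⟨ρ⟩⟩ := CohCmpLib.exists_freeMod_iso_of_field k ((Scheme.Modules.pullback e).obj (Omega.sheaf A.hom))
    (CurvLib.isCoh_of_locFree hpb).2
  obtain rfl : g = r := SeesawLib.rankSet_unique (SeesawLib.rankSet_of_rank hpb (IsLocalRing.closedPoint k))
    (SeesawLib.rankSet_of_iso ρ.symm (SeesawLib.rankSet_freeMod _ r _))
  exact ⟨θ ≪≫ (Scheme.Modules.pullback A.hom).mapIso (κ.symm ≪≫ ρ) ≪≫ KFlatLib.pullFreeIso A.hom g⟩

/-- Hodge numbers of an abelian variety. -/
theorem finrank_HH_extPow [IsAlgClosed k] (hg : topologicalKrullDim A.left = (g : ℕ)) {r : ℕ} {L : A.left.Modules}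
    (hL : ExtPow.IsExtPow r (Omega.sheaf A.hom) L) (s : ℕ) :
    @Module.finrank k (Coh.HH A.left L s) _ _ (@Coh.moduleOver k _ A.left ⟨A.hom⟩ L s) =
      g.choose r * g.choose s := by
  letI : A.left.Over (Spec (CommRingCat.of k)) := ⟨A.hom⟩
  haveI : IsProper (A.left ↘ Spec (CommRingCat.of k)) := ‹IsProper A.hom›
  haveI : A.left.IsSeparated := ⟨by rw [← terminal.comp_from A.hom]; infer_instance⟩
  obtain ⟨θ⟩ := omega_free (A := A) hg
  obtain ⟨ψ⟩ := nonempty_iso_extPow θ hL
  show Module.finrank k (Coh.HH A.left L s) = _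
  rw [(CurvLib.hIso (k := k) ψ s).finrank_eq, (finrank_HH_free s _).2]
  exact congrArg (g.choose r * ·) (finrank_HH_structure hg s)

end AVIndexLib

end
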