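import Groth.Agent.AVIndexLib.Acyclic
import Mathlib.LinearAlgebra.Dual.Lemmas
import Mathlib.Algebra.Module.Projective

/-!
Bounded complexes of projective modules with homology in the top degree: lifting endomorphisms,
null-homotopies, and the interchange with the dual complex.
-/

set_option autoImplicit false
set_option maxHeartbeats 1000000
set_option linter.style.haveILetI false

universe u

open Module RingTheory.Sequence

namespace AVIndexLib

variable {R : Type u} [CommRing R] {M : ℕ → Type u} [∀ i, AddCommGroup (M i)] [∀ i, Module R (M i)]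
  {d : ∀ i, M i →ₗ[R] M (i + 1)}

/-- The differential between two named degrees. -/
def dd (d : ∀ i, M i →ₗ[R] M (i + 1)) (i j : ℕ) : M i →ₗ[R] M j :=
  if h : i + 1 = j then h ▸ d i else 0

theorem dd_succ (i : ℕ) : dd d i (i + 1) = d i := by simp [dd]

theorem exists_lift_range {N : Type u} [AddCommGroup N] [Module R N] [Module.Projective R N] (i : ℕ)
    (f : N →ₗ[R] M (i + 1)) (hf : ∀ v, f v ∈ bdry M d (i + 1)) : ∃ h : N →ₗ[R] M i, ∀ v, d i (h v) = f v := by
  obtain ⟨h, hh⟩ := Module.projective_lifting_property (d i).rangeRestrict (f.codRestrict _ hf)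
    (LinearMap.surjective_rangeRestrict _)
  exact ⟨h, fun v => congrArg Subtype.val (LinearMap.congr_fun hh v)⟩

section Down

variable [∀ i, Module.Projective R (M i)] (hdd : ∀ i z, d (i + 1) (d i z) = 0)

include hdd

/-- Null-homotopies, built from the top. -/
theorem exists_homotopy (W : ∀ i, M i →ₗ[R] M i) (hW : ∀ i v, W (i + 1) (d i v) = d i (W i v)) {N i₀ : ℕ}
    (hex : ∀ i, i₀ ≤ i → i < N → ∀ v, d i v = 0 → v ∈ bdry M d i) (htop : ∀ v, W N v ∈ bdry M d N)
    (i : ℕ) (hi₀ : i₀ ≤ i) (hiN : i ≤ N) :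
    ∃ h : M (i + 1) →ₗ[R] M i, ∀ v, W i v - h (d i v) ∈ bdry M d i := by
  revert hi₀
  induction hiN using Nat.decreasingInduction with
  | self => exact fun _ => ⟨0, fun v => by simpa using htop v⟩
  | of_succ i hiN ih =>
    intro hi₀
    obtain ⟨h₁, hh₁⟩ := ih (Nat.le_succ_of_le hi₀)
    obtain ⟨h', hh'⟩ := exists_lift_range i (W (i + 1) - h₁ ∘ₗ d (i + 1)) hh₁
    refine ⟨h', fun v => hex i hi₀ hiN _ ?_⟩
    rw [map_sub, hh', LinearMap.sub_apply, LinearMap.comp_apply, hdd, map_zero, sub_zero, hW, sub_self]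

/-- A splitting of the differential out of a degree above which the complex is exact. -/
theorem exists_split {N g : ℕ} (hN : ∀ i, N < i → Subsingleton (M i))
    (hex : ∀ i, g < i → ∀ v, d i v = 0 → v ∈ bdry M d i) :
    ∃ s : M (g + 1) →ₗ[R] M g, ∀ v, d g (s (d g v)) = d g v := by
  by_cases hg : N ≤ g
  · haveI := hN (g + 1) (by omega)
    exact ⟨0, fun v => Subsingleton.elim _ _⟩
  · obtain ⟨h, hh⟩ := exists_homotopy hdd (fun i => LinearMap.id) (fun i v => rfl) (N := N) (i₀ := g + 1)
      (fun i h _ => hex i h) (fun v => hex N (by omega) v (by haveI := hN (N + 1) (by omega); exact Subsingleton.elim _ _))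
      (g + 1) le_rfl (by omega)
    obtain ⟨s, hs⟩ := exists_lift_range g (LinearMap.id - h ∘ₗ d (g + 1)) hh
    exact ⟨s, fun v => by rw [hs, LinearMap.sub_apply, LinearMap.comp_apply, hdd, map_zero, sub_zero]; rfl⟩

/-- Endomorphisms of the top homology lift. -/
theorem exists_lift_endo {g : ℕ} (hbd : ∀ i, g < i → Subsingleton (M i))
    (hex : ∀ i, i < g → ∀ v, d i v = 0 → v ∈ bdry M d i)
    (u : M g →ₗ[R] M g) (hu : ∀ v ∈ bdry M d g, u v ∈ bdry M d g) :
    ∃ W : ∀ i, M i →ₗ[R] M i, W g = u ∧ ∀ i v, W (i + 1) (d i v) = d i (W i v) := by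
  classical
  suffices key : ∀ i, i ≤ g → ∃ W : ∀ i, M i →ₗ[R] M i, W g = u ∧ ∀ j, i ≤ j → ∀ v, W (j + 1) (d j v) = d j (W j v) by
    obtain ⟨W, h1, h2⟩ := key 0 (Nat.zero_le _)
    exact ⟨W, h1, fun i v => h2 i (Nat.zero_le _) v⟩
  intro i hig
  induction hig using Nat.decreasingInduction with
  | self =>
    refine ⟨Function.update (fun _ => 0) g u, Function.update_self .., fun j hj v => ?_⟩
    haveI := hbd (j + 1) (by omega)
    exact Subsingleton.elim _ _
  | of_succ i hig ih =>
    obtain ⟨W, h1, h2⟩ := ih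
    obtain ⟨w, hw⟩ := exists_lift_range i (W (i + 1) ∘ₗ d i) fun v => by
      rw [LinearMap.comp_apply]
      rcases Nat.eq_or_lt_of_le (show i + 1 ≤ g from hig) with h | h
      · subst h
        rw [h1]
        exact hu _ ⟨v, rfl⟩
      · exact hex (i + 1) h _ (by rw [← h2 (i + 1) le_rfl, hdd, map_zero])
    refine ⟨Function.update W i w, by rw [Function.update_of_ne (by omega), h1], fun j hj v => ?_⟩
    rcases Nat.eq_or_lt_of_le hj with rfl | hj
    · rw [Function.update_of_ne (by omega), Function.update_self, hw]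
      rfl
    · rw [Function.update_of_ne (by omega), Function.update_of_ne (by omega)]
      exact h2 j hj v

variable {g : ℕ} (hbd : ∀ i, g < i → Subsingleton (M i)) (hex : ∀ i, i < g → ∀ v, d i v = 0 → v ∈ bdry M d i)

include hbd hex

omit hbd in
/-- An endomorphism killing the top homology kills the homology of the dual complex. -/
theorem dual_boundary_of_top (W : ∀ i, M i →ₗ[R] M i) (hW : ∀ i v, W (i + 1) (d i v) = d i (W i v))
    (htop : ∀ v, W g v ∈ bdry M d g) (i : ℕ) (hi : i ≤ g) (q : M i →ₗ[R] R) (hq : ∀ v ∈ bdry M d i, q v = 0) :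
    ∃ q' : M (i + 1) →ₗ[R] R, q ∘ₗ W i = q' ∘ₗ d i := by
  obtain ⟨h, hh⟩ := exists_homotopy hdd W hW (i₀ := 0) (fun j _ hj => hex j hj) htop i (Nat.zero_le _) hi
  exact ⟨q ∘ₗ h, LinearMap.ext fun v => sub_eq_zero.1 ((map_sub q _ _).symm.trans (hq _ (hh v)))⟩

/-- The dual complex is exact in positive degrees. -/
theorem dual_exact [∀ i, Module.Finite R (M i)] (rs : List R) (hrs : IsWeaklyRegular R rs) (hlen : g ≤ rs.length)
    (htor : ∀ x ∈ rs, ∃ n : ℕ, ∀ v, x ^ n • v ∈ bdry M d g) :
    ∀ (i : ℕ), i < g → ∀ q : M (i + 1) →ₗ[R] R, q ∘ₗ d i = 0 →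
      ∃ q' : M (i + 2) →ₗ[R] R, q = q' ∘ₗ d (i + 1) := by
  intro i hi q hq
  let D : ℕ → Type u := fun n => Module.Dual R (M (g - n))
  let δ : ∀ n, D n →ₗ[R] D (n + 1) := fun n => (dd d (g - (n + 1)) (g - n)).dualMap
  -- boundaries of the dual complex, read in the original one
  have hcast : ∀ (n c : ℕ), c + 1 ≤ g → c + 1 = g - n → ∀ z : M (c + 1) →ₗ[R] R, ∀ zn : D n, HEq zn z →
      zn ∈ bdry D δ n → ∃ q' : M (c + 2) →ₗ[R] R, z = q' ∘ₗ d (c + 1) := by
    intro n c hc hn z zn hz hb
    rcases n with _ | m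
    · refine ⟨0, ?_⟩
      obtain rfl : g = c + 1 := by omega
      obtain rfl := (Submodule.mem_bot R).1 hb
      rw [← eq_of_heq hz, LinearMap.zero_comp]
    · obtain ⟨w, rfl⟩ := hb
      have h2 : g - m = c + 2 := by omega
      have h1 : g - (m + 1) = c + 1 := by omega
      have key : ∀ (a b : ℕ) (w : M b →ₗ[R] R), b = c + 2 → a = c + 1 → HEq ((dd d a b).dualMap w) z →
          ∃ q' : M (c + 2) →ₗ[R] R, z = q' ∘ₗ d (c + 1) := by
        rintro _ _ w rfl rfl hz
        exact ⟨w, by rw [← eq_of_heq hz, LinearMap.dualMap_def, dd_succ]; rfl⟩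
      exact key _ _ w h2 h1 hz
  let n := g - (i + 1)
  have hn : g - n = i + 1 := by omega
  have hn' : g - (n + 1) = i := by omega
  have main : ∀ (n : ℕ) (z : D n), n < g → δ n z = 0 → z ∈ bdry D δ n := by
    haveI : ∀ j, Module.Projective R (Module.Dual R (M j)) := fun j => inferInstance
    have hl : (rs.take g).length = g := by rw [List.length_take]; omega
    have hrs' : IsWeaklyRegular R (rs.take g) := by
      rw [← List.take_append_drop g rs, isWeaklyRegular_append_iff] at hrs
      exact hrs.1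
    refine fun n z hng hz => exact_of_torsion_le (rs.take g) D δ ?_ ?_ ?_ n (by omega) z hz
    · intro n z
      refine LinearMap.ext fun v => ?_
      change z (dd d (g - (n + 1)) (g - n) (dd d (g - (n + 1 + 1)) (g - (n + 1)) v)) = 0
      by_cases h : n + 1 + 1 ≤ g
      · have key : ∀ (a b c : ℕ) (v : M a) (z : M c →ₗ[R] R), b = a + 1 → c = b + 1 → z (dd d b c (dd d a b v)) = 0 := by
          rintro a _ _ v z rfl rfl
          rw [dd_succ, dd_succ, hdd, map_zero]
        exact key _ _ _ v z (by omega) (by omega)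
      · have : dd d (g - (n + 1 + 1)) (g - (n + 1)) = 0 := dif_neg (by omega)
        rw [this, LinearMap.zero_apply, map_zero, map_zero]
    · exact fun n => isWeaklyRegular_of_flat hrs' _
    · intro x hx n hn z hz
      rw [hl] at hn
      obtain ⟨N, hN⟩ := htor x (List.mem_of_mem_take hx)
      refine ⟨N, ?_⟩
      have hWc : ∀ j (v : M j), (x ^ N • LinearMap.id : M (j + 1) →ₗ[R] M (j + 1)) (d j v) =
          d j ((x ^ N • LinearMap.id : M j →ₗ[R] M j) v) := fun j v => by
        simp only [LinearMap.smul_apply, LinearMap.id_apply, map_smul]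
      rcases n with _ | m
      · -- top degree
        refine (Submodule.mem_bot R).2 (LinearMap.ext fun v => ?_)
        have hb := hN v
        obtain ⟨q', hq'⟩ := dual_boundary_of_top hdd hex (fun j => (x ^ N • LinearMap.id : M j →ₗ[R] M j)) hWc
          hN g le_rfl z (fun w hw => by
            rcases Nat.eq_zero_or_pos g with hg | hg
            · have : w = 0 := by
                subst hg
                exact (Submodule.mem_bot R).1 hw
              rw [this, map_zero]
            · obtain ⟨c, rfl⟩ : ∃ c, g = c + 1 := ⟨g - 1, by omega⟩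
              obtain ⟨y, rfl⟩ := hw
              have key : ∀ (a : ℕ), a = c → ∀ y : M c, (dd d a (c + 1)).dualMap z = 0 → z (d c y) = 0 := by
                rintro a rfl y h
                have := LinearMap.congr_fun h y
                rwa [LinearMap.dualMap_apply, dd_succ] at this
              exact key (c + 1 - (0 + 1)) (by omega) y hz)
        haveI := hbd (g + 1) (by omega)
        have := LinearMap.congr_fun hq' v
        simp only [LinearMap.comp_apply, LinearMap.smul_apply, LinearMap.id_apply, map_smul] at this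
        rw [Subsingleton.elim (d g v) 0, map_zero] at this
        rw [LinearMap.zero_apply, LinearMap.smul_apply]
        exact this
      · have key : ∀ (a b c : ℕ) (z : M b →ₗ[R] R), c = b + 1 → b = g - (m + 1) →
            (b = 0 ∨ b = a + 1) → (dd d a b).dualMap z = 0 →
            ∃ w : M c →ₗ[R] R, x ^ N • z = (dd d b c).dualMap w := by
          rintro a b _ z rfl hb hab hz
          obtain ⟨q', hq'⟩ := dual_boundary_of_top hdd hex (fun j => (x ^ N • LinearMap.id : M j →ₗ[R] M j)) hWc
            hN b (by omega) z (fun w hw => by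
              rcases hab with rfl | rfl
              · rw [(Submodule.mem_bot R).1 hw, map_zero]
              · obtain ⟨y, rfl⟩ := hw
                have := LinearMap.congr_fun hz y
                rwa [LinearMap.dualMap_apply, dd_succ] at this)
          refine ⟨q', LinearMap.ext fun v => ?_⟩
          have := LinearMap.congr_fun hq' v
          simp only [LinearMap.comp_apply, LinearMap.smul_apply, LinearMap.id_apply, map_smul] at this
          rw [LinearMap.dualMap_apply, dd_succ, LinearMap.smul_apply]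
          exact this
        obtain ⟨w, hw⟩ := key (g - (m + 1 + 1)) (g - (m + 1)) (g - m) z (by omega) rfl (by omega) hz
        exact ⟨w, hw.symm⟩
  obtain ⟨zn, hzn⟩ : ∃ zn : D n, HEq zn q := by
    have key : ∀ b, b = i + 1 → ∃ zb : Module.Dual R (M b), HEq zb q := by
      rintro _ rfl
      exact ⟨q, HEq.rfl⟩
    exact key _ hn
  have hz : δ n zn = 0 := by
    have key : ∀ (a b : ℕ) (zb : M b →ₗ[R] R), a = i → b = i + 1 → HEq zb q → (dd d a b).dualMap zb = 0 := by
      rintro _ _ zb rfl rfl h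
      rw [eq_of_heq h, LinearMap.dualMap_def, dd_succ]
      exact hq
    exact key _ _ _ hn' hn hzn
  exact hcast n i (by omega) hn.symm q _ hzn (main n _ (by omega) hz)

/-- An endomorphism killing the bottom homology of the dual complex kills the top homology. -/
theorem top_of_dual [∀ i, Module.Finite R (M i)] (rs : List R) (hrs : IsWeaklyRegular R rs) (hlen : g ≤ rs.length)
    (htor : ∀ x ∈ rs, ∃ n : ℕ, ∀ v, x ^ n • v ∈ bdry M d g)
    (W : ∀ i, M i →ₗ[R] M i) (hW : ∀ i v, W (i + 1) (d i v) = d i (W i v))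
    (hbot : ∀ q : M 0 →ₗ[R] R, ∃ q' : M 1 →ₗ[R] R, q ∘ₗ W 0 = q' ∘ₗ d 0) (v : M g) :
    W g v ∈ bdry M d g := by
  have hex' := dual_exact hdd hbd hex rs hrs hlen htor
  -- lifting along the dual differentials
  have lift : ∀ (i : ℕ) (f : Module.Dual R (M i) →ₗ[R] Module.Dual R (M i)),
      (∀ q, ∃ q' : M (i + 1) →ₗ[R] R, f q = q' ∘ₗ d i) →
      ∃ h : Module.Dual R (M i) →ₗ[R] Module.Dual R (M (i + 1)), ∀ q, (h q) ∘ₗ d i = f q := by
    intro i f hf
    obtain ⟨h, hh⟩ := Module.projective_lifting_property (d i).dualMap.rangeRestrict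
      (f.codRestrict _ fun q => by obtain ⟨q', hq'⟩ := hf q; exact ⟨q', hq'.symm⟩) (LinearMap.surjective_rangeRestrict _)
    exact ⟨h, fun q => congrArg Subtype.val (LinearMap.congr_fun hh q)⟩
  have key : ∀ i, i < g → ∃ h : Module.Dual R (M i) →ₗ[R] Module.Dual R (M (i + 1)),
      ∀ q : M (i + 1) →ₗ[R] R, ∃ q'' : M (i + 2) →ₗ[R] R, q ∘ₗ W (i + 1) - h (q ∘ₗ d i) = q'' ∘ₗ d (i + 1) := by
    intro i hi
    induction i with
    | zero =>
      obtain ⟨h, hh⟩ := lift 0 (W 0).dualMap hbot
      refine ⟨h, fun q => hex' 0 hi _ (LinearMap.ext fun v => ?_)⟩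
      have := LinearMap.congr_fun (hh (q ∘ₗ d 0)) v
      simp only [LinearMap.dualMap_apply, LinearMap.comp_apply] at this
      simp only [LinearMap.comp_apply, LinearMap.sub_apply, LinearMap.zero_apply, hW, this, sub_self]
    | succ i ih =>
      obtain ⟨h₀, hh₀⟩ := ih (by omega)
      obtain ⟨h, hh⟩ := lift (i + 1) ((W (i + 1)).dualMap - h₀ ∘ₗ (d i).dualMap) fun q => hh₀ q
      refine ⟨h, fun q => hex' (i + 1) hi _ (LinearMap.ext fun v => ?_)⟩
      have := LinearMap.congr_fun (hh (q ∘ₗ d (i + 1))) v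
      have e0 : (d i).dualMap (q ∘ₗ d (i + 1)) = 0 := LinearMap.ext fun w => by
        simp only [LinearMap.dualMap_apply, LinearMap.comp_apply, hdd, map_zero, LinearMap.zero_apply]
      simp only [LinearMap.sub_apply, LinearMap.comp_apply, e0, map_zero, LinearMap.zero_apply, sub_zero,
        LinearMap.dualMap_apply] at this
      simp only [LinearMap.comp_apply, LinearMap.sub_apply, LinearMap.zero_apply, hW, this, sub_self]
  rcases g with _ | m
  · refine (Submodule.mem_bot R).2 ((Module.forall_dual_apply_eq_zero_iff R _).1 fun q => ?_)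
    obtain ⟨q', hq'⟩ := hbot q
    haveI := hbd 1 (by omega)
    have := LinearMap.congr_fun hq' v
    rw [LinearMap.comp_apply, LinearMap.comp_apply, Subsingleton.elim (d 0 v) 0, map_zero] at this
    exact this
  · obtain ⟨h, hh⟩ := key m (Nat.lt_succ_self m)
    have hh' : ∀ q : M (m + 1) →ₗ[R] R, q (W (m + 1) v) = h (q ∘ₗ d m) v := fun q => by
      obtain ⟨q'', hq''⟩ := hh q
      haveI := hbd (m + 2) (by omega)
      have := LinearMap.congr_fun hq'' v
      rw [LinearMap.comp_apply q'', Subsingleton.elim (d (m + 1) v) 0, map_zero, LinearMap.sub_apply,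
        LinearMap.comp_apply, sub_eq_zero] at this
      exact this
    obtain ⟨y, hy⟩ := (Module.bijective_dual_eval R (M m)).2 (LinearMap.flip h v)
    refine ⟨y, sub_eq_zero.1 ((Module.forall_dual_apply_eq_zero_iff R _).1 fun q => ?_)⟩
    have e := LinearMap.congr_fun hy (q ∘ₗ d m)
    rw [Module.Dual.eval_apply, LinearMap.comp_apply, LinearMap.flip_apply, ← hh' q] at e
    rw [map_sub, e, sub_self]

/-- A cyclic bottom homology of the dual complex controls the top homology. -/
theorem top_cyclic [∀ i, Module.Finite R (M i)] (rs : List R) (hrs : IsWeaklyRegular R rs) (hlen : g ≤ rs.length)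
    (htor : ∀ x ∈ rs, ∃ n : ℕ, ∀ v, x ^ n • v ∈ bdry M d g) (b : M 0 →ₗ[R] R)
    (hb : ∀ q : M 0 →ₗ[R] R, ∃ (a : R) (q' : M 1 →ₗ[R] R), q = a • b + q' ∘ₗ d 0) :
    (∀ a : R, (∀ q : M 0 →ₗ[R] R, ∃ q' : M 1 →ₗ[R] R, a • q = q' ∘ₗ d 0) → ∀ v, a • v ∈ bdry M d g) ∧
    ∀ u v : M g →ₗ[R] M g, (∀ x ∈ bdry M d g, u x ∈ bdry M d g) → (∀ x ∈ bdry M d g, v x ∈ bdry M d g) →
      ∀ x, u (v x) - v (u x) ∈ bdry M d g := by
  refine ⟨fun a ha v => ?_, fun u v hu hv x => ?_⟩
  · refine top_of_dual hdd hbd hex rs hrs hlen htor (fun i => (a • LinearMap.id : M i →ₗ[R] M i))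
      (fun i w => by simp) (fun q => ?_) v
    obtain ⟨q', hq'⟩ := ha q
    exact ⟨q', by rw [LinearMap.comp_smul, LinearMap.comp_id, hq']⟩
  · obtain ⟨U, hUg, hU⟩ := exists_lift_endo hdd hbd hex u hu
    obtain ⟨V, hVg, hV⟩ := exists_lift_endo hdd hbd hex v hv
    have scal : ∀ (U : ∀ i, M i →ₗ[R] M i), (∀ i w, U (i + 1) (d i w) = d i (U i w)) →
        ∃ a : R, ∀ q : M 0 →ₗ[R] R, ∃ q' : M 1 →ₗ[R] R, q ∘ₗ U 0 = a • q + q' ∘ₗ d 0 := by
      intro U hU
      obtain ⟨a, p, hp⟩ := hb (b ∘ₗ U 0)
      refine ⟨a, fun q => ?_⟩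
      obtain ⟨c, q', rfl⟩ := hb q
      refine ⟨c • p + q' ∘ₗ U 1 - a • q', LinearMap.ext fun w => ?_⟩
      have := LinearMap.congr_fun hp w
      simp only [LinearMap.comp_apply, LinearMap.add_apply, LinearMap.smul_apply, LinearMap.sub_apply, smul_eq_mul]
        at this ⊢
      rw [this, hU]
      ring
    obtain ⟨a, ha⟩ := scal U hU
    obtain ⟨a', ha'⟩ := scal V hV
    have := top_of_dual hdd hbd hex rs hrs hlen htor (fun i => U i ∘ₗ V i - V i ∘ₗ U i)
      (fun i w => by simp only [LinearMap.sub_apply, LinearMap.comp_apply, hV, hU, map_sub]) (fun q => ?_) x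
    · simpa only [LinearMap.sub_apply, LinearMap.comp_apply, hUg, hVg] using this
    · obtain ⟨p, hp⟩ := ha q
      obtain ⟨p', hp'⟩ := ha' q
      refine ⟨a • p' + p ∘ₗ V 1 - (a' • p + p' ∘ₗ U 1), LinearMap.ext fun w => ?_⟩
      have e1 := LinearMap.congr_fun hp (V 0 w)
      have e2 := LinearMap.congr_fun hp' w
      have e3 := LinearMap.congr_fun hp' (U 0 w)
      have e4 := LinearMap.congr_fun hp w
      simp only [LinearMap.comp_apply, LinearMap.add_apply, LinearMap.smul_apply, LinearMap.sub_apply, smul_eq_mul,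
        map_sub, ← hU, ← hV] at e1 e2 e3 e4 ⊢
      rw [e1, e2, e3, e4]
      ring

end Down

/-- A module with commuting endomorphisms which is free over a quotient ring is cyclic. -/
theorem nonempty_equiv_of_comm {T : Type u} [AddCommGroup T] [Module R T] [Nontrivial T] {C : Type u} [CommRing C]
    [Algebra R C] (hC : Function.Surjective (algebraMap R C))
    (hkill : ∀ a : R, algebraMap R C a = 0 → ∀ x : T, a • x = 0)
    (hcomm : ∀ u v : T →ₗ[R] T, ∀ x, u (v x) = v (u x))
    {r : ℕ} (e : TensorProduct R C T ≃ₗ[C] (Fin r → C)) : Nonempty (T ≃ₗ[R] C) := by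
  let f : R →ₗ[R] C := Algebra.linearMap R C
  let ρ : C →ₗ[R] (T →ₗ[R] T) :=
    ((LinearMap.ker f).liftQ (LinearMap.lsmul R T) fun a ha => LinearMap.ext fun x => hkill a ha x) ∘ₗ
      (f.quotKerEquivOfSurjective hC).symm.toLinearMap
  have hρ : ∀ (a : R) (x : T), ρ (algebraMap R C a) x = a • x := fun a x => by
    have h : (f.quotKerEquivOfSurjective hC).symm (algebraMap R C a) = Submodule.Quotient.mk a := by
      rw [LinearEquiv.symm_apply_eq]; rfl
    simp only [ρ, LinearMap.comp_apply, LinearEquiv.coe_coe, h]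
    rfl
  let ψ : T ≃ₗ[R] TensorProduct R C T := LinearEquiv.ofLinear (TensorProduct.mk R C T 1) (TensorProduct.lift ρ)
    (TensorProduct.ext' fun c x => by
      obtain ⟨a, rfl⟩ := hC c
      rw [LinearMap.comp_apply, TensorProduct.lift.tmul, hρ, TensorProduct.mk_apply, TensorProduct.tmul_smul,
        TensorProduct.smul_tmul', Algebra.smul_def, mul_one]
      rfl)
    (LinearMap.ext fun x => by
      rw [LinearMap.comp_apply, TensorProduct.mk_apply, TensorProduct.lift.tmul, ← map_one (algebraMap R C), hρ,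
        one_smul]
      rfl)
  let E : T ≃ₗ[R] (Fin r → C) := ψ.trans (e.restrictScalars R)
  haveI : Nontrivial C := by
    by_contra h
    haveI := not_nontrivial_iff_subsingleton.1 h
    exact (not_subsingleton_iff_nontrivial.2 ‹Nontrivial T›) E.injective.subsingleton
  match r, E with
  | 0, E => exact absurd E.injective.subsingleton (not_subsingleton_iff_nontrivial.2 ‹Nontrivial T›)
  | 1, E => exact ⟨E.trans (LinearEquiv.funUnique (Fin 1) R C)⟩
  | n + 2, E =>
    exfalso
    let mk : Fin (n + 2) → Fin (n + 2) → (T →ₗ[R] T) := fun i j =>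
      E.symm.toLinearMap ∘ₗ LinearMap.single R (fun _ => C) i ∘ₗ LinearMap.proj j ∘ₗ E.toLinearMap
    have h := congrArg E (hcomm (mk 0 1) (mk 1 0) (E.symm (Pi.single 0 1)))
    simp only [mk, LinearMap.comp_apply, LinearEquiv.coe_coe, LinearEquiv.apply_symm_apply, LinearMap.proj_apply,
      LinearMap.coe_single] at h
    have h0 := congrFun h 0
    simp at h0

end AVIndexLib
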