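import Groth.Agent.AVIndexLib.Vanish
import Groth.Agent.AVIndexLib.Corner
import Groth.Agent.AVVanishLib.PhiSurj
import Groth.Agent.AVAmpleLib.Exist
import Groth.Agent.CommAlgDim.CM
import Groth.Agent.FibDimLib.Comps
import Groth.Agent.S1535
import Groth.Agent.AVRRLib.Isogeny

/-!
The index theorem for non-degenerate invertible modules on an abelian variety.
-/

set_option autoImplicit false
set_option maxHeartbeats 1000000
set_option maxRecDepth 8000
set_option backward.isDefEq.respectTransparency false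
set_option linter.style.haveILetI false

noncomputable section

universe u

open CategoryTheory CategoryTheory.Limits MonoidalCategory CartesianMonoidalCategory MonObj AlgebraicGeometry
open TopologicalSpace
open CubeConsLib AVVanishLib

namespace AVIndexLib

section Free

variable {X : Scheme.{u}}

theorem subsingleton_HH_biprod {M N : X.Modules} (p : ℕ) (hM : Subsingleton (Coh.HH X M p))
    (hN : Subsingleton (Coh.HH X N p)) : Subsingleton (Coh.HH X (M ⊞ N) p) := by
  refine subsingleton_of_forall_eq 0 fun x => ?_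
  let T := QCohLib.toAbF X
  have e : T.map (biprod.fst : M ⊞ N ⟶ M) ≫ T.map biprod.inl + T.map (biprod.snd : M ⊞ N ⟶ N) ≫ T.map biprod.inr =
      𝟙 (T.obj (M ⊞ N)) := by
    rw [← Functor.map_comp, ← Functor.map_comp, ← Functor.map_add, biprod.total, T.map_id]
  have hx : Sheaf.H.map (𝟙 (T.obj (M ⊞ N))) p x = x := Sheaf.H.map_id_apply x
  rw [← e] at hx
  rw [← hx]
  show Abelian.Ext.comp x (Abelian.Ext.mk₀ _) (add_zero p) = 0
  rw [Abelian.Ext.mk₀_add, Abelian.Ext.comp_add]
  have h1 : Sheaf.H.map (T.map (biprod.fst : M ⊞ N ⟶ M) ≫ T.map (biprod.inl : M ⟶ M ⊞ N)) p x = 0 := by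
    rw [Sheaf.H.map_comp_apply]
    exact (congrArg _ (@Subsingleton.elim _ hM _ 0)).trans (map_zero _)
  have h2 : Sheaf.H.map (T.map (biprod.snd : M ⊞ N ⟶ N) ≫ T.map (biprod.inr : N ⟶ M ⊞ N)) p x = 0 := by
    rw [Sheaf.H.map_comp_apply]
    exact (congrArg _ (@Subsingleton.elim _ hN _ 0)).trans (map_zero _)
  exact (congrArg₂ (· + ·) h1 h2).trans (add_zero 0)

theorem subsingleton_HH_biprod_fst {M N : X.Modules} (p : ℕ) (h : Subsingleton (Coh.HH X (M ⊞ N) p)) :
    Subsingleton (Coh.HH X M p) := by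
  refine subsingleton_of_forall_eq 0 fun x => ?_
  let T := QCohLib.toAbF X
  have hx : Sheaf.H.map (T.map (biprod.inl : M ⟶ M ⊞ N) ≫ T.map biprod.fst) p x = x := by
    rw [← Functor.map_comp, biprod.inl_fst, T.map_id]
    exact Sheaf.H.map_id_apply x
  rw [← hx, Sheaf.H.map_comp_apply]
  exact (congrArg _ (@Subsingleton.elim _ h _ 0)).trans (map_zero _)

theorem subsingleton_HH_isZero {M : X.Modules} (h : IsZero M) (p : ℕ) : Subsingleton (Coh.HH X M p) :=
  subsingleton_H_of_isZero (Functor.map_isZero (QCohLib.toAbF X) h) p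

theorem isZero_tensor_free_zero (M : X.Modules) : IsZero (CohB1.tensorMod M (FlatMod.freeMod X 0)) :=
  Functor.map_isZero ((DCoh.tensorBi (X := X)).obj M) (by
    rw [IsZero.iff_id_eq_zero]
    exact Sigma.hom_ext _ _ fun i => i.elim0)

theorem subsingleton_HH_tensor_free (M : X.Modules) (p : ℕ) :
    ∀ r : ℕ, Subsingleton (Coh.HH X (CohB1.tensorMod M (FlatMod.freeMod X r)) p) ↔
      (r = 0 ∨ Subsingleton (Coh.HH X M p))
  | 0 => ⟨fun _ => Or.inl rfl, fun _ => subsingleton_HH_isZero (isZero_tensor_free_zero M) p⟩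
  | n + 1 => by
    haveI : Limits.PreservesBinaryBiproduct (Coh.structureModule X) (FlatMod.freeMod X n)
        ((DCoh.tensorBi (X := X)).obj M) :=
      preservesBinaryBiproduct_of_preservesBinaryProduct _
    let e : CohB1.tensorMod M (FlatMod.freeMod X (n + 1)) ≅ M ⊞ CohB1.tensorMod M (FlatMod.freeMod X n) :=
      ((DCoh.tensorBi (X := X)).obj M).mapIso (CurvLib.freeModSucc X n) ≪≫
      (((DCoh.tensorBi (X := X)).obj M).mapBiprod _ _) ≪≫
      biprod.mapIso (KFlatLib.tensSwap (Coh.structureModule X) M) (Iso.refl _) ≪≫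
      biprod.mapIso (KFlatLib.tensUnitIso M) (Iso.refl _)
    constructor
    · exact fun h => Or.inr (subsingleton_HH_biprod_fst p (SerreVanLib.subsingleton_HH_of_iso e.symm p h))
    · rintro (h | h)
      · omega
      · exact SerreVanLib.subsingleton_HH_of_iso e p
          (subsingleton_HH_biprod p h ((subsingleton_HH_tensor_free M p n).2 (Or.inr h)))

end Free

variable {K : Type u} [Field K] {A : Over (Spec (CommRingCat.of K))} [GrpObj A] [IsProper A.hom]
  [GeometricallyIntegral A.hom]

/-- Regular sequences of full length at the closed points. -/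
theorem exists_regular_seq {g : ℕ} (hg : topologicalKrullDim A.left = (g : ℕ)) (z : A.left)
    (hz : IsClosed ({z} : Set A.left)) :
    ∃ rs : List (A.left.presheaf.stalk z), RingTheory.Sequence.IsWeaklyRegular (A.left.presheaf.stalk z) rs ∧
      g ≤ rs.length ∧ ∀ x ∈ rs, x ∈ IsLocalRing.maximalIdeal (A.left.presheaf.stalk z) := by
  letI : A.left.Over (Spec (CommRingCat.of K)) := ⟨A.hom⟩
  haveI : Smooth A.hom := AVAmpleLib.smooth_hom A
  haveI : Smooth (A.left ↘ Spec (CommRingCat.of K)) := ‹Smooth A.hom›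
  haveI : IsIntegral A.left := GeometricallyIntegral.isIntegral_of_subsingleton A.hom
  haveI := Groth.Agent.S1535.result K A.left z
  letI := Ideal.Quotient.field (IsLocalRing.maximalIdeal (A.left.presheaf.stalk z))
  obtain ⟨rs, hrs, hm⟩ := CommAlgDim.exists_isRegular_of_regular_quotient
    (J := IsLocalRing.maximalIdeal (A.left.presheaf.stalk z))
  refine ⟨rs, hrs.toIsWeaklyRegular, le_of_eq ?_, fun x hx => hm ▸ Ideal.subset_span hx⟩
  have h1 := ringKrullDim_add_length_eq_ringKrullDim_of_isRegular rs hrs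
  rw [ringKrullDim_eq_of_ringEquiv (Ideal.quotEquivOfEq hm), ringKrullDim_eq_zero_of_field, zero_add,
    ← FibDimLib.localDim_eq_stalk_of_isClosed A.hom hz,
    FibDimLib.localDim_of_irreducible A.hom z, hg] at h1
  exact_mod_cast h1.symm

variable [IsAlgClosed K] {L : A.left.Modules} (hL : PicF.IsInvertible L)

local notation "Pt" => 𝟙_ (Over (Spec (CommRingCat.of K))) ⟶ A
local notation "τ" a:max => AVAmpleLib.tR a

include hL in
/-- The Mumford family has cohomology in exactly the middle degree. -/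
theorem exists_mumford_family {g : ℕ} (hg : topologicalKrullDim A.left = (g : ℕ))
    (hnd : Set.Finite {a : Pt | P hL (τ a) = clA hL}) :
    ∃ (F : (A ⊗ A).left.Modules) (hF : PicF.IsInvertible F),
      clA hF = P hL (fst A A * snd A A) - P hL (snd A A) ∧
      (∀ n, n ≠ g → Subsingleton (Coh.HH (A ⊗ A).left F n)) ∧
      ¬ Subsingleton (Coh.HH (A ⊗ A).left F g) := by
  haveI := isCommMonObj_field (A := A)
  haveI : LocallyOfFinitePresentation A.hom := LocallyOfFinitePresentation.iff_locallyOfFiniteType.2 inferInstance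
  haveI : Flat A.hom := inferInstance
  haveI : IsLocallyNoetherian A.left := LocallyOfFiniteType.isLocallyNoetherian A.hom
  haveI : CompactSpace A.left := QuasiCompact.compactSpace_of_compactSpace A.hom
  haveI : IsNoetherian A.left := {}
  haveI : JacobsonSpace A.left := LocallyOfFiniteType.jacobsonSpace A.hom
  letI : A.left.Over (Spec (CommRingCat.of K)) := ⟨A.hom⟩
  haveI : IsProper (A.left ↘ Spec (CommRingCat.of K)) := ‹IsProper A.hom›
  let p := (fst A A).left
  let q := (snd A A).left
  have hsq : IsPullback p q A.hom A.hom := IsPullback.of_hasPullback A.hom A.hom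
  haveI : IsProper p := MorphismProperty.of_isPullback hsq.flip ‹_›
  haveI : Flat p := MorphismProperty.of_isPullback hsq.flip ‹_›
  haveI : LocallyOfFinitePresentation p := MorphismProperty.of_isPullback hsq.flip ‹_›
  haveI : IsLocallyNoetherian (A ⊗ A).left := LocallyOfFiniteType.isLocallyNoetherian p
  have hμ := AmpleDevLib.isInvertible_pb (fst A A * snd A A).left hL
  have h₂ := AmpleDevLib.isInvertible_pb (snd A A).left hL
  obtain ⟨F, hF, cF⟩ : ∃ (F : (A ⊗ A).left.Modules) (hF : PicF.IsInvertible F),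
      clA hF = P hL (fst A A * snd A A) - P hL (snd A A) :=
    ⟨_, HilbPolyLib.isInvertible_tensor hμ (MiscFlat6.dual_isInvertible h₂), by
      rw [clA_tensor hμ (MiscFlat6.dual_isInvertible h₂), clA_dual h₂, P_eq hL, P_eq hL, sub_eq_add_neg]⟩
  refine ⟨F, hF, cF, ?_⟩
  obtain ⟨hq', hfp, hfl⟩ := CohCmpLib.rank_one_hyps p ((CohCmpLib.invertible_iff_rank_one F).1 hF)
  haveI := hq'
  have hjp : ∀ a : Pt, pullA (jp a).left (clA hF) = P hL (τ a) - clA hL := fun a => by
    rw [cF, map_sub, pullA_P, pullA_P, MonObj.comp_mul, lift_fst, lift_snd, P_id, _root_.mul_comm]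
  let Z : Set A.left := {y | ∃ hy : IsClosed ({y} : Set A.left), P hL (τ (ptOf y hy)) = clA hL}
  have hZc : ∀ y ∈ Z, IsClosed ({y} : Set A.left) := fun y hy => hy.1
  have hZ : Z.Finite := (hnd.image fun a : Pt => AVAmpleLib.pt a).subset fun y ⟨hy, h⟩ =>
    ⟨ptOf y hy, h, pointOfClosedPoint_apply A.hom y hy _⟩
  have hZcl : IsClosed Z := by
    have e : Z = ⋃ y ∈ Z, ({y} : Set A.left) := by simp
    rw [e]; exact hZ.isClosed_biUnion fun y hy => hZc y hy
  have hout : ∀ y i, (y ∉ Z ∨ g < i) → Subsingleton (CohIII.fiberH p F y i) := by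
    intro y i hyi
    let C : Set A.left := {s | Subsingleton (CohIII.fiberH p F s i)}ᶜ
    have hC : IsClosed C := (CohCmpLib.isOpen_fibre_vanishing hfp hfl i).isClosed_compl
    by_contra hs
    rcases hyi with hyZ | hi
    · obtain ⟨z, ⟨hzC, hzZ⟩, hz⟩ := nonempty_inter_closedPoints (Z := C ∩ Zᶜ) ⟨y, hs, hyZ⟩
        (hC.isLocallyClosed.inter hZcl.isOpen_compl.isLocallyClosed)
      refine hzC ((subsingleton_fiberH_fst_iff F z hz i).2 ?_)
      let a := ptOf z hz
      have hpa := AmpleDevLib.isInvertible_pb (jp a).left hF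
      have ec : clA hpa = P hL (τ a) - clA hL := by rw [← pullA_clA _ hF, hjp]
      refine AVVanishLib.subsingleton_HH (hM := hpa) (isAdditive_phi a ec) (fun ⟨e⟩ => hzZ ⟨hz, ?_⟩) i
      have e' := (clA_eq_iff hpa (isInvertible_one _)).2 ⟨e⟩
      rwa [clA_one, ← pullA_clA _ hF, hjp, sub_eq_zero] at e'
    · obtain ⟨z, hzC, hz⟩ := nonempty_inter_closedPoints (Z := C) ⟨y, hs⟩ hC.isLocallyClosed
      refine hzC ((subsingleton_fiberH_fst_iff F z hz i).2 ?_)
      exact CurvLib.subsingleton_HH_of_dim_le _ hg.le i hi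
  haveI : HasInjectiveResolutions (A ⊗ A).left.Modules := inferInstance
  have hsupp : ∀ i, CohB1.support ((Coh.Rpush p i).obj F) ⊆ Z := fun i =>
    support_subset_of_isZero_nhds _ fun x hx =>
      CohCmpLib.exists_vanishing_nhd_at hfp hfl i x (hout x i (Or.inl hx))
  have hFc : Coh.IsCoh F := CurvLib.isCoh_of_isInvertible hF
  have hzero : ∀ i, i ≠ g → IsZero ((Coh.Rpush p i).obj F) := fun i hi => by
    rcases lt_or_gt_of_ne hi with hi | hi
    · exact isZero_rpush_of_finite_support hFc hfp hfl hZ hZc hsupp g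
        (fun z hz => exists_regular_seq hg z (hZc z hz)) i hi
    · exact CohCmpLib.isZero_rpush_of_fibre hfp hfl i fun s => hout s i (Or.inr hi)
  have htot : ∀ n, n ≠ g → Subsingleton (Coh.HH (A ⊗ A).left F n) := fun n hn =>
    subsingleton_HH_antidiagonal p F n fun a b hab => by
      rcases Nat.eq_zero_or_pos a with ha | ha
      · exact subsingleton_HH_isZero (hzero b (by omega)) a
      · exact CurvLib.subsingleton_HH_of_support _ hZcl (hsupp b) (d := 0)
          (by exact_mod_cast topologicalKrullDim_le_zero_of_finite hZ hZc) a ha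
  refine ⟨htot, fun hgs => ?_⟩
  let o : A.left := AVAmpleLib.pt (1 : Pt)
  have ho : IsClosed ({o} : Set A.left) :=
    ((pointEquivClosedPoint A.hom) ⟨(1 : Pt).left, Over.w _⟩).2
  have hone : ptOf o ho = (1 : Pt) := Over.OverMorphism.ext (ext_of_apply_closedPoint_eq A.hom
    (pointOfClosedPoint_comp _ _ _) (Over.w (1 : Pt)) (pointOfClosedPoint_apply A.hom o ho _))
  have hfib := (subsingleton_fiberH_fst_iff F o ho 0).1
    (subsingleton_fiberH_of_finite hfp hfl hZ hZc (fun s hs i => hout s i (Or.inl hs))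
      (fun n => if hn : n = g then hn ▸ hgs else htot n hn) o 0)
  have hpo := AmpleDevLib.isInvertible_pb (jp (ptOf o ho)).left hF
  obtain ⟨e⟩ : Nonempty (Coh.structureModule A.left ≅ (Scheme.Modules.pullback (jp (ptOf o ho)).left).obj F) := by
    rw [← clA_eq_iff (isInvertible_one _) hpo, clA_one, ← pullA_clA _ hF, hjp, hone]
    rw [AVAmpleLib.tR_one, P_id, sub_self]
  exact not_subsingleton_HH_one (A := A) (SerreVanLib.subsingleton_HH_of_iso e 0 hfib)

omit [IsAlgClosed K] in
/-- Cohomology only depends on a scheme up to an automorphism. -/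
theorem subsingleton_HH_iff_of_iso {X Y : Scheme.{u}} (σ : X ⟶ Y) [IsIso σ] (M : Y.Modules) (n : ℕ) :
    Subsingleton (Coh.HH X ((Scheme.Modules.pullback σ).obj M) n) ↔ Subsingleton (Coh.HH Y M n) := by
  refine ⟨LerayLowLib.subsingleton_HH_of_section σ (inv σ) (IsIso.inv_hom_id σ) M n, fun h => ?_⟩
  refine LerayLowLib.subsingleton_HH_of_section (inv σ) σ (IsIso.hom_inv_id σ) _ n ?_
  exact SerreVanLib.subsingleton_HH_of_iso ((Scheme.Modules.pullbackComp _ _).app M ≪≫
    (Scheme.Modules.pullbackCongr (IsIso.inv_hom_id σ)).app M ≪≫ (Scheme.Modules.pullbackId Y).app M) n h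

include hL in
/-- The corners: cohomological degrees of a non-degenerate class and its inverse add up to the dimension. -/
theorem exists_index {g : ℕ} (hg : topologicalKrullDim A.left = (g : ℕ))
    (hnd : Set.Finite {a : Pt | P hL (τ a) = clA hL}) {N : A.left.Modules} {hN : PicF.IsInvertible N}
    (hNL : clA hN = -clA hL) :
    ∃ i j : ℕ, i + j = g ∧ ¬ Subsingleton (Coh.HH A.left L i) ∧ ¬ Subsingleton (Coh.HH A.left N j) ∧
      (∀ n, n ≠ i → Subsingleton (Coh.HH A.left L n)) ∧ ∀ n, n ≠ j → Subsingleton (Coh.HH A.left N n) := by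
  obtain ⟨F, hF, cF, hvan, hne⟩ := exists_mumford_family hL hg hnd
  haveI := isCommMonObj_field (A := A)
  haveI : LocallyOfFinitePresentation A.hom := LocallyOfFinitePresentation.iff_locallyOfFiniteType.2 inferInstance
  haveI : Flat A.hom := inferInstance
  haveI : IsLocallyNoetherian A.left := LocallyOfFiniteType.isLocallyNoetherian A.hom
  letI : A.left.Over (Spec (CommRingCat.of K)) := ⟨A.hom⟩
  haveI : IsProper (A.left ↘ Spec (CommRingCat.of K)) := ‹IsProper A.hom›
  let p := (fst A A).left
  let q := (snd A A).left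
  have hsq : IsPullback p q A.hom A.hom := IsPullback.of_hasPullback A.hom A.hom
  haveI : IsProper q := MorphismProperty.of_isPullback hsq ‹_›
  haveI : HasInjectiveResolutions (A ⊗ A).left.Modules := inferInstance
  -- the sheared family
  let Lp := (Scheme.Modules.pullback p).obj L
  let Fm := CohB1.tensorMod ((Scheme.Modules.pullback q).obj N) Lp
  let σ : A ⊗ A ⟶ A ⊗ A := lift (fst A A * snd A A) (snd A A)
  let σ' : A ⊗ A ⟶ A ⊗ A := lift (fst A A * (snd A A)⁻¹) (snd A A)
  have hσ : σ ≫ σ' = 𝟙 _ := CartesianMonoidalCategory.hom_ext _ _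
    (by rw [Category.assoc, lift_fst, MonObj.comp_mul, GrpObj.comp_inv, lift_fst, lift_snd, mul_inv_cancel_right,
      Category.id_comp])
    (by rw [Category.assoc, lift_snd, lift_snd, Category.id_comp])
  have hσ' : σ' ≫ σ = 𝟙 _ := CartesianMonoidalCategory.hom_ext _ _
    (by rw [Category.assoc, lift_fst, MonObj.comp_mul, lift_fst, lift_snd, inv_mul_cancel_right,
      Category.id_comp])
    (by rw [Category.assoc, lift_snd, lift_snd, Category.id_comp])
  haveI : IsIso σ := ⟨σ', hσ, hσ'⟩
  haveI : IsIso σ.left := inferInstanceAs (IsIso ((Over.forget _).map σ))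
  have hLp := AmpleDevLib.isInvertible_pb p hL
  have hNq := AmpleDevLib.isInvertible_pb q hN
  obtain ⟨eF⟩ : Nonempty ((Scheme.Modules.pullback σ.left).obj Fm ≅ F) := by
    rw [← clA_eq_iff (AmpleDevLib.isInvertible_pb σ.left (HilbPolyLib.isInvertible_tensor hNq hLp)) hF, cF,
      ← pullA_clA σ.left (HilbPolyLib.isInvertible_tensor hNq hLp), clA_tensor hNq hLp, map_add,
      ← pullA_clA q hN, ← pullA_clA p hL, pullA_comp, pullA_comp, hNL, map_neg,
      ← Over.comp_left, ← Over.comp_left, lift_fst, lift_snd, neg_add_eq_sub]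
    rfl
  have hvan' : ∀ n, n ≠ g → Subsingleton (Coh.HH (A ⊗ A).left Fm n) := fun n hn =>
    (subsingleton_HH_iff_of_iso σ.left Fm n).1 (SerreVanLib.subsingleton_HH_of_iso eF n (hvan n hn))
  have hne' : ¬ Subsingleton (Coh.HH (A ⊗ A).left Fm g) := fun h =>
    hne (SerreVanLib.subsingleton_HH_of_iso eF.symm g ((subsingleton_HH_iff_of_iso σ.left Fm g).2 h))
  -- the second page
  haveI : Coh.IsQCoh L := (CurvLib.isCoh_of_isInvertible hL).1
  have hE : ∀ a b : ℕ, Subsingleton (Coh.HH A.left ((Coh.Rpush q b).obj Fm) a) ↔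
      (Subsingleton (Coh.HH A.left L b) ∨ Subsingleton (Coh.HH A.left N a)) := by
    intro a b
    have hc : Coh.IsCoh ((Coh.Rpush A.hom b).obj L) :=
      Groth.Agent.S0036.result A.hom L (CurvLib.isCoh_of_isInvertible hL) b
    haveI := hc.1
    obtain ⟨r, ⟨e⟩⟩ := CohCmpLib.exists_freeMod_iso_of_field K ((Coh.Rpush A.hom b).obj L) hc.2
    obtain ⟨e'⟩ := Groth.Agent.S0033.result A.hom A.hom p q hsq L b
    let e₁ : (Coh.Rpush q b).obj Lp ≅ FlatMod.freeMod A.left r :=
      e'.symm ≪≫ (Scheme.Modules.pullback A.hom).mapIso e ≪≫ KFlatLib.pullFreeIso A.hom r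
    obtain ⟨e₂⟩ := Groth.Agent.S0927.result q Lp N
      (CurveVBLib.isFinLocFree_of_rank (CurvLib.locFree_of_isInvertible hN)) b
    have hr : r = 0 ↔ Subsingleton (Coh.HH A.left L b) := by
      constructor
      · rintro rfl
        have hz : IsZero ((Coh.Rpush A.hom b).obj L) := (show IsZero (FlatMod.freeMod _ 0) by
          rw [IsZero.iff_id_eq_zero]
          exact Sigma.hom_ext _ _ fun i => i.elim0).of_iso e
        refine subsingleton_HH_antidiagonal A.hom L b fun a' b' hab => ?_
        rcases Nat.eq_zero_or_pos a' with ha | ha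
        · obtain rfl : b' = b := by omega
          exact subsingleton_HH_isZero hz a'
        · haveI : IsLocallyNoetherian (Spec (CommRingCat.of K)) := inferInstance
          exact CurvLib.subsingleton_HH_of_dim_le _ (d := 0) (le_of_eq
            ((PrimeSpectrum.topologicalKrullDim_eq_ringKrullDim K).trans (ringKrullDim_eq_zero_of_field K))) a' ha
      · intro h
        by_contra hr0
        haveI : IsIntegral A.left := GeometricallyIntegral.isIntegral_of_subsingleton A.hom
        have hz := (Functor.map_isZero (Scheme.Modules.pullback A.hom)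
          (AVVanishLib.isZero_rpush_point A.hom hL b h)).of_iso (e'.trans (Iso.refl _)).symm
        have h0 := AVRRLib.genRank_freeMod A.left r
        have h1 := ModuleCat.subsingleton_of_isZero
          ((DevissLib.St (genericPoint A.left)).map_isZero (hz.of_iso e₁.symm))
        haveI : Subsingleton ↑((FlatMod.freeMod A.left r).presheaf.stalk (genericPoint ↥A.left)) := h1
        exact hr0 (h0.symm.trans Module.finrank_zero_of_subsingleton)
    have e₃ : (Coh.Rpush q b).obj Fm ≅ CohB1.tensorMod N (FlatMod.freeMod A.left r) :=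
      e₂.symm ≪≫ HilbPolyLib.congrRight N e₁
    rw [← hr, ← subsingleton_HH_tensor_free N a r]
    exact ⟨fun h => SerreVanLib.subsingleton_HH_of_iso e₃.symm a h,
      fun h => SerreVanLib.subsingleton_HH_of_iso e₃ a h⟩
  classical
  haveI : CompactSpace A.left := QuasiCompact.compactSpace_of_compactSpace A.hom
  haveI : IsNoetherian A.left := {}
  -- some position is not zero
  obtain ⟨i₀, hi₀, j₀, hj₀⟩ : ∃ i₀, ¬ Subsingleton (Coh.HH A.left L i₀) ∧ ∃ j₀,
      ¬ Subsingleton (Coh.HH A.left N j₀) := by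
    by_contra hnone
    refine hne' (subsingleton_HH_antidiagonal q Fm g fun a b _ => (hE a b).2 ?_)
    by_contra hab
    rw [not_or] at hab
    exact hnone ⟨b, hab.1, a, hab.2⟩
  have hbd : ∀ (M : A.left.Modules) (n : ℕ), ¬ Subsingleton (Coh.HH A.left M n) → n ≤ g := fun M n h => by
    by_contra hn
    exact h (CurvLib.subsingleton_HH_of_dim_le _ hg.le n (by omega))
  let IL := (Finset.range (g + 1)).filter fun n => ¬ Subsingleton (Coh.HH A.left L n)
  let IN := (Finset.range (g + 1)).filter fun n => ¬ Subsingleton (Coh.HH A.left N n)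
  have hIL : IL.Nonempty := ⟨i₀, by simp [IL, hi₀, Nat.lt_succ_of_le (hbd L i₀ hi₀)]⟩
  have hIN : IN.Nonempty := ⟨j₀, by simp [IN, hj₀, Nat.lt_succ_of_le (hbd N j₀ hj₀)]⟩
  have memL : ∀ n, n ∈ IL ↔ ¬ Subsingleton (Coh.HH A.left L n) := fun n => by
    simp only [IL, Finset.mem_filter, Finset.mem_range]
    exact ⟨And.right, fun h => ⟨Nat.lt_succ_of_le (hbd L n h), h⟩⟩
  have memN : ∀ n, n ∈ IN ↔ ¬ Subsingleton (Coh.HH A.left N n) := fun n => by
    simp only [IN, Finset.mem_filter, Finset.mem_range]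
    exact ⟨And.right, fun h => ⟨Nat.lt_succ_of_le (hbd N n h), h⟩⟩
  have hlow : IN.min' hIN + IL.min' hIL = g := by
    by_contra hne0
    have h := subsingleton_HH_corner q Fm (IN.min' hIN) (IL.min' hIL) (hvan' _ hne0)
      (fun a b ha _ => (hE a b).2 (Or.inr (by
        by_contra h; exact absurd (IN.min'_le a ((memN a).2 h)) (not_le.2 ha))))
      (fun a b _ hb => (hE a b).2 (Or.inl (by
        by_contra h; exact absurd (IL.min'_le b ((memL b).2 h)) (not_le.2 hb))))
    rcases (hE _ _).1 h with h | h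
    · exact (memL _).1 (IL.min'_mem hIL) h
    · exact (memN _).1 (IN.min'_mem hIN) h
  have hhigh : IN.max' hIN + IL.max' hIL = g := by
    by_contra hne0
    have h := subsingleton_HH_corner q Fm (IN.max' hIN) (IL.max' hIL) (hvan' _ hne0)
      (fun a b _ hb => (hE a b).2 (Or.inl (by
        by_contra h; exact absurd (IL.le_max' b ((memL b).2 h)) (not_le.2 hb))))
      (fun a b ha _ => (hE a b).2 (Or.inr (by
        by_contra h; exact absurd (IN.le_max' a ((memN a).2 h)) (not_le.2 ha))))
    rcases (hE _ _).1 h with h | h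
    · exact (memL _).1 (IL.max'_mem hIL) h
    · exact (memN _).1 (IN.max'_mem hIN) h
  have h1 := IL.min'_le _ (IL.max'_mem hIL)
  have h2 := IN.min'_le _ (IN.max'_mem hIN)
  refine ⟨IL.min' hIL, IN.min' hIN, by omega, (memL _).1 (IL.min'_mem hIL), (memN _).1 (IN.min'_mem hIN),
    fun n hn => ?_, fun n hn => ?_⟩
  · by_contra h
    have := IL.min'_le n ((memL n).2 h)
    have := IL.le_max' n ((memL n).2 h)
    omega
  · by_contra h
    have := IN.min'_le n ((memN n).2 h)
    have := IN.le_max' n ((memN n).2 h)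
    omega

end AVIndexLib
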