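import Groth.Agent.AVIndexLib.TopChart
import Mathlib.RingTheory.Length

/-!
A bounded complex of projective modules over a regular local ring with homology only in the top degree,
killed by the maximal ideal: its reductions modulo parts of a system of parameters have binomial lengths.
-/

set_option autoImplicit false
set_option maxHeartbeats 1000000
set_option linter.style.haveILetI false
set_option linter.unusedSectionVars false

noncomputable section

universe u

open Module

namespace AVIndexLib

variable {R : Type u} [CommRing R]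

/-- Multiplication by an element regular modulo an ideal is regular modulo it on projective modules. -/
theorem mem_smul_top_of_smul {M : Type u} [AddCommGroup M] [Module R M] [Module.Projective R M] {I : Ideal R}
    {x : R} (hx : ∀ r, x * r ∈ I → r ∈ I) {v : M} (hv : x • v ∈ I • (⊤ : Submodule R M)) :
    v ∈ I • (⊤ : Submodule R M) := by
  obtain ⟨s, hs⟩ := (Module.projective_def (R := R) (P := M)).1 ‹_›
  have hcoord : ∀ w ∈ I • (⊤ : Submodule R M), ∀ m, s w m ∈ I := fun w hw m => by
    refine Submodule.smul_induction_on hw (fun r hr n _ => ?_) (fun a b ha hb => ?_)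
    · rw [map_smul, Finsupp.smul_apply, smul_eq_mul]
      exact I.mul_mem_right _ hr
    · rw [map_add, Finsupp.add_apply]
      exact I.add_mem ha hb
  rw [← hs v, Finsupp.linearCombination_apply]
  refine Submodule.sum_mem _ fun m _ => Submodule.smul_mem_smul (hx _ ?_) trivial
  have := hcoord _ hv m
  rwa [map_smul, Finsupp.smul_apply, smul_eq_mul] at this

variable {M : ℕ → Type u} [∀ i, AddCommGroup (M i)] [∀ i, Module R (M i)]

/-- Cycles modulo an ideal. -/
def cycI (d : ∀ i, M i →ₗ[R] M (i + 1)) (I : Ideal R) (p : ℕ) : Submodule R (M p) :=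
  (I • (⊤ : Submodule R (M (p + 1)))).comap (d p)

/-- Boundaries modulo an ideal. -/
def bdyI (d : ∀ i, M i →ₗ[R] M (i + 1)) (I : Ideal R) (p : ℕ) : Submodule R (M p) :=
  bdry M d p ⊔ I • (⊤ : Submodule R (M p))

/-- The homology modulo an ideal. -/
abbrev Hh (d : ∀ i, M i →ₗ[R] M (i + 1)) (I : Ideal R) (p : ℕ) : Type u :=
  cycI d I p ⧸ (bdyI d I p).comap (cycI d I p).subtype

variable {d : ∀ i, M i →ₗ[R] M (i + 1)} (hdd : ∀ i z, d (i + 1) (d i z) = 0)

theorem mem_cycI {I : Ideal R} {p : ℕ} {v : M p} :
    v ∈ cycI d I p ↔ d p v ∈ I • (⊤ : Submodule R (M (p + 1))) := Iff.rfl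

theorem map_smul_top {N N' : Type u} [AddCommGroup N] [Module R N] [AddCommGroup N'] [Module R N'] (f : N →ₗ[R] N')
    {I : Ideal R} {v : N} (hv : v ∈ I • (⊤ : Submodule R N)) : f v ∈ I • (⊤ : Submodule R N') :=
  Submodule.smul_top_le_comap_smul_top I f hv

section Kill

variable [∀ i, Module.Projective R (M i)] {g N : ℕ} (hN : ∀ i, N < i → Subsingleton (M i))
  (hex : ∀ i, i ≠ g → ∀ v, d i v = 0 → v ∈ bdry M d i) {x : R}
  (hx : ∀ v, d g v = 0 → x • v ∈ bdry M d g)

include hdd hN hex hx

/-- An element killing the homology is null-homotopic. -/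
theorem exists_null_homotopy (i : ℕ) : ∃ h : M (i + 1) →ₗ[R] M i, ∀ v, x • v - h (d i v) ∈ bdry M d i := by
  obtain ⟨s, hs⟩ := exists_split (g := g) hdd hN fun j hj => hex j hj.ne'
  suffices key : ∀ j i : ℕ, N + 1 ≤ i + j → ∃ h : M (i + 1) →ₗ[R] M i, ∀ v, x • v - h (d i v) ∈ bdry M d i from
    key (N + 1) i (by omega)
  intro j
  induction j with
  | zero =>
    intro i hi
    haveI := hN i (by omega)
    exact ⟨0, fun v => by rw [Subsingleton.elim (x • v - (0 : M (i + 1) →ₗ[R] M i) (d i v)) 0]; exact zero_mem _⟩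
  | succ j ih =>
    intro i hi
    rcases eq_or_ne i g with rfl | hig
    · refine ⟨x • s, fun v => ?_⟩
      rw [LinearMap.smul_apply, ← smul_sub]
      exact hx _ (by rw [map_sub, hs, sub_self])
    · obtain ⟨h₁, hh₁⟩ := ih (i + 1) (by omega)
      obtain ⟨h', hh'⟩ := exists_lift_range i (x • LinearMap.id - h₁ ∘ₗ d (i + 1)) hh₁
      refine ⟨h', fun v => hex i hig _ ?_⟩
      rw [map_sub, hh', map_smul, LinearMap.sub_apply, LinearMap.comp_apply, LinearMap.smul_apply, LinearMap.id_apply,
        hdd, map_zero, sub_zero, sub_self]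

/-- An element killing the homology kills the homology modulo any ideal. -/
theorem smul_mem_bdyI (I : Ideal R) (p : ℕ) {v : M p} (hv : v ∈ cycI d I p) : x • v ∈ bdyI d I p := by
  obtain ⟨h, hh⟩ := exists_null_homotopy hdd hN hex hx p
  rw [← sub_add_cancel (x • v) (h (d p v))]
  exact Submodule.add_mem_sup (hh v) (map_smul_top h hv)

end Kill

theorem mem_bdyI_of_mem_smul {I : Ideal R} {p : ℕ} {v : M p} (hv : v ∈ I • (⊤ : Submodule R (M p))) :
    v ∈ bdyI d I p :=
  Submodule.mem_sup_right hv

theorem bdyI_mono {I J : Ideal R} (h : I ≤ J) (p : ℕ) : bdyI d I p ≤ bdyI d J p :=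
  sup_le_sup_left (Submodule.smul_mono_left h) _

theorem mem_bdry_succ {p : ℕ} (w : M p) : d p w ∈ bdry M d (p + 1) := ⟨w, rfl⟩

section Step

variable [∀ i, Module.Projective R (M i)] {I : Ideal R} {x : R}

include hdd

/-- One more parameter: the lengths add. -/
theorem length_hh_step (hreg : ∀ r, x * r ∈ I → r ∈ I)
    (hkill : ∀ p, ∀ v ∈ cycI d I p, x • v ∈ bdyI d I p) (p : ℕ) :
    Module.length R (Hh d (I ⊔ Ideal.span {x}) p) = Module.length R (Hh d I p) + Module.length R (Hh d I (p + 1)) := by
  classical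
  let J := I ⊔ Ideal.span {x}
  have hIJ : I ≤ J := le_sup_left
  have hJmem : ∀ q (w : M q), w ∈ J • (⊤ : Submodule R (M q)) →
      ∃ i ∈ I • (⊤ : Submodule R (M q)), ∃ m, w = i + x • m := fun q w hw => by
    rw [Submodule.sup_smul, Submodule.mem_sup] at hw
    obtain ⟨i, hi, j, hj, rfl⟩ := hw
    rw [Submodule.ideal_span_singleton_smul] at hj
    obtain ⟨m, -, rfl⟩ := (Submodule.mem_smul_pointwise_iff_exists _ _ _).1 hj
    exact ⟨i, hi, m, rfl⟩
  have hxJ : ∀ q (w : M q), x • w ∈ J • (⊤ : Submodule R (M q)) := fun q w =>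
    Submodule.smul_mem_smul (Submodule.mem_sup_right (Ideal.mem_span_singleton_self x)) trivial
  have hcyc : cycI d I p ≤ cycI d J p := Submodule.comap_mono (Submodule.smul_mono_left hIJ)
  have hu : ∀ (v : M p) (u : M (p + 1)), d p v - x • u ∈ I • (⊤ : Submodule R (M (p + 1))) → u ∈ cycI d I (p + 1) := by
    intro v u h
    refine mem_smul_top_of_smul hreg ?_
    have h1 := map_smul_top (d (p + 1)) h
    rw [map_sub, hdd, map_smul, zero_sub] at h1
    simpa using neg_mem h1
  -- the map from the smaller ideal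
  let a : Hh d I p →ₗ[R] Hh d J p := Submodule.mapQ _ _ (Submodule.inclusion hcyc) fun v hv =>
    bdyI_mono hIJ p hv
  have ha : Function.Injective a := by
    rw [← LinearMap.ker_eq_bot, LinearMap.ker_eq_bot']
    intro z
    induction z using Submodule.Quotient.induction_on with
    | H v =>
      intro hz
      have hz' : (v : M p) ∈ bdry M d p ⊔ J • (⊤ : Submodule R (M p)) :=
        (Submodule.Quotient.mk_eq_zero ((bdyI d J p).comap (cycI d J p).subtype) (x := Submodule.inclusion hcyc v)).1 hz
      obtain ⟨b, hb, c, hc, hbc⟩ := Submodule.mem_sup.1 hz' 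
      obtain ⟨i, hi, m, rfl⟩ := hJmem p c hc
      refine (Submodule.Quotient.mk_eq_zero _).2 ?_
      show (v : M p) ∈ bdyI d I p
      have hm : m ∈ cycI d I p := by
        refine mem_smul_top_of_smul hreg ?_
        have h1 : d p (v : M p) = d p i + x • d p m := by
          rw [← hbc, map_add, map_add, map_smul, d_bdry hdd p b hb, zero_add]
        rw [show x • d p m = d p (v : M p) - d p i by rw [h1]; abel]
        exact sub_mem v.2 (map_smul_top _ hi)
      rw [← hbc]
      exact add_mem (Submodule.mem_sup_left hb) (add_mem (mem_bdyI_of_mem_smul hi) (hkill p m hm))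
  -- the relation between the quotient and the next degree
  let W : Submodule R (M p × M (p + 1)) :=
    (I • (⊤ : Submodule R (M (p + 1)))).comap (d p ∘ₗ LinearMap.fst R _ _ - x • LinearMap.snd R _ _)
  have hW : ∀ w : W, d p (w : M p × M (p + 1)).1 - x • (w : M p × M (p + 1)).2 ∈
      I • (⊤ : Submodule R (M (p + 1))) := fun w => w.2
  have hW1 : ∀ w : W, (w : M p × M (p + 1)).1 ∈ cycI d J p := fun w => by
    rw [mem_cycI, ← sub_add_cancel (d p (w : M p × M (p + 1)).1) (x • (w : M p × M (p + 1)).2)]
    exact add_mem (Submodule.smul_mono_left hIJ (hW w)) (hxJ _ _)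
  let c : W →ₗ[R] Hh d J p ⧸ LinearMap.range a :=
    Submodule.mkQ _ ∘ₗ Submodule.mkQ _ ∘ₗ (LinearMap.fst R _ _ ∘ₗ W.subtype).codRestrict _ hW1
  let e : W →ₗ[R] Hh d I (p + 1) :=
    Submodule.mkQ _ ∘ₗ (LinearMap.snd R _ _ ∘ₗ W.subtype).codRestrict _ fun w => hu _ _ (hW w)
  have hc : Function.Surjective c := by
    intro z
    induction z using Submodule.Quotient.induction_on with
    | H y =>
      induction y using Submodule.Quotient.induction_on with
      | H v =>
        obtain ⟨i, hi, u, hv⟩ := hJmem _ _ v.2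
        exact ⟨⟨((v : M p), u), show d p (v : M p) - x • u ∈ _ by rw [hv, add_sub_cancel_right]; exact hi⟩, rfl⟩
  have he : Function.Surjective e := by
    intro z
    induction z using Submodule.Quotient.induction_on with
    | H u =>
      obtain ⟨b, ⟨v, rfl⟩, i, hi, hb⟩ := Submodule.mem_sup.1 (hkill _ _ u.2 :
        x • (u : M (p + 1)) ∈ bdry M d (p + 1) ⊔ I • (⊤ : Submodule R (M (p + 1))))
      exact ⟨⟨(v, (u : M (p + 1))), show d p v - x • (u : M (p + 1)) ∈ _ by
        rw [← hb, sub_add_cancel_left]; exact neg_mem hi⟩, rfl⟩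
  have hker : LinearMap.ker c = LinearMap.ker e := by
    ext w
    obtain ⟨⟨v, u⟩, hvu⟩ := w
    have hvu' : d p v - x • u ∈ I • (⊤ : Submodule R (M (p + 1))) := hvu
    simp only [LinearMap.mem_ker, c, e, LinearMap.comp_apply, Submodule.mkQ_apply]
    rw [Submodule.Quotient.mk_eq_zero, Submodule.Quotient.mk_eq_zero]
    constructor
    · rintro ⟨z, hz⟩
      induction z using Submodule.Quotient.induction_on with
      | H z =>
        have hz' : (z : M p) - v ∈ bdry M d p ⊔ J • (⊤ : Submodule R (M p)) :=
          (Submodule.Quotient.eq ((bdyI d J p).comap (cycI d J p).subtype) (x := Submodule.inclusion hcyc z)).1 hz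
        obtain ⟨b, hb, j, hj, hbj⟩ := Submodule.mem_sup.1 hz' 
        obtain ⟨i, hi, m, rfl⟩ := hJmem p j hj
        show u ∈ bdyI d I (p + 1)
        have hv : v = (z : M p) - b - i - x • m := by
          rw [sub_sub, sub_sub, ← add_assoc, add_assoc, hbj]; abel
        have h2 : u + d p m ∈ I • (⊤ : Submodule R (M (p + 1))) := by
          refine mem_smul_top_of_smul hreg ?_
          rw [show x • (u + d p m) = d p (z : M p) - d p i - (d p v - x • u) by
            rw [hv, map_sub, map_sub, map_sub, map_smul, d_bdry hdd p b hb, smul_add]; abel]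
          exact sub_mem (sub_mem z.2 (map_smul_top _ hi)) hvu'
        rw [show u = -d p m + (u + d p m) by abel]
        exact add_mem (Submodule.mem_sup_left (neg_mem (mem_bdry_succ m))) (mem_bdyI_of_mem_smul h2)
    · intro h
      have h' : u ∈ bdry M d (p + 1) ⊔ I • (⊤ : Submodule R (M (p + 1))) := h
      obtain ⟨b, ⟨m, rfl⟩, i, hi, hb⟩ := Submodule.mem_sup.1 h' 
      have hz : v - x • m ∈ cycI d I p := by
        rw [mem_cycI, map_sub, map_smul, show d p v - x • d p m = (d p v - x • u) + x • i by
          rw [← hb, smul_add]; abel]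
        exact add_mem hvu' (Submodule.smul_mem _ _ hi)
      refine ⟨Submodule.Quotient.mk ⟨_, hz⟩, (Submodule.Quotient.eq _).2 ?_⟩
      show v - x • m - v ∈ bdyI d J p
      rw [sub_sub_cancel_left]
      exact neg_mem (mem_bdyI_of_mem_smul (hxJ _ _))
  rw [Module.length_eq_add_of_exact a (LinearMap.range a).mkQ ha (Submodule.mkQ_surjective _)
      (LinearMap.exact_map_mkQ_range a),
    ((c.quotKerEquivOfSurjective hc).symm.trans
      ((Submodule.quotEquivOfEq _ _ hker).trans (e.quotKerEquivOfSurjective he))).length_eq]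

end Step

/-- Without parameters this is the homology. -/
def hhBot (p : ℕ) :
    Hh d (⊥ : Ideal R) p ≃ₗ[R] LinearMap.ker (d p) ⧸ (bdry M d p).comap (LinearMap.ker (d p)).subtype :=
  Submodule.Quotient.equiv _ _ (LinearEquiv.ofEq _ _ (by ext v; simp [mem_cycI, LinearMap.mem_ker])) (by
    ext ⟨v, hv⟩
    simp [bdyI])

include hdd in
/-- The lengths are binomial coefficients. -/
theorem length_hh_ofList [∀ i, Module.Projective R (M i)] {g N : ℕ} (hN : ∀ i, N < i → Subsingleton (M i))
    (hex : ∀ i, i ≠ g → ∀ v, d i v = 0 → v ∈ bdry M d i)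
    (htop : Module.length R (Hh d (⊥ : Ideal R) g) = 1) (rs : List R)
    (hrs : ∀ x ∈ rs, ∀ v, d g v = 0 → x • v ∈ bdry M d g)
    (hreg : ∀ (pre post : List R) (x : R), rs = pre ++ x :: post → ∀ r, x * r ∈ Ideal.ofList pre → r ∈ Ideal.ofList pre) :
    (∀ p, g < p → Module.length R (Hh d (Ideal.ofList rs) p) = 0) ∧
      ∀ p q, p + q = g → Module.length R (Hh d (Ideal.ofList rs) p) = (rs.length.choose q : ℕ) := by
  induction rs using List.reverseRecOn with
  | nil =>
    rw [Ideal.ofList_nil]
    have hz : ∀ p, p ≠ g → Module.length R (Hh d (⊥ : Ideal R) p) = 0 := fun p hp => by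
      rw [Module.length_eq_zero_iff]
      refine ((hhBot (d := d) p).toEquiv.subsingleton_congr).2 ?_
      rw [Submodule.Quotient.subsingleton_iff, eq_top_iff]
      exact fun v _ => hex p hp v.1 (LinearMap.mem_ker.1 v.2)
    refine ⟨fun p hp => hz p hp.ne', fun p q hpq => ?_⟩
    rcases q with _ | q
    · rw [Nat.add_zero] at hpq
      subst hpq
      simpa using htop
    · rw [hz p (by omega)]
      simp
  | append_singleton rs x ih =>
    obtain ⟨ih0, ih1⟩ := ih (fun y hy => hrs y (List.mem_append_left _ hy))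
      (fun pre post y h => hreg pre (post ++ [x]) y (by rw [h]; simp))
    rw [Ideal.ofList_append, Ideal.ofList_singleton]
    have step := length_hh_step hdd (hreg rs [] x (by simp)) fun p v hv =>
      smul_mem_bdyI hdd hN hex (hrs x (by simp)) _ p hv
    refine ⟨fun p hp => by rw [step, ih0 p hp, ih0 (p + 1) (by omega), add_zero], fun p q hpq => ?_⟩
    rw [step, ih1 p q hpq, List.length_append, List.length_singleton]
    rcases q with _ | q
    · rw [ih0 (p + 1) (by omega), add_zero, Nat.choose_zero_right, Nat.choose_zero_right]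
    · rw [ih1 (p + 1) q (by omega), Nat.choose_succ_succ, Nat.succ_eq_add_one, ← Nat.cast_add, add_comm]

section Red

variable {X S : AlgebraicGeometry.Scheme.{u}} {f : X ⟶ S} {F : X.Modules} {W : S.Opens} (K : CohCmpLib.Chart f F W)
variable (R) (C : Type u) [CommRing C] [Algebra K.A₀ R] [Algebra K.A₀ C] [Algebra R C]
  [IsScalarTower K.A₀ R C]

/-- The homology modulo the kernel of a surjection is the homology of the reduction. -/
def hhRed (hC : Function.Surjective (algebraMap R C)) (p : ℕ) :
    Hh (diff K R) (RingHom.ker (algebraMap R C)) p ≃ₗ[R] topMod K C p :=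
  let I := RingHom.ker (algebraMap R C)
  let φ : cycI (diff K R) I p →ₗ[R] topMod K C p :=
    ((bdry (fun i => (term K C i : Type u)) (diff K C) p).comap (LinearMap.ker (diff K C p)).subtype).mkQ.restrictScalars R ∘ₗ
      (red K R C p ∘ₗ (cycI (diff K R) I p).subtype).codRestrict ((LinearMap.ker (diff K C p)).restrictScalars R)
        fun v => LinearMap.mem_ker.2 (by
          rw [LinearMap.comp_apply, Submodule.subtype_apply, ← red_diff]
          exact (red_eq_zero_iff K hC (p + 1) _).2 v.2)
  have hφ : Function.Surjective φ := fun z => by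
    obtain ⟨⟨y, hy⟩, rfl⟩ := Submodule.mkQ_surjective _ z
    obtain ⟨x, hx⟩ := red_surjective K hC p y
    refine ⟨⟨x, (red_eq_zero_iff K hC (p + 1) _).1 (by rw [red_diff, hx]; exact hy)⟩, ?_⟩
    exact congrArg Submodule.Quotient.mk (Subtype.ext hx)
  (Submodule.quotEquivOfEq _ _ (Submodule.ext fun v => by
    rw [LinearMap.mem_ker]
    refine Iff.trans ?_ (Submodule.Quotient.mk_eq_zero
      ((bdry (fun i => (term K C i : Type u)) (diff K C) p).comap (LinearMap.ker (diff K C p)).subtype)).symm
    show (v : term K R p) ∈ bdry _ (diff K R) p ⊔ I • ⊤ ↔ red K R C p v ∈ bdry _ (diff K C) p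
    rw [Submodule.mem_sup]
    cases p with
    | zero =>
      constructor
      · rintro ⟨b, hb, c, hc, hbc⟩
        rw [← hbc, (Submodule.mem_bot R).1 hb, zero_add]
        exact (Submodule.mem_bot C).2 ((red_eq_zero_iff K hC 0 c).2 hc)
      · intro h
        exact ⟨0, zero_mem _, _, (red_eq_zero_iff K hC 0 _).1 ((Submodule.mem_bot C).1 h), zero_add _⟩
    | succ j =>
      constructor
      · rintro ⟨b, ⟨w, rfl⟩, c, hc, hbc⟩
        refine ⟨red K R C j w, ?_⟩
        rw [← hbc, map_add, (red_eq_zero_iff K hC (j + 1) c).2 hc, add_zero, red_diff]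
      · rintro ⟨w, hw⟩
        obtain ⟨w, rfl⟩ := red_surjective K hC j w
        exact ⟨_, ⟨w, rfl⟩, _, (red_eq_zero_iff K hC (j + 1) _).1 (by rw [map_sub, red_diff, hw, sub_self]),
          add_sub_cancel _ _⟩)).trans
    (φ.quotKerEquivOfSurjective hφ)

end Red

end AVIndexLib

end
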