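import Groth.Agent.AVIndexLib.Index
import Groth.Agent.AVRRLib.Degenerate
import Groth.Agent.AbSchLib.DimFinite
import Groth.Agent.H0Lib.Apply

/-!
The index is invariant under isogenies.
-/

set_option autoImplicit false
set_option maxHeartbeats 1000000
set_option maxRecDepth 8000
set_option backward.isDefEq.respectTransparency false
set_option linter.style.haveILetI false

noncomputable section

universe u

open CategoryTheory CategoryTheory.Limits MonoidalCategory CartesianMonoidalCategory MonObj AlgebraicGeometry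
open TopologicalSpace
open CubeConsLib AVVanishLib

namespace AVIndexLib

/-- The higher direct images of a constant family are free. -/
theorem exists_free_rpush {K : Type u} [Field K] {W Y T : Scheme.{u}} [IsIntegral T] {a : W ⟶ Spec (CommRingCat.of K)}
    [IsProper a] {b : T ⟶ Spec (CommRingCat.of K)} {p : Y ⟶ W} {q : Y ⟶ T} (hsq : IsPullback p q a b)
    {L : W.Modules} (hL : PicF.IsInvertible L) (i : ℕ) [HasInjectiveResolutions Y.Modules] :
    ∃ r : ℕ, Nonempty ((Coh.Rpush q i).obj ((Scheme.Modules.pullback p).obj L) ≅ FlatMod.freeMod T r) ∧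
      (r = 0 ↔ Subsingleton (Coh.HH W L i)) := by
  haveI : IsLocallyNoetherian W := LocallyOfFiniteType.isLocallyNoetherian a
  haveI : LocallyOfFinitePresentation a := LocallyOfFinitePresentation.iff_locallyOfFiniteType.2 inferInstance
  haveI : Flat a := inferInstance
  haveI : Flat b := inferInstance
  haveI : Coh.IsQCoh L := (CurvLib.isCoh_of_isInvertible hL).1
  haveI : HasInjectiveResolutions W.Modules := inferInstance
  have hc : Coh.IsCoh ((Coh.Rpush a i).obj L) :=
    Groth.Agent.S0036.result a L (CurvLib.isCoh_of_isInvertible hL) i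
  haveI := hc.1
  obtain ⟨r, ⟨e⟩⟩ := CohCmpLib.exists_freeMod_iso_of_field K ((Coh.Rpush a i).obj L) hc.2
  obtain ⟨e'⟩ := Groth.Agent.S0033.result a b p q hsq L i
  let e₁ : (Coh.Rpush q i).obj ((Scheme.Modules.pullback p).obj L) ≅ FlatMod.freeMod T r :=
    e'.symm ≪≫ (Scheme.Modules.pullback b).mapIso e ≪≫ KFlatLib.pullFreeIso b r
  refine ⟨r, ⟨e₁⟩, ?_, fun h => ?_⟩
  · rintro rfl
    have hz : IsZero ((Coh.Rpush a i).obj L) := (show IsZero (FlatMod.freeMod _ 0) by
      rw [IsZero.iff_id_eq_zero]
      exact Sigma.hom_ext _ _ fun i => i.elim0).of_iso e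
    refine subsingleton_HH_antidiagonal a L i fun a' b' hab => ?_
    rcases Nat.eq_zero_or_pos a' with ha | ha
    · obtain rfl : b' = i := by omega
      exact subsingleton_HH_isZero hz a'
    · haveI : IsLocallyNoetherian (Spec (CommRingCat.of K)) := inferInstance
      exact CurvLib.subsingleton_HH_of_dim_le _ (d := 0) (le_of_eq
        ((PrimeSpectrum.topologicalKrullDim_eq_ringKrullDim K).trans (ringKrullDim_eq_zero_of_field K))) a' ha
  · by_contra hr0
    have hz := (Functor.map_isZero (Scheme.Modules.pullback b)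
      (AVVanishLib.isZero_rpush_point a hL i h)).of_iso e'.symm
    have h0 := AVRRLib.genRank_freeMod T r
    have h1 := ModuleCat.subsingleton_of_isZero
      ((DevissLib.St (genericPoint T)).map_isZero (hz.of_iso e₁.symm))
    haveI : Subsingleton ↑((FlatMod.freeMod T r).presheaf.stalk (genericPoint ↥T)) := h1
    exact hr0 (h0.symm.trans Module.finrank_zero_of_subsingleton)

variable {K : Type u} [Field K] [IsAlgClosed K] {A B : Over (Spec (CommRingCat.of K))} [GrpObj A] [GrpObj B]
  [IsProper A.hom] [GeometricallyIntegral A.hom] [IsProper B.hom] [GeometricallyIntegral B.hom]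

/-- The fibre of a product over a closed point of the second factor. -/
theorem subsingleton_fiberH_snd_prod (F : (A ⊗ B).left.Modules) (y : B.left) (hy : IsClosed ({y} : Set B.left))
    (i : ℕ) : Subsingleton (CohIII.fiberH (snd A B).left F y i) ↔
      Subsingleton (Coh.HH A.left
        ((Scheme.Modules.pullback (lift (𝟙 A) (toUnit A ≫ ptOf y hy)).left).obj F) i) := by
  obtain ⟨ha, -⟩ := exists_factor y hy
  let c : A.left ⟶ Spec (B.left.residueField y) := A.hom ≫ Spec.map (residueFieldIsoBase B.hom y hy).hom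
  refine subsingleton_fiberH_iff_of_section (snd A B).left y F (lift (𝟙 A) (toUnit A ≫ ptOf y hy)).left
    (fst A B).left c ?_ ?_ ?_ i
  · rw [← Over.comp_left, lift_snd, Over.comp_left]
    exact (Category.assoc _ _ _).symm
  · rw [← Over.comp_left, lift_fst]
    rfl
  · let q := (snd A B).left
    let p := (fst A B).left
    let iy := q.fiberι y
    refine Over.tensorObj_ext _ _ ?_ ?_
    · show (iy ≫ p ≫ (lift (𝟙 A) (toUnit A ≫ ptOf y hy)).left) ≫ p = iy ≫ p
      rw [Category.assoc, Category.assoc, ← Over.comp_left, lift_fst, Over.id_left, Category.comp_id]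
    · show (iy ≫ p ≫ (lift (𝟙 A) (toUnit A ≫ ptOf y hy)).left) ≫ q = iy ≫ q
      rw [Category.assoc, Category.assoc, ← Over.comp_left, lift_snd, Over.comp_left]
      show iy ≫ p ≫ A.hom ≫ (ptOf y hy).left = iy ≫ q
      have hw : p ≫ A.hom = q ≫ B.hom := (Over.w (fst A B)).trans (Over.w (snd A B)).symm
      have hiy : iy ≫ q = q.fiberToSpecResidueField y ≫ B.left.fromSpecResidueField y := Limits.pullback.condition
      rw [← Category.assoc p, hw, Category.assoc, ← Category.assoc iy q, hiy]
      exact (Category.assoc _ _ _).trans ((congrArg (q.fiberToSpecResidueField y ≫ ·) ha).trans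
        (by simp only [Category.assoc])).symm

/-- The smallest degree cannot go up under pullback. -/
theorem le_index_of_pullback (f : A ⟶ B) [IsMonHom f] {L : B.left.Modules}
    (hL : PicF.IsInvertible L) (hnd' : Set.Finite {a : 𝟙_ (Over (Spec (CommRingCat.of K))) ⟶ A |
      P (AmpleDevLib.isInvertible_pb f.left hL) (AVAmpleLib.tR a) = clA (AmpleDevLib.isInvertible_pb f.left hL)})
    {i i' : ℕ} (hi : ¬ Subsingleton (Coh.HH B.left L i))
    (hlow : ∀ n, n < i → Subsingleton (Coh.HH B.left L n))
    (hi' : ∀ n, n ≠ i' → Subsingleton (Coh.HH A.left ((Scheme.Modules.pullback f.left).obj L) n)) : i' ≤ i := by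
  by_contra hlt
  haveI := isCommMonObj_field (A := A)
  haveI := isCommMonObj_field (A := B)
  haveI : IsIntegral A.left := GeometricallyIntegral.isIntegral_of_subsingleton A.hom
  haveI : IsIntegral B.left := GeometricallyIntegral.isIntegral_of_subsingleton B.hom
  haveI : LocallyOfFinitePresentation A.hom := LocallyOfFinitePresentation.iff_locallyOfFiniteType.2 inferInstance
  haveI : LocallyOfFinitePresentation B.hom := LocallyOfFinitePresentation.iff_locallyOfFiniteType.2 inferInstance
  haveI : Flat A.hom := inferInstance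
  haveI : Flat B.hom := inferInstance
  haveI : IsLocallyNoetherian B.left := LocallyOfFiniteType.isLocallyNoetherian B.hom
  haveI : JacobsonSpace B.left := LocallyOfFiniteType.jacobsonSpace B.hom
  haveI : JacobsonSpace A.left := LocallyOfFiniteType.jacobsonSpace A.hom
  let p := (fst A B).left
  let q := (snd A B).left
  have hsq : IsPullback p q A.hom B.hom := IsPullback.of_hasPullback A.hom B.hom
  haveI : IsProper p := MorphismProperty.of_isPullback hsq.flip ‹IsProper B.hom›
  haveI : IsProper q := MorphismProperty.of_isPullback hsq ‹IsProper A.hom›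
  haveI : Flat q := MorphismProperty.of_isPullback hsq ‹Flat A.hom›
  haveI : LocallyOfFinitePresentation q := MorphismProperty.of_isPullback hsq ‹LocallyOfFinitePresentation A.hom›
  haveI : IsLocallyNoetherian (A ⊗ B).left := LocallyOfFiniteType.isLocallyNoetherian q
  haveI : HasInjectiveResolutions (A ⊗ B).left.Modules := inferInstance
  let h : A ⊗ B ⟶ B := (fst A B ≫ f) * snd A B
  let G := (Scheme.Modules.pullback h.left).obj L
  have hG : PicF.IsInvertible G := AmpleDevLib.isInvertible_pb h.left hL
  obtain ⟨hq', hfp, hfl⟩ := CohCmpLib.rank_one_hyps q ((CohCmpLib.invertible_iff_rank_one G).1 hG)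
  haveI := hq'
  -- over the second factor, cohomology starts in degree `i'`
  have hz : ∀ n, n ≠ i' → IsZero ((Coh.Rpush q n).obj G) := fun n hn => by
    refine CohCmpLib.isZero_rpush_of_fibre hfp hfl n fun s => ?_
    let C : Set B.left := {s | Subsingleton (CohIII.fiberH q G s n)}ᶜ
    have hC : IsClosed C := (CohCmpLib.isOpen_fibre_vanishing hfp hfl n).isClosed_compl
    by_contra hs
    obtain ⟨z, hzC, hz⟩ := nonempty_inter_closedPoints (Z := C) ⟨s, hs⟩ hC.isLocallyClosed
    refine hzC ((subsingleton_fiberH_snd_prod G z hz n).2 ?_)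
    let b := ptOf z hz
    let hfL := AmpleDevLib.isInvertible_pb f.left hL
    obtain ⟨N, hN, hNc⟩ := exists_clA_sub (AmpleDevLib.isInvertible_pb (AVAmpleLib.tR b).left hL) hL
    have hNadd : IsAdditive hN := isAdditive_phi (hL := hL) b (by rw [hNc, P_eq hL])
    have hfN := AmpleDevLib.isInvertible_pb f.left hN
    have hfNadd : IsAdditive hfN := by
      unfold IsAdditive
      rw [P_pullback hN, P_pullback hN, P_pullback hN, MonObj.mul_comp]
      exact hNadd.map_mul _ _
    obtain ⟨a, ha⟩ := exists_phi_eq (hL := hfL) hfNadd hnd'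
    haveI : IsIso (AVAmpleLib.tR a) := ⟨⟨AVAmpleLib.tR a⁻¹, by rw [AVAmpleLib.tR_comp, mul_inv_cancel, AVAmpleLib.tR_one],
      by rw [AVAmpleLib.tR_comp, inv_mul_cancel, AVAmpleLib.tR_one]⟩⟩
    haveI : IsIso (AVAmpleLib.tR a).left := inferInstanceAs (IsIso ((Over.forget _).map (AVAmpleLib.tR a)))
    obtain ⟨e⟩ : Nonempty ((Scheme.Modules.pullback (lift (𝟙 A) (toUnit A ≫ b)).left).obj G ≅
        (Scheme.Modules.pullback (AVAmpleLib.tR a).left).obj ((Scheme.Modules.pullback f.left).obj L)) := by
      have hGc : clA hG = P hL h := (P_eq hL h).symm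
      have hcomp : lift (𝟙 A) (toUnit A ≫ b) ≫ h = f ≫ AVAmpleLib.tR b := by
        rw [MonObj.comp_mul, lift_fst_assoc, lift_snd, Category.id_comp, AVAmpleLib.tR, MonObj.comp_mul,
          Category.comp_id, ← Category.assoc f, toUnit_unique (f ≫ toUnit B) (toUnit A)]
      rw [← clA_eq_iff (AmpleDevLib.isInvertible_pb _ hG) (AmpleDevLib.isInvertible_pb _ hfL),
        ← pullA_clA _ hG, ← pullA_clA _ hfL, hGc, pullA_P, hcomp, ← pullA_P hL f (AVAmpleLib.tR b),
        ← sub_add_cancel (P hL (AVAmpleLib.tR b)) (clA hL), map_add, P_eq hL (AVAmpleLib.tR b), ← hNc,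
        pullA_clA f.left hN, ha, ← pullA_clA f.left hL]
      rw [sub_add_cancel, P, pullA_clA f.left hL]
    exact SerreVanLib.subsingleton_HH_of_iso e n
      ((subsingleton_HH_iff_of_iso (AVAmpleLib.tR a).left _ n).2 (hi' n hn))
  have htot : Subsingleton (Coh.HH (A ⊗ B).left G (0 + i)) :=
    subsingleton_HH_antidiagonal q G (0 + i) fun a b hab => subsingleton_HH_isZero (hz b (by omega)) a
  -- over the first factor, the corner survives
  let σ : A ⊗ B ⟶ A ⊗ B := lift (fst A B) h
  let σ' : A ⊗ B ⟶ A ⊗ B := lift (fst A B) ((fst A B ≫ f)⁻¹ * snd A B)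
  haveI : IsIso σ := ⟨σ', CartesianMonoidalCategory.hom_ext _ _
    (by rw [Category.assoc, lift_fst, lift_fst, Category.id_comp])
    (by rw [Category.assoc, lift_snd, MonObj.comp_mul, GrpObj.comp_inv, lift_fst_assoc, lift_snd,
      inv_mul_cancel_left, Category.id_comp]), CartesianMonoidalCategory.hom_ext _ _
    (by rw [Category.assoc, lift_fst, lift_fst, Category.id_comp])
    (by rw [Category.assoc, lift_snd, MonObj.comp_mul, lift_fst_assoc, lift_snd, mul_inv_cancel_left,
      Category.id_comp])⟩
  haveI : IsIso σ.left := inferInstanceAs (IsIso ((Over.forget _).map σ))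
  have hσp : σ.left ≫ p = p ≫ 𝟙 A.left := by
    rw [Category.comp_id, ← Over.comp_left, lift_fst]
  have hbc : IsPullback σ.left p p (𝟙 A.left) := IsPullback.of_horiz_isIso ⟨hσp⟩
  have hEE : ∀ n, ∃ r : ℕ, Nonempty ((Coh.Rpush p n).obj G ≅ FlatMod.freeMod A.left r) ∧
      (r = 0 ↔ Subsingleton (Coh.HH B.left L n)) := fun n => by
    obtain ⟨r, ⟨e⟩, hr⟩ := exists_free_rpush hsq.flip hL n
    haveI : Coh.IsQCoh ((Scheme.Modules.pullback q).obj L) :=
      (CurvLib.isCoh_of_isInvertible (AmpleDevLib.isInvertible_pb q hL)).1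
    obtain ⟨e'⟩ := Groth.Agent.S0033.result p (𝟙 A.left) σ.left p hbc ((Scheme.Modules.pullback q).obj L) n
    let eG : G ≅ (Scheme.Modules.pullback σ.left).obj ((Scheme.Modules.pullback q).obj L) :=
      (Scheme.Modules.pullbackCongr (show h.left = σ.left ≫ q by rw [← Over.comp_left, lift_snd])).app L ≪≫
        ((Scheme.Modules.pullbackComp _ _).app L).symm
    exact ⟨r, ⟨(Coh.Rpush p n).mapIso eG ≪≫ e'.symm ≪≫ (Scheme.Modules.pullbackId A.left).app _ ≪≫ e⟩, hr⟩
  have hsub : ∀ a n, Subsingleton (Coh.HH B.left L n) → Subsingleton (Coh.HH A.left ((Coh.Rpush p n).obj G) a) :=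
    fun a n hn => by
      obtain ⟨r, ⟨e⟩, hr⟩ := hEE n
      obtain rfl := hr.2 hn
      refine subsingleton_HH_isZero (IsZero.of_iso ?_ e) a
      rw [IsZero.iff_id_eq_zero]
      exact Sigma.hom_ext _ _ fun i => i.elim0
  have hcor := subsingleton_HH_corner p G 0 i htot (fun a b ha _ => absurd ha (Nat.not_lt_zero a))
    (fun a b _ hb => hsub a b (hlow b hb))
  obtain ⟨r, ⟨e⟩, hr⟩ := hEE i
  have h2 : Subsingleton (Coh.HH A.left (CohB1.tensorMod (Coh.structureModule A.left) (FlatMod.freeMod A.left r)) 0) :=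
    SerreVanLib.subsingleton_HH_of_iso (HilbPolyLib.unitLeft _ ≪≫ e.symm) 0 hcor
  rcases (subsingleton_HH_tensor_free _ 0 r).1 h2 with h3 | h3
  · exact hi (hr.1 h3)
  · exact not_subsingleton_HH_one (A := A) h3

theorem euler_ne_zero {L : A.left.Modules} (hL : PicF.IsInvertible L) {i : ℕ}
    (hi : ¬ Subsingleton (Coh.HH A.left L i)) (hvan : ∀ n, n ≠ i → Subsingleton (Coh.HH A.left L n)) :
    @Curv2.euler K _ A.left ⟨A.hom⟩ L ≠ 0 := by
  letI : A.left.Over (Spec (CommRingCat.of K)) := ⟨A.hom⟩
  haveI : IsProper (A.left ↘ Spec (CommRingCat.of K)) := ‹IsProper A.hom›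
  rw [CurvLib.euler_eq_sum (d := i + 1) fun n hn => hvan n (by omega),
    Finset.sum_eq_single i (fun n _ hn => by
      haveI := hvan n hn
      simp [Module.finrank_zero_of_subsingleton]) (by simp)]
  haveI := CurvLib.finite_HH (k := K) (CurvLib.isCoh_of_isInvertible hL) i
  haveI : Nontrivial (Coh.HH A.left L i) := not_subsingleton_iff_nontrivial.1 hi
  have := Module.finrank_pos (R := K) (M := Coh.HH A.left L i)
  exact mul_ne_zero (pow_ne_zero _ (by norm_num)) (by exact_mod_cast this.ne')

/-- Non-degeneracy and the index pull back along isogenies. -/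
theorem index_pullback (f : A ⟶ B) [IsMonHom f] [IsFinite f.left] [Surjective f.left]
    {L : B.left.Modules} (hL : PicF.IsInvertible L)
    (hnd : Set.Finite {b : 𝟙_ (Over (Spec (CommRingCat.of K))) ⟶ B | P hL (AVAmpleLib.tR b) = clA hL}) :
    Set.Finite {a : 𝟙_ (Over (Spec (CommRingCat.of K))) ⟶ A |
      P (AmpleDevLib.isInvertible_pb f.left hL) (AVAmpleLib.tR a) = clA (AmpleDevLib.isInvertible_pb f.left hL)} ∧
    ∀ n, Subsingleton (Coh.HH B.left L n) ↔
      Subsingleton (Coh.HH A.left ((Scheme.Modules.pullback f.left).obj L) n) := by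
  haveI := isCommMonObj_field (A := A)
  haveI := isCommMonObj_field (A := B)
  haveI : IsIntegral A.left := GeometricallyIntegral.isIntegral_of_subsingleton A.hom
  haveI : IsIntegral B.left := GeometricallyIntegral.isIntegral_of_subsingleton B.hom
  obtain ⟨g, hg⟩ := AVAmpleLib.exists_dim B
  have hgA : topologicalKrullDim A.left = (g : ℕ) :=
    (AbSchLib.topologicalKrullDim_eq_of_finite_surjective f.left).trans hg
  obtain ⟨N, hN, hNL⟩ : ∃ (N : B.left.Modules) (hN : PicF.IsInvertible N), clA hN = -clA hL :=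
    ⟨_, MiscFlat6.dual_isInvertible hL, clA_dual hL⟩
  obtain ⟨i, j, hij, hi, hj, hvL, hvN⟩ := exists_index hL hg hnd hNL
  have hfL := AmpleDevLib.isInvertible_pb f.left hL
  have hfin : Set.Finite {a : 𝟙_ (Over (Spec (CommRingCat.of K))) ⟶ A | P hfL (AVAmpleLib.tR a) = clA hfL} := by
    by_contra hinf
    have h0 := AVRRLib.euler_eq_zero_of_degenerate hfL hinf
    haveI : LocallyOfFinitePresentation A.hom := LocallyOfFinitePresentation.iff_locallyOfFiniteType.2 inferInstance
    haveI : LocallyOfFinitePresentation B.hom := LocallyOfFinitePresentation.iff_locallyOfFiniteType.2 inferInstance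
    haveI : Flat f.left := AbSchLib.flat_of_surjective f
    haveI : IsLocallyNoetherian B.left := LocallyOfFiniteType.isLocallyNoetherian B.hom
    haveI : LocallyOfFinitePresentation f.left := LocallyOfFinitePresentation.iff_locallyOfFiniteType.2 inferInstance
    let m := f.left.finrank (genericPoint B.left)
    have hm : ∀ y, f.left.finrank y = m := fun y =>
      (Scheme.Hom.isLocallyConstant_finrank f.left).apply_eq_of_preconnectedSpace y _
    have hm0 : (m : ℤ) ≠ 0 := by
      exact_mod_cast ((Scheme.Hom.one_le_finrank_iff_surjective _).2 ‹Surjective f.left› (genericPoint B.left)).trans_lt'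
        Nat.zero_lt_one |>.ne'
    rw [AVRRLib.euler_pullback f m hm (CurvLib.isCoh_of_isInvertible hL)] at h0
    exact euler_ne_zero hL hi hvL ((mul_eq_zero.1 h0).resolve_left hm0)
  refine ⟨hfin, ?_⟩
  have hfN := AmpleDevLib.isInvertible_pb f.left hN
  have hfNL : clA hfN = -clA hfL := by rw [← pullA_clA f.left hN, hNL, map_neg, pullA_clA f.left hL]
  obtain ⟨i', j', hij', hi', -, hvL', hvN'⟩ := exists_index hfL hgA hfin hfNL
  have h1 := le_index_of_pullback f hL hfin hi (fun n hn => hvL n hn.ne) hvL'
  have hfinN : Set.Finite {a : 𝟙_ (Over (Spec (CommRingCat.of K))) ⟶ A | P hfN (AVAmpleLib.tR a) = clA hfN} :=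
    hfin.subset fun a ha => by
      have ha' : P hfN (AVAmpleLib.tR a) = clA hfN := ha
      show P hfL (AVAmpleLib.tR a) = clA hfL
      rw [P, hfNL, map_neg, neg_inj] at ha'
      exact ha'
  have h2 := le_index_of_pullback f hN hfinN hj (fun n hn => hvN n hn.ne) hvN'
  obtain rfl : i' = i := by omega
  intro n
  by_cases hn : n = i'
  · subst hn; exact iff_of_false hi hi'
  · exact iff_of_true (hvL n hn) (hvL' n hn)

end AVIndexLib
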