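import Groth.Agent.AVIndexLib.Conc
import Groth.Agent.AVRRLib.RR
import Mathlib.NumberTheory.SumFourSquares

/-!
Positive multiples have the same index.
-/

set_option autoImplicit false
set_option maxHeartbeats 2000000
set_option maxRecDepth 8000
set_option backward.isDefEq.respectTransparency false
set_option linter.style.haveILetI false

noncomputable section

universe u

open CategoryTheory CategoryTheory.Limits MonoidalCategory CartesianMonoidalCategory MonObj AlgebraicGeometry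
open CubeConsLib AVVanishLib

namespace AVIndexLib

variable {K : Type u} [Field K] {A V : Over (Spec (CommRingCat.of K))} [GrpObj A] [IsProper A.hom]
  [GeometricallyIntegral A.hom] {L : A.left.Modules} (hL : PicF.IsInvertible L)

theorem lam_zpow_left (f h : V ⟶ A) : ∀ n : ℤ, lam hL (f ^ n) h = n • lam hL f h
  | (n : ℕ) => by rw [zpow_natCast, lam_pow_left, natCast_zsmul]
  | Int.negSucc n => by rw [zpow_negSucc, lam_inv_left, lam_pow_left, negSucc_zsmul]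

theorem lam_zpow (f h : V ⟶ A) (a b : ℤ) : lam hL (f ^ a) (h ^ b) = (a * b) • lam hL f h := by
  rw [lam_zpow_left, lam_comm, lam_zpow_left, lam_comm, smul_smul]

theorem P_mul (f g : V ⟶ A) : P hL (f * g) = P hL f + P hL g + lam hL f g := by
  rw [lam]; abel

theorem P_four (f₁ f₂ f₃ f₄ : V ⟶ A) (a b c d : ℤ) :
    P hL (f₁ ^ a * f₂ ^ b * f₃ ^ c * f₄ ^ d) = P hL (f₁ ^ a) + P hL (f₂ ^ b) + P hL (f₃ ^ c) + P hL (f₄ ^ d) +
      (a * b) • lam hL f₁ f₂ + (a * c) • lam hL f₁ f₃ + (a * d) • lam hL f₁ f₄ + (b * c) • lam hL f₂ f₃ +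
      (b * d) • lam hL f₂ f₄ + (c * d) • lam hL f₃ f₄ := by
  rw [P_mul, P_mul, P_mul, lam_mul_left, lam_mul_left, lam_mul_left]
  simp only [lam_zpow]
  abel

theorem P_zpow (f : V ⟶ A) (a : ℤ) :
    P hL (f ^ a) = (a * a) • P hL f + (a * (a - 1) / 2) • (P hL f⁻¹ - P hL f) := by
  obtain ⟨b, hb⟩ : (2 : ℤ) ∣ a * (a - 1) := by
    have := (Int.even_mul_succ_self (a - 1)).two_dvd
    rwa [sub_add_cancel, mul_comm] at this
  have ha : a * (a + 1) = 2 * (a * a - b) := by linear_combination -hb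
  rw [zpow_formula hL, P_zero hL, smul_zero, add_zero, ha, hb, Int.mul_ediv_cancel_left _ two_ne_zero,
    Int.mul_ediv_cancel_left _ two_ne_zero, sub_smul, smul_sub]
  abel

/-- `L' - L` is additive. -/
theorem isAdditive_inv_sub [IsAlgClosed K] {M : A.left.Modules} {hM : PicF.IsInvertible M}
    (hMc : clA hM = P hL (𝟙 A)⁻¹ - clA hL) :
    IsAdditive hM ∧ ∀ {W : Over (Spec (CommRingCat.of K))} (h : W ⟶ A), P hM h = P hL h⁻¹ - P hL h := by
  haveI := isCommMonObj_field (A := A)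
  have hPM : ∀ {W : Over (Spec (CommRingCat.of K))} (h : W ⟶ A), P hM h = P hL h⁻¹ - P hL h := fun h => by
    rw [P, hMc, map_sub, pullA_P, GrpObj.comp_inv, Category.comp_id]
    rfl
  refine ⟨?_, @hPM⟩
  unfold IsAdditive
  rw [hPM, hPM, hPM, ← sub_eq_zero]
  have e := lam_inv_inv (hL := hL) (fst A A) (snd A A)
  rw [lam, lam] at e
  rw [mul_inv_rev, mul_comm ((snd A A)⁻¹)]
  rw [← sub_eq_zero] at e
  rw [← e]
  abel

theorem exists_P_zpow_sum {V : Over (Spec (CommRingCat.of K))} (f : V ⟶ A) (a b c d : ℤ) :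
    P hL (f ^ a) + P hL (f ^ b) + P hL (f ^ c) + P hL (f ^ d) =
      (a * a + b * b + c * c + d * d) • P hL f +
      (a * (a - 1) / 2 + b * (b - 1) / 2 + c * (c - 1) / 2 + d * (d - 1) / 2) • (P hL f⁻¹ - P hL f) := by
  rw [P_zpow hL f a, P_zpow hL f b, P_zpow hL f c, P_zpow hL f d]
  simp only [add_smul]
  abel

variable [IsAlgClosed K]

include hL in
/-- A positive multiple of a class of degree `i` has degree at most `i`. -/
theorem le_nsmul {i j m : ℕ} (h : Conc L i) {N : A.left.Modules} (hN : PicF.IsInvertible N)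
    (hNL : clA hN = m • clA hL) (h' : Conc N j) : j ≤ i := by
  haveI := isCommMonObj_field (A := A)
  obtain ⟨a, b, c, d, habcd⟩ := Nat.sum_four_squares m
  obtain ⟨M, hM, hMc⟩ := exists_clA_sub (AmpleDevLib.isInvertible_pb ((𝟙 A)⁻¹ : A ⟶ A).left hL) hL
  rw [← P_eq hL] at hMc
  obtain ⟨hadd, hPM⟩ := isAdditive_inv_sub hL hMc
  haveI : LocallyOfFinitePresentation A.hom := LocallyOfFinitePresentation.iff_locallyOfFiniteType.2 inferInstance
  haveI : Flat A.hom := inferInstance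
  haveI : IsProper (A ⊗ A).hom := inferInstanceAs (IsProper (pullback.fst A.hom A.hom ≫ A.hom))
  haveI : GeometricallyIntegral (A ⊗ A).hom := CubeConsLib.geometricallyIntegral_prod A.hom A.hom
  haveI : IsCommMonObj (A ⊗ A) := isCommMonObj_field
  haveI : LocallyOfFinitePresentation (A ⊗ A).hom := LocallyOfFinitePresentation.iff_locallyOfFiniteType.2 inferInstance
  haveI : Flat (A ⊗ A).hom := inferInstance
  haveI : IsProper ((A ⊗ A) ⊗ (A ⊗ A)).hom := inferInstanceAs (IsProper (pullback.fst (A ⊗ A).hom (A ⊗ A).hom ≫ (A ⊗ A).hom))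
  haveI : GeometricallyIntegral ((A ⊗ A) ⊗ (A ⊗ A)).hom := CubeConsLib.geometricallyIntegral_prod (A ⊗ A).hom (A ⊗ A).hom
  haveI : IsCommMonObj ((A ⊗ A) ⊗ (A ⊗ A)) := isCommMonObj_field
  haveI : LocallyOfFinitePresentation ((A ⊗ A) ⊗ (A ⊗ A)).hom :=
    LocallyOfFinitePresentation.iff_locallyOfFiniteType.2 inferInstance
  haveI : Flat ((A ⊗ A) ⊗ (A ⊗ A)).hom := inferInstance
  haveI := H0Lib.geometricallyConnected_of_integral ((A ⊗ A) ⊗ (A ⊗ A)).hom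
  let π₁ : ((A ⊗ A) ⊗ (A ⊗ A)) ⟶ A := fst (A ⊗ A) (A ⊗ A) ≫ fst A A
  let π₂ : ((A ⊗ A) ⊗ (A ⊗ A)) ⟶ A := fst (A ⊗ A) (A ⊗ A) ≫ snd A A
  let π₃ : ((A ⊗ A) ⊗ (A ⊗ A)) ⟶ A := snd (A ⊗ A) (A ⊗ A) ≫ fst A A
  let π₄ : ((A ⊗ A) ⊗ (A ⊗ A)) ⟶ A := snd (A ⊗ A) (A ⊗ A) ≫ snd A A
  -- the four rows of the quaternion
  let r (x y z w : ℤ) : ((A ⊗ A) ⊗ (A ⊗ A)) ⟶ A := π₁ ^ x * π₂ ^ y * π₃ ^ z * π₄ ^ w
  have hr : ∀ x y z w, IsMonHom (r x y z w) := fun x y z w => by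
    haveI h1 : IsMonHom π₁ := inferInstanceAs (IsMonHom (fst (A ⊗ A) (A ⊗ A) ≫ fst A A))
    haveI h2 : IsMonHom π₂ := inferInstanceAs (IsMonHom (fst (A ⊗ A) (A ⊗ A) ≫ snd A A))
    haveI h3 : IsMonHom π₃ := inferInstanceAs (IsMonHom (snd (A ⊗ A) (A ⊗ A) ≫ fst A A))
    haveI h4 : IsMonHom π₄ := inferInstanceAs (IsMonHom (snd (A ⊗ A) (A ⊗ A) ≫ snd A A))
    exact H0Lib.isMonHom_of_one_comp _ (by
      have e : (η[A] : 𝟙_ (Over (Spec (CommRingCat.of K))) ⟶ A) = 1 := by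
        rw [Hom.one_def, toUnit_unique (toUnit (𝟙_ (Over (Spec (CommRingCat.of K))))) (𝟙 _), Category.id_comp]
      simp only [r, MonObj.comp_mul, GrpObj.comp_zpow, IsMonHom.one_hom, e, one_zpow, _root_.one_mul])
  let φ : ((A ⊗ A) ⊗ (A ⊗ A)) ⟶ ((A ⊗ A) ⊗ (A ⊗ A)) := lift (lift (r a (-b) (-c) (-d)) (r b a (-d) c))
    (lift (r c d a (-b)) (r d (-c) b a))
  haveI : IsMonHom φ := by
    haveI := hr a (-b) (-c) (-d)
    haveI := hr b a (-d) c
    haveI := hr c d a (-b)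
    haveI := hr d (-c) b a
    haveI : IsMonHom (lift (r a (-b) (-c) (-d)) (r b a (-d) c)) := inferInstance
    haveI : IsMonHom (lift (r c d a (-b)) (r d (-c) b a)) := inferInstance
    exact inferInstanceAs (IsMonHom (lift _ _))
  -- the box product of four copies
  have hbox : ∀ {M₁ M₂ M₃ M₄ : A.left.Modules} (h₁ : PicF.IsInvertible M₁) (h₂ : PicF.IsInvertible M₂)
      (h₃ : PicF.IsInvertible M₃) (h₄ : PicF.IsInvertible M₄) {i₁ i₂ i₃ i₄ : ℕ}, Conc M₁ i₁ → Conc M₂ i₂ →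
      Conc M₃ i₃ → Conc M₄ i₄ → ∃ (B : ((A ⊗ A) ⊗ (A ⊗ A)).left.Modules) (hB : PicF.IsInvertible B), Conc B (i₁ + i₂ + (i₃ + i₄)) ∧
        clA hB = P h₃ π₃ + P h₄ π₄ + (P h₁ π₁ + P h₂ π₂) := by
    intro M₁ M₂ M₃ M₄ h₁ h₂ h₃ h₄ i₁ i₂ i₃ i₄ c₁ c₂ c₃ c₄
    have ha := HilbPolyLib.isInvertible_tensor (AmpleDevLib.isInvertible_pb (snd A A).left h₂)
      (AmpleDevLib.isInvertible_pb (fst A A).left h₁)
    have hb := HilbPolyLib.isInvertible_tensor (AmpleDevLib.isInvertible_pb (snd A A).left h₄)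
      (AmpleDevLib.isInvertible_pb (fst A A).left h₃)
    refine ⟨_, HilbPolyLib.isInvertible_tensor (AmpleDevLib.isInvertible_pb (snd (A ⊗ A) (A ⊗ A)).left hb)
      (AmpleDevLib.isInvertible_pb (fst (A ⊗ A) (A ⊗ A)).left ha),
      Conc.prod (A := (A ⊗ A)) (B := (A ⊗ A)) ha hb (c₁.prod h₁ h₂ c₂) (c₃.prod h₃ h₄ c₄), ?_⟩
    rw [clA_tensor (AmpleDevLib.isInvertible_pb (snd (A ⊗ A) (A ⊗ A)).left hb)
        (AmpleDevLib.isInvertible_pb (fst (A ⊗ A) (A ⊗ A)).left ha), ← pullA_clA _ hb, ← pullA_clA _ ha,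
      clA_tensor (AmpleDevLib.isInvertible_pb (snd A A).left h₄) (AmpleDevLib.isInvertible_pb (fst A A).left h₃),
      clA_tensor (AmpleDevLib.isInvertible_pb (snd A A).left h₂) (AmpleDevLib.isInvertible_pb (fst A A).left h₁),
      map_add, map_add, ← P_eq h₁, ← P_eq h₂, ← P_eq h₃, ← P_eq h₄, pullA_P, pullA_P, pullA_P, pullA_P]
    abel
  obtain ⟨L₄, hL₄, cL₄, eL₄⟩ := hbox hL hL hL hL h h h h
  -- the translates of the multiple
  let s (x y z w : ℤ) : ℤ := x * (x - 1) / 2 + y * (y - 1) / 2 + z * (z - 1) / 2 + w * (w - 1) / 2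
  have hN' : ∀ t : ℤ, ∃ (N' : A.left.Modules) (hN' : PicF.IsInvertible N'), Conc N' j ∧
      ∀ {W : Over (Spec (CommRingCat.of K))} (g : W ⟶ A), P hN' g = (m : ℤ) • P hL g + t • (P hL g⁻¹ - P hL g) := by
    intro t
    obtain ⟨T, hT, hTc⟩ := exists_clA_zsmul hM t
    have hTadd : IsAdditive hT := by
      unfold IsAdditive
      rw [P, P, P, hTc, map_zsmul, map_zsmul, map_zsmul, ← smul_add]
      exact congrArg (t • ·) hadd
    refine ⟨_, HilbPolyLib.isInvertible_tensor hN hT, h'.add_additive hTadd (clA_tensor hN hT), fun g => ?_⟩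
    rw [P, clA_tensor hN hT, map_add, hNL, hTc, map_nsmul, map_zsmul, natCast_zsmul]
    exact congrArg (m • P hL g + t • ·) (hPM g)
  obtain ⟨N₁, hN₁, cN₁, eN₁⟩ := hN' (s a b c d)
  obtain ⟨N₂, hN₂, cN₂, eN₂⟩ := hN' (s (-b) a d (-c))
  obtain ⟨N₃, hN₃, cN₃, eN₃⟩ := hN' (s (-c) (-d) a b)
  obtain ⟨N₄, hN₄, cN₄, eN₄⟩ := hN' (s (-d) c (-b) a)
  obtain ⟨R, hR, cR, eR⟩ := hbox hN₁ hN₂ hN₃ hN₄ cN₁ cN₂ cN₃ cN₄
  have hm : (m : ℤ) = (a : ℤ) * a + b * b + c * c + d * d := by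
    rw [← habcd]; push_cast; ring
  have key : clA (AmpleDevLib.isInvertible_pb φ.left hL₄) = clA hR := by
    rw [← pullA_clA φ.left hL₄, eL₄, eR, map_add, map_add, map_add, pullA_P, pullA_P, pullA_P, pullA_P,
      eN₁, eN₂, eN₃, eN₄]
    simp only [π₁, π₂, π₃, π₄, φ, lift_fst_assoc, lift_snd_assoc, lift_fst, lift_snd]
    simp only [r, P_four]
    have e₁ := exists_P_zpow_sum hL π₁ a b c d
    have e₂ := exists_P_zpow_sum hL π₂ (-b) a d (-c)
    have e₃ := exists_P_zpow_sum hL π₃ (-c) (-d) a b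
    have e₄ := exists_P_zpow_sum hL π₄ (-d) c (-b) a
    rw [show (-(b : ℤ)) * -b + a * a + d * d + -c * -c = m by rw [hm]; ring] at e₂
    rw [show (-(c : ℤ)) * -c + -d * -d + a * a + b * b = m by rw [hm]; ring] at e₃
    rw [show (-(d : ℤ)) * -d + c * c + -b * -b + a * a = m by rw [hm]; ring] at e₄
    rw [← hm] at e₁
    show _ = (m : ℤ) • P hL π₃ + s _ _ _ _ • _ + ((m : ℤ) • P hL π₄ + s _ _ _ _ • _) +
      ((m : ℤ) • P hL π₁ + s _ _ _ _ • _ + ((m : ℤ) • P hL π₂ + s _ _ _ _ • _))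
    simp only [s]
    rw [← e₁, ← e₂, ← e₃, ← e₄]
    have hx₁ : ((a : ℤ) * -b + b * a + c * d + d * -c) = 0 := by ring
    have hx₂ : ((a : ℤ) * -c + b * -d + c * a + d * b) = 0 := by ring
    have hx₃ : ((a : ℤ) * -d + b * c + c * -b + d * a) = 0 := by ring
    have hx₄ : (-(b : ℤ) * -c + a * -d + d * a + -c * b) = 0 := by ring
    have hx₅ : (-(b : ℤ) * -d + a * c + d * -b + -c * a) = 0 := by ring
    have hx₆ : (-(c : ℤ) * -d + -d * c + a * -b + b * a) = 0 := by ring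
    linear_combination (norm := module) congrArg (fun n : ℤ => n • lam hL π₁ π₂) hx₁ +
      congrArg (fun n : ℤ => n • lam hL π₁ π₃) hx₂ + congrArg (fun n : ℤ => n • lam hL π₁ π₄) hx₃ +
      congrArg (fun n : ℤ => n • lam hL π₂ π₃) hx₄ + congrArg (fun n : ℤ => n • lam hL π₂ π₄) hx₅ +
      congrArg (fun n : ℤ => n • lam hL π₃ π₄) hx₆
  have h4 := Conc.le_pullback φ hL₄ cL₄ (cR.of_clA (hM := hR) (hN := AmpleDevLib.isInvertible_pb φ.left hL₄) key.symm)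
  omega

include hL in
/-- Positive multiples keep the index. -/
theorem Conc.nsmul {i m : ℕ} (h : Conc L i) (hm : 0 < m) {N : A.left.Modules} (hN : PicF.IsInvertible N)
    (hNL : clA hN = m • clA hL) : Conc N i := by
  haveI : IsIntegral A.left := GeometricallyIntegral.isIntegral_of_subsingleton A.hom
  obtain ⟨g, hg⟩ := AVAmpleLib.exists_dim A
  have hχ : (AVAmpleLib.chi A (clA hN) : ℚ) ≠ 0 := by
    rw [hNL, ← natCast_zsmul, AVRRLib.chi_zsmul hg hL, AVAmpleLib.chi_clA]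
    refine mul_ne_zero (pow_ne_zero _ (by exact_mod_cast hm.ne')) ?_
    exact_mod_cast euler_ne_zero hL h.2 h.1
  have hnd : Set.Finite {a : 𝟙_ (Over (Spec (CommRingCat.of K))) ⟶ A | P hN (AVAmpleLib.tR a) = clA hN} := by
    by_contra hinf
    rw [AVAmpleLib.chi_clA] at hχ
    exact hχ (by exact_mod_cast AVRRLib.euler_eq_zero_of_degenerate hN hinf)
  obtain ⟨N', hN', hN'c⟩ : ∃ (N' : A.left.Modules) (hN' : PicF.IsInvertible N'), clA hN' = -clA hN :=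
    ⟨_, MiscFlat6.dual_isInvertible hN, clA_dual hN⟩
  obtain ⟨j, j', hjj, hj, hj', hvN, hvN'⟩ := exists_index hN hg hnd hN'c
  obtain ⟨L', hL', hL'c⟩ : ∃ (L' : A.left.Modules) (hL' : PicF.IsInvertible L'), clA hL' = -clA hL :=
    ⟨_, MiscFlat6.dual_isInvertible hL, clA_dual hL⟩
  obtain ⟨hig, cL'⟩ := h.neg hg hL'c
  have h1 := le_nsmul hL h hN hNL ⟨hvN, hj⟩
  have h2 := le_nsmul hL' cL' hN' (by rw [hN'c, hNL, hL'c, smul_neg]) ⟨hvN', hj'⟩
  obtain rfl : j = i := by omega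
  exact ⟨hvN, hj⟩

end AVIndexLib
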