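import Groth.Agent.AVIndexLib.Pullback
import Groth.Agent.AVVanishLib.Transpose

/-!
The index of a square power.
-/

set_option autoImplicit false
set_option maxHeartbeats 1000000
set_option maxRecDepth 8000
set_option backward.isDefEq.respectTransparency false
set_option linter.style.haveILetI false

noncomputable section

universe u

open CategoryTheory CategoryTheory.Limits MonoidalCategory CartesianMonoidalCategory MonObj AlgebraicGeometry
open CubeConsLib AVVanishLib

namespace AVIndexLib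

variable {K : Type u} [Field K] [IsAlgClosed K] {A : Over (Spec (CommRingCat.of K))} [GrpObj A]
  [IsProper A.hom] [GeometricallyIntegral A.hom] {L : A.left.Modules} (hL : PicF.IsInvertible L)

local notation "Pt" => 𝟙_ (Over (Spec (CommRingCat.of K))) ⟶ A
local notation "τ" a:max => AVAmpleLib.tR a

theorem lam_pt (a : Pt) : lam hL (𝟙 A) (toUnit A ≫ a) = P hL (τ a) - clA hL := by
  rw [lam, P_id, P_const hL, sub_zero]

theorem lam_pt_pow (a : Pt) (n : ℕ) :
    P hL (τ (a ^ n)) - clA hL = n • (P hL (τ a) - clA hL) := by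
  have h : ∀ n : ℕ, toUnit A ≫ a ^ n = (toUnit A ≫ a) ^ n := fun n => by
    induction n with
    | zero => rw [pow_zero, pow_zero, MonObj.comp_one]
    | succ n ih => rw [pow_succ, pow_succ, MonObj.comp_mul, ih]
  rw [← lam_pt, ← lam_pt, h, lam_comm, lam_pow_left, lam_comm]

/-- Points are divisible. -/
theorem exists_root (x : Pt) {n : ℕ} (hn : n ≠ 0) : ∃ y : Pt, y ^ n = x := by
  haveI := AVAmpleLib.surjective_zpow A (n := (n : ℤ)) (Int.natCast_ne_zero.2 hn)
  haveI : JacobsonSpace A.left := LocallyOfFiniteType.jacobsonSpace A.hom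
  let f : A ⟶ A := 𝟙 A ^ (n : ℤ)
  obtain ⟨w, hw, hwc⟩ := nonempty_inter_closedPoints (Z := f.left ⁻¹' {AVAmpleLib.pt x})
    (by obtain ⟨z, hz⟩ := f.left.surjective (AVAmpleLib.pt x); exact ⟨z, hz⟩)
    ((AVRigidLib.isClosed_pt x).preimage f.left.continuous).isLocallyClosed
  obtain ⟨y, rfl⟩ := AVAmpleLib.exists_pt_eq w hwc
  refine ⟨y, ?_⟩
  have h : y ≫ f = x := AVRigidLib.ext_pt hw
  have hcomp : ∀ m : ℕ, y ≫ (𝟙 A : A ⟶ A) ^ m = y ^ m := fun m => by
    induction m with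
    | zero => rw [pow_zero, pow_zero, MonObj.comp_one]
    | succ m ih => rw [pow_succ, pow_succ, MonObj.comp_mul, ih, Category.comp_id]
  rw [← hcomp, ← h]
  simp only [f, zpow_natCast]

/-- The pullback along multiplication by `n` is a translate of the power `n²`, for non-degenerate classes. -/
theorem exists_mul_pullback (hnd : Set.Finite {a : Pt | P hL (τ a) = clA hL}) {n : ℕ} (hn : n ≠ 0) :
    ∃ y : Pt, P hL (𝟙 A ^ (n : ℤ)) = pullA (τ y).left ((n ^ 2) • clA hL) := by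
  haveI := isCommMonObj_field (A := A)
  have hLi := AmpleDevLib.isInvertible_pb ((𝟙 A)⁻¹ : A ⟶ A).left hL
  obtain ⟨M, hM, hMc⟩ := exists_clA_sub hLi hL
  have hPM : ∀ {V : Over (Spec (CommRingCat.of K))} (h : V ⟶ A), P hM h = P hL h⁻¹ - P hL h := fun h => by
    rw [P, hMc, map_sub, ← P_eq hL, pullA_P, GrpObj.comp_inv, Category.comp_id]
    rfl
  have hadd : IsAdditive hM := by
    unfold IsAdditive
    rw [hPM, hPM, hPM, ← sub_eq_zero]
    have e := lam_inv_inv (hL := hL) (fst A A) (snd A A)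
    rw [lam, lam] at e
    rw [mul_inv_rev, mul_comm ((snd A A)⁻¹)]
    rw [← sub_eq_zero] at e
    rw [← e]
    abel
  obtain ⟨x, hx⟩ := exists_phi_eq (hL := hL) hadd hnd
  obtain ⟨b, hb⟩ : (2 : ℤ) ∣ (n : ℤ) * ((n : ℤ) - 1) := by
    have := (Int.even_mul_succ_self ((n : ℤ) - 1)).two_dvd
    rwa [sub_add_cancel, mul_comm] at this
  obtain ⟨m, rfl⟩ : ∃ m : ℕ, b = m := Int.eq_ofNat_of_zero_le (by
    rcases Nat.eq_zero_or_pos n with h | h
    · exact absurd h hn
    · nlinarith [(by exact_mod_cast h : (1 : ℤ) ≤ n)])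
  obtain ⟨y, hy⟩ := exists_root (x ^ m) (n := n ^ 2) (pow_ne_zero _ hn)
  refine ⟨y, ?_⟩
  have h1 : (n ^ 2) • (P hL (τ y) - clA hL) = m • clA hM := by
    rw [← lam_pt_pow hL, hy, lam_pt_pow hL, hx]
  have ha : (n : ℤ) * ((n : ℤ) + 1) = 2 * ((n : ℤ) ^ 2 - m) := by linear_combination -hb
  rw [map_nsmul, ← P, zpow_formula hL, P_id, P_zero hL, smul_zero, add_zero, ha, hb,
    Int.mul_ediv_cancel_left _ two_ne_zero, Int.mul_ediv_cancel_left _ two_ne_zero, sub_smul, natCast_zsmul,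
    show P hL (𝟙 A)⁻¹ = clA hLi from P_eq hL _]
  rw [show (n ^ 2) • P hL (τ y) = (n ^ 2) • (P hL (τ y) - clA hL) + (n ^ 2) • clA hL by rw [smul_sub, sub_add_cancel],
    h1, hMc, smul_sub, natCast_zsmul, show ((n : ℤ) ^ 2) = ((n ^ 2 : ℕ) : ℤ) by push_cast; rfl, natCast_zsmul]
  abel

/-- The index of a square power. -/
theorem index_square (hnd : Set.Finite {a : Pt | P hL (τ a) = clA hL}) {n : ℕ} (hn : n ≠ 0) (j : ℕ) :
    Subsingleton (Coh.HH A.left L j) ↔ Subsingleton (Coh.HH A.left (CohB1.tensorPow L (n ^ 2)) j) := by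
  haveI := isCommMonObj_field (A := A)
  let f : A ⟶ A := 𝟙 A ^ (n : ℤ)
  have hn' : (n : ℤ) ≠ 0 := Int.natCast_ne_zero.2 hn
  haveI : IsFinite f.left := AVAmpleLib.isFinite_zpow A hn'
  haveI : Surjective f.left := AVAmpleLib.surjective_zpow A hn'
  haveI : IsMonHom f := AbSchLib.isMonHom_zpow A _
  rw [(index_pullback f hL hnd).2 j]
  obtain ⟨y, hy⟩ := exists_mul_pullback hL hnd hn
  have hp := AmpleThLib.tensorPow_isInvertible hL (n ^ 2)
  haveI : IsIso (τ y) := ⟨⟨τ y⁻¹, by rw [AVAmpleLib.tR_comp, mul_inv_cancel, AVAmpleLib.tR_one],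
    by rw [AVAmpleLib.tR_comp, inv_mul_cancel, AVAmpleLib.tR_one]⟩⟩
  haveI : IsIso (τ y).left := inferInstanceAs (IsIso ((Over.forget _).map (τ y)))
  obtain ⟨e⟩ : Nonempty ((Scheme.Modules.pullback f.left).obj L ≅
      (Scheme.Modules.pullback (τ y).left).obj (CohB1.tensorPow L (n ^ 2))) := by
    rw [← clA_eq_iff (AmpleDevLib.isInvertible_pb f.left hL) (AmpleDevLib.isInvertible_pb (τ y).left hp),
      ← P_eq hL, ← pullA_clA _ hp, clA_pow hL, hy]
  rw [← subsingleton_HH_iff_of_iso (τ y).left (CohB1.tensorPow L (n ^ 2)) j]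
  exact ⟨fun h => SerreVanLib.subsingleton_HH_of_iso e.symm j h,
    fun h => SerreVanLib.subsingleton_HH_of_iso e j h⟩

end AVIndexLib
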