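import Groth.Agent.AVIndexLib.TopPoinc
import Groth.Agent.AVIndexLib.Square
import Groth.Agent.CubeConsLib.Transpose
import Groth.Agent.MiscFlat6.RelAmpleLocal
import Groth.Agent.CohBCLib.Cons
import Groth.Agent.S2390
import Groth.Agent.PerfLib.Coherent
import Groth.Prelude.Def_AgPol

/-!
Relatively ample classes on abelian schemes have no higher cohomology.
-/

set_option autoImplicit false
set_option maxHeartbeats 1000000
set_option maxRecDepth 8000
set_option backward.isDefEq.respectTransparency false
set_option linter.style.haveILetI false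
set_option linter.unusedSectionVars false

noncomputable section

universe u

open CategoryTheory CategoryTheory.Limits MonoidalCategory CartesianMonoidalCategory MonObj AlgebraicGeometry
open CubeConsLib AVVanishLib AVAmpleLib

namespace AVIndexLib

/-- An ample class on an abelian variety over an algebraically closed field has no higher cohomology. -/
theorem subsingleton_HH_of_isAmple {k : Type u} [Field k] [IsAlgClosed k]
    {A : Over (Spec (CommRingCat.of k))} [GrpObj A] [IsProper A.hom] [GeometricallyIntegral A.hom]
    {L : A.left.Modules} (hLa : CohB1.IsAmple L) {p : ℕ} (hp : 0 < p) : Subsingleton (Coh.HH A.left L p) := by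
  have hL : PicF.IsInvertible L := hLa.1
  have hnd := AVAmpleLib.finite_translationFixing hL hLa
  haveI : IsIntegral A.left := GeometricallyIntegral.isIntegral_of_subsingleton A.hom
  obtain ⟨g, hg⟩ := AVAmpleLib.exists_dim A
  obtain ⟨i, j, -, hi, -, hvan, -⟩ := exists_index hL hg hnd (CubeConsLib.clA_dual hL)
  obtain ⟨n₀, hn₀⟩ := SerreVanLib.exists_vanishing A.hom hL hLa (Coh.structureModule A.left)
    (DevissLib.isCoh_structureModule _)
  obtain rfl : i = 0 := by
    by_contra h0
    refine hi ((index_square hL hnd (n := n₀ + 1) (by omega) i).2 ?_)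
    exact SerreVanLib.subsingleton_HH_of_iso (HilbPolyLib.unitLeft _).symm i
      (hn₀ _ (by nlinarith) i (Nat.pos_of_ne_zero h0))
  exact hvan p (by omega)

/-- Cohomology of a fibre is detected on any geometric fibre. -/
theorem subsingleton_fiberH_iff_geom {X S : Scheme.{u}} (f : X ⟶ S) [IsProper f] {F : X.Modules}
    (hF : PicF.IsInvertible F) (y : S) (p : ℕ) (Ω : Type u) [Field Ω] [Algebra (S.residueField y) Ω] :
    let σ := Spec.map (CommRingCat.ofHom (algebraMap (S.residueField y) Ω)) ≫ S.fromSpecResidueField y
    Subsingleton (Coh.HH (pullback f σ) ((Scheme.Modules.pullback (pullback.fst f σ)).obj F) p) ↔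
      Subsingleton (CohIII.fiberH f F y p) := by
  intro σ
  let K : Type u := S.residueField y
  let XK : Over (Spec (CommRingCat.of K)) := Over.mk (f.fiberToSpecResidueField y)
  haveI : IsProper XK.hom := MorphismProperty.pullback_snd (P := @IsProper) _ _ ‹IsProper f›
  let ψ := Spec.map (CommRingCat.ofHom (algebraMap (S.residueField y) Ω))
  let θ : ((bcF Ω).obj XK).left ⟶ pullback f σ :=
    (pullbackLeftPullbackSndIso f (S.fromSpecResidueField y) ψ).hom
  haveI : IsIso θ := inferInstanceAs (IsIso (pullbackLeftPullbackSndIso f (S.fromSpecResidueField y) ψ).hom)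
  have hθ : θ ≫ pullback.fst f σ = prBc (X := XK) Ω ≫ f.fiberι y := pullbackLeftPullbackSndIso_hom_fst _ _ _
  refine (subsingleton_HH_iff_of_iso θ _ p).symm.trans ?_
  refine Iff.trans ?_ (subsingleton_HH_bc_iff Ω (X := XK) (AmpleDevLib.isInvertible_pb (f.fiberι y) hF) p)
  let e := (Scheme.Modules.pullbackComp θ (pullback.fst f σ)).app F ≪≫ (Scheme.Modules.pullbackCongr hθ).app F ≪≫
    ((Scheme.Modules.pullbackComp (prBc (X := XK) Ω) (f.fiberι y)).app F).symm
  exact ⟨SerreVanLib.subsingleton_HH_of_iso e.symm p, SerreVanLib.subsingleton_HH_of_iso e p⟩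

/-- A relatively ample class on an abelian scheme has no higher cohomology on the fibres. -/
theorem subsingleton_fiberH_of_relAmple {S : Scheme.{u}} (A : Over S) [GrpObj A] [IsProper A.hom] [Smooth A.hom]
    [GeometricallyConnected A.hom] {L : A.left.Modules} (hL : PicF.IsInvertible L)
    (hample : RelAmple.IsRelAmple A.hom L) (y : S) {p : ℕ} (hp : 0 < p) :
    Subsingleton (CohIII.fiberH A.hom L y p) := by
  haveI := geometricallyIntegral_of_smooth_group A
  let Ω := AlgebraicClosure (S.residueField y)
  let σ := Spec.map (CommRingCat.ofHom (algebraMap (S.residueField y) Ω)) ≫ S.fromSpecResidueField y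
  refine (subsingleton_fiberH_iff_geom A.hom hL y p Ω).1 ?_
  let AΩ := (Over.pullback σ).obj A
  letI : GrpObj AΩ := Functor.grpObjObj
  haveI : IsProper AΩ.hom := inferInstanceAs (IsProper (pullback.snd A.hom σ))
  haveI : GeometricallyIntegral AΩ.hom := inferInstanceAs (GeometricallyIntegral (pullback.snd A.hom σ))
  exact subsingleton_HH_of_isAmple (A := AΩ)
    ((MiscFlat6.isRelAmple_iff_isAmple (pullback.snd A.hom σ) _).1 (MiscFlat6.isRelAmple_baseChange A.hom σ hample)) hp

/-- The higher direct images of a relatively ample class vanish and its direct image is locally free. -/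
theorem rpush_of_relAmple {S : Scheme.{u}} [IsLocallyNoetherian S] (A : Over S) [GrpObj A] [IsProper A.hom]
    [Smooth A.hom] [GeometricallyConnected A.hom] [HasInjectiveResolutions A.left.Modules] {L : A.left.Modules}
    (hL : PicF.IsInvertible L) (hample : RelAmple.IsRelAmple A.hom L) :
    (∀ i : ℕ, 0 < i → IsZero ((Coh.Rpush A.hom i).obj L)) ∧
      ∀ y : S, ∃ U : S.Opens, y ∈ U ∧ Nonempty (((Coh.push A.hom).obj L).restrict U.ι ≅
        FlatMod.freeMod (↑U) (CohIII.fiberRank A.hom L 0 y)) := by
  haveI : IsLocallyNoetherian A.left := LocallyOfFiniteType.isLocallyNoetherian A.hom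
  have hfl := (CohCmpLib.rank_one_hyps A.hom ((CohCmpLib.invertible_iff_rank_one L).1 hL)).2.2
  have hc : Coh.IsCoh L := CurvLib.isCoh_of_isInvertible hL
  have h := fun y p hp => subsingleton_fiberH_of_relAmple A hL hample y (p := p) hp
  have hz : ∀ i : ℕ, 0 < i → IsZero ((Coh.Rpush A.hom i).obj L) := fun i hi =>
    Groth.Agent.PerfLib.isZero_of_cover fun y => CohBCLib.exists_zero_nhd_rpush A.hom L hc hfl y i (h y i hi)
  exact ⟨hz, (Groth.Agent.S2390.result A.hom L hc hfl hz).2⟩

end AVIndexLib

end
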