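import Groth.Agent.AVIndexLib.KoszulDim
import Groth.Agent.AVIndexLib.TopPoinc
import Groth.Agent.AVDualLib.Dual
import Groth.Agent.AVAmpleLib.Exist
import Groth.Agent.AbSchLib.DimFinite
import Groth.Agent.S6558

/-!
The cohomology of the structure sheaf of an abelian variety over an algebraically closed field.
-/

set_option autoImplicit false
set_option maxHeartbeats 1000000
set_option maxRecDepth 8000
set_option backward.isDefEq.respectTransparency false
set_option linter.style.haveILetI false
set_option linter.unusedSectionVars false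

noncomputable section

universe u

open CategoryTheory CategoryTheory.Limits MonoidalCategory CartesianMonoidalCategory MonObj AlgebraicGeometry
open TopologicalSpace CohCmpLib IsLocalRing
open CubeConsLib AVVanishLib AVAmpleLib AVDualLib

namespace AVIndexLib

variable {k : Type u} [Field k]

/-- A regular system of parameters at a closed point. -/
theorem exists_regular_params {A : Over (Spec (CommRingCat.of k))} [GrpObj A] [IsProper A.hom]
    [GeometricallyIntegral A.hom] {g : ℕ} (hg : topologicalKrullDim A.left = (g : ℕ)) (z : A.left)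
    (hz : IsClosed ({z} : Set A.left)) :
    ∃ rs : List (A.left.presheaf.stalk z), RingTheory.Sequence.IsWeaklyRegular (A.left.presheaf.stalk z) rs ∧
      rs.length = g ∧ Ideal.ofList rs = maximalIdeal (A.left.presheaf.stalk z) := by
  letI : A.left.Over (Spec (CommRingCat.of k)) := ⟨A.hom⟩
  haveI : Smooth A.hom := AVAmpleLib.smooth_hom A
  haveI : Smooth (A.left ↘ Spec (CommRingCat.of k)) := ‹Smooth A.hom›
  haveI : IsIntegral A.left := GeometricallyIntegral.isIntegral_of_subsingleton A.hom
  haveI := Groth.Agent.S1535.result k A.left z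
  letI := Ideal.Quotient.field (maximalIdeal (A.left.presheaf.stalk z))
  obtain ⟨rs, hrs, hm⟩ := CommAlgDim.exists_isRegular_of_regular_quotient
    (J := maximalIdeal (A.left.presheaf.stalk z))
  refine ⟨rs, hrs.toIsWeaklyRegular, ?_, hm⟩
  have h1 := ringKrullDim_add_length_eq_ringKrullDim_of_isRegular rs hrs
  rw [ringKrullDim_eq_of_ringEquiv (Ideal.quotEquivOfEq hm), ringKrullDim_eq_zero_of_field, zero_add,
    ← FibDimLib.localDim_eq_stalk_of_isClosed A.hom hz, FibDimLib.localDim_of_irreducible A.hom z, hg] at h1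
  exact_mod_cast h1

/-- The regular property of a weakly regular sequence, elementwise. -/
theorem mem_of_isWeaklyRegular {R : Type u} [CommRing R] {rs : List R}
    (h : RingTheory.Sequence.IsWeaklyRegular R rs) (pre post : List R) (x : R) (he : rs = pre ++ x :: post)
    (r : R) (hr : x * r ∈ Ideal.ofList pre) : r ∈ Ideal.ofList pre := by
  subst he
  have h1 := ((RingTheory.Sequence.isWeaklyRegular_append_iff R pre (x :: post)).1 h).2
  have h2 := ((RingTheory.Sequence.isWeaklyRegular_cons_iff _ x post).1 h1).1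
  have e : Ideal.ofList pre • (⊤ : Submodule R R) = Ideal.ofList pre := Ideal.mul_top _
  have h3 : r ∈ Ideal.ofList pre • (⊤ : Submodule R R) := by
    rw [← Submodule.Quotient.mk_eq_zero]
    refine h2.right_eq_zero_of_smul ?_
    rw [← Submodule.Quotient.mk_smul, Submodule.Quotient.mk_eq_zero, e]
    exact hr
  rwa [e] at h3

/-- The stalk of a point is its function field. -/
theorem ker_stalkMap_eq {Z S : Scheme.{u}} [IsIntegral Z] [Subsingleton Z] (i : Z ⟶ S) [IsClosedImmersion i] (w : Z) :
    RingHom.ker (i.stalkMap w).hom = maximalIdeal (S.presheaf.stalk (i w)) := by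
  obtain rfl : w = genericPoint Z := Subsingleton.elim _ _
  letI : Field (Z.presheaf.stalk (genericPoint Z)) := inferInstanceAs (Field Z.functionField)
  exact IsLocalRing.eq_maximalIdeal (RingHom.ker_isMaximal_of_surjective _ (i.stalkMap_surjective _))

variable [IsAlgClosed k]

/-- In positive dimension, the fibre over the origin of the dual family computes the cohomology. -/
theorem finrank_HH_structure_pos {A : Over (Spec (CommRingCat.of k))} [GrpObj A] [IsProper A.hom]
    [GeometricallyIntegral A.hom] {g : ℕ} (hg : topologicalKrullDim A.left = (g : ℕ)) (hgpos : 0 < g) (n : ℕ) :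
    @Module.finrank k (Coh.HH A.left (Coh.structureModule A.left) n) _ _
      (@Coh.moduleOver k _ A.left ⟨A.hom⟩ (Coh.structureModule A.left) n) = g.choose n := by
  classical
  haveI : IsCommMonObj A := isCommMonObj_field
  obtain ⟨L, hLa⟩ := AVAmpleLib.exists_ample A
  obtain ⟨Y, hYg, hYp, hYi, π, hπm, hπf, hπs, Q, hQ, h⟩ := exists_quotPair hLa.1 fun K' iK hK => by
    haveI := hK.closed
    exact AVAmpleLib.isFinite_of_mumfordTriv hLa.1 ((MiscFlat6.isRelAmple_iff_isAmple A.hom L).2 hLa) iK
      ((hK.univ K' iK).2 ⟨𝟙 K', Category.id_comp iK⟩)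
  haveI : IsCommMonObj Y := isCommMonObj_field
  obtain ⟨F, hF, cF, hF0⟩ := exists_fam_module h
  have hgY : topologicalKrullDim Y.left = (g : ℕ) :=
    (AbSchLib.topologicalKrullDim_eq_of_finite_surjective π.left).symm.trans hg
  let e := (η[Y] : 𝟙_ (Over (Spec (CommRingCat.of k))) ⟶ Y).left
  haveI : IsClosedImmersion e := isClosedImmersion_eta Y
  have he : e ≫ Y.hom = 𝟙 _ := Over.w η[Y]
  haveI : IsFinite (e ≫ Y.hom) := by rw [he]; infer_instance
  let q := PicF.XTproj A.hom Y
  haveI : LocallyOfFinitePresentation A.hom := LocallyOfFinitePresentation.iff_locallyOfFiniteType.2 inferInstance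
  haveI : IsProper q := MorphismProperty.pullback_snd (P := @IsProper) A.hom Y.hom ‹_›
  haveI : Flat q := MorphismProperty.pullback_snd (P := @Flat) A.hom Y.hom inferInstance
  haveI : LocallyOfFinitePresentation q :=
    MorphismProperty.pullback_snd (P := @LocallyOfFinitePresentation) A.hom Y.hom inferInstance
  haveI : GeometricallyIntegral q := inferInstanceAs (GeometricallyIntegral (Limits.pullback.snd A.hom Y.hom))
  haveI : IsLocallyNoetherian Y.left := LocallyOfFiniteType.isLocallyNoetherian Y.hom
  haveI : IsLocallyNoetherian (PicF.XT A.hom Y) := LocallyOfFiniteType.isLocallyNoetherian q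
  haveI : HasInjectiveResolutions (PicF.XT A.hom Y).Modules := inferInstance
  -- the triviality locus is the origin
  have hfam1 : ∀ {T : Over (Spec (CommRingCat.of k))}, fam hQ (1 : T ⟶ Y) = 0 := fun {T} => by
    rw [fam, MonObj.comp_one]
    have e := h.mul_right (fst A T) (1 : _ ⟶ Y) 1
    rw [_root_.mul_one] at e
    exact (left_eq_add.1 e :)
  have hiff : ∀ {U : Scheme.{u}} (v : U ⟶ Y.left),
      pullA (A ◁ AbDual.ovrHom Y v).left (clA hF : PicA (A ⊗ Y).left) = 0 ↔ ∃ w, w ≫ e = v := fun {U} v => by
    rw [cF, pullA_fam, Category.comp_id]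
    have h1 : fam hQ (AbDual.ovrHom Y v) = 0 ↔ AbDual.ovrHom Y v = 1 :=
      ⟨fun h0 => eq_of_fam h (N := 0) (by rw [h0, hfam1, map_zero, add_zero]), fun h1 => by rw [h1, hfam1]⟩
    rw [h1, ← Category.comp_id (AbDual.ovrHom Y v), ovrHom_comp_eq_one_iff_left, Over.id_left, Category.comp_id]
    constructor
    · exact fun h2 => ⟨v ≫ Y.hom, h2.symm⟩
    · rintro ⟨w, rfl⟩
      rw [Category.assoc w, he, Category.comp_id]
  have hout : ∀ y p, (g < p ∨ y ∉ Set.range e) → Subsingleton (CohIII.fiberH q F y p) := fun y p hy =>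
    subsingleton_fiberH_of_nontrivial hF hF0 hg y p (hy.imp id fun hy Ω _ σ hσ h0 => hy (by
      obtain ⟨w, hw⟩ := (hiff σ).1 ((pullA_ovrHom_eq_zero_iff A hF σ).2 h0)
      exact ⟨w (closedPoint Ω), by rw [← Scheme.Hom.comp_apply, hw, hσ]⟩))
  have hloc : ∀ (w : (𝟙_ (Over (Spec (CommRingCat.of k)))).left) (I : Ideal (Y.left.presheaf.stalk (e w))),
      TrivOver q F (testMap (e w) (Y.left.presheaf.stalk (e w) ⧸ I)) ↔
        ∃ v, v ≫ e = testMap (e w) (Y.left.presheaf.stalk (e w) ⧸ I) := fun w I => by
    rw [trivOver_iff_pullA hF, ← pullA_ovrHom_eq_zero_iff A hF]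
    exact hiff _
  obtain ⟨hzero, -, hstalk, -, -⟩ := family_top (IsPullback.of_hasPullback A.hom Y.hom) hF hgpos e
    (fun z hz => by
      obtain ⟨rs, h1, h2, h3⟩ := exists_regular_seq hgY z hz
      exact ⟨rs, h1, h2, h3⟩)
    (fun y p hy => hout y p (Or.inr hy)) (fun y p hy => hout y p (Or.inl hy)) fun w I _ => hloc w I
  -- the origin
  haveI : IsIntegral (𝟙_ (Over (Spec (CommRingCat.of k)))).left :=
    inferInstanceAs (IsIntegral (Spec (CommRingCat.of k)))
  haveI : Subsingleton (𝟙_ (Over (Spec (CommRingCat.of k)))).left := inferInstanceAs (Subsingleton (PrimeSpectrum k))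
  let w : (𝟙_ (Over (Spec (CommRingCat.of k)))).left := closedPoint k
  obtain ⟨eg⟩ := hstalk w
  rw [ker_stalkMap_eq e w] at eg
  let z : Y.left := e w
  have hzc : IsClosed ({z} : Set Y.left) := by
    have := e.isClosedEmbedding.isClosedMap ({w} : Set _) ((Set.subsingleton_of_subsingleton).eq_singleton_of_mem
      (Set.mem_univ w) ▸ isClosed_univ)
    rwa [Set.image_singleton] at this
  obtain ⟨rs, hrs, hlen, hspan⟩ := exists_regular_params hgY z hzc
  -- the chart
  have hFc := CurvLib.isCoh_of_isInvertible hF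
  haveI : Coh.IsQCoh F := hFc.1
  obtain ⟨hq', hfp, hfl⟩ := CohCmpLib.rank_one_hyps q ((CohCmpLib.invertible_iff_rank_one F).1 hF)
  obtain ⟨W, hW, hz, -⟩ := exists_isAffineOpen_mem_and_subset (x := z) (U := ⊤) trivial
  obtain ⟨K⟩ := exists_chart hfp hfl hW
  haveI : ∀ p, Coh.IsQCoh ((Coh.Rpush q p).obj F) := fun p => (Groth.Agent.S0036.result q F hFc p).1
  let R : Type u := Y.left.presheaf.stalk z
  letI : Algebra K.A₀ R := stalkAlg K hz
  haveI : IsNoetherianRing R := inferInstanceAs (IsNoetherianRing (Y.left.presheaf.stalk z))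
  have E := fun p => stalk_equiv hW K hz p (F := F)
  have hz0 : ∀ p, p ≠ g → Subsingleton (HmB (K.a p) (K.b p) R) := fun p hp => by
    obtain ⟨e'⟩ := E p
    haveI := ModuleCat.subsingleton_of_isZero ((DevissLib.St z).map_isZero (hzero p hp))
    exact @Equiv.subsingleton _ _ e'.toEquiv (by assumption)
  -- the residue field
  letI := K.alg (le_refl W)
  let qp := hW.primeIdealOf ⟨z, hz⟩
  haveI : qp.asIdeal.IsMaximal := hW.primeIdealOf_isMaximal_of_isClosed ⟨z, hz⟩ hzc
  let κ : Type u := qp.asIdeal.ResidueField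
  letI : Algebra Γ(Y.left, W) R := (Y.left.presheaf.germ W z hz).hom.toAlgebra
  haveI : IsLocalization.AtPrime R qp.asIdeal := hW.isLocalization_stalk ⟨z, hz⟩
  haveI : IsScalarTower K.A₀ Γ(Y.left, W) R := IsScalarTower.of_algebraMap_eq fun x => rfl
  have hu : ∀ s : qp.asIdeal.primeCompl, IsUnit (algebraMap Γ(Y.left, W) κ s) := fun s =>
    isUnit_iff_ne_zero.2 fun h => s.2 ((Ideal.ker_algebraMap_residueField qp.asIdeal).le h)
  letI : Algebra R κ := (IsLocalization.lift (S := R) hu).toAlgebra
  haveI : IsScalarTower Γ(Y.left, W) R κ := IsScalarTower.of_algebraMap_eq fun x =>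
    (IsLocalization.lift_eq (S := R) hu x).symm
  haveI : IsScalarTower K.A₀ R κ := IsScalarTower.of_algebraMap_eq fun x => by
    rw [IsScalarTower.algebraMap_apply K.A₀ Γ(Y.left, W) R, ← IsScalarTower.algebraMap_apply Γ(Y.left, W) R κ,
      ← IsScalarTower.algebraMap_apply K.A₀ Γ(Y.left, W) κ]
  have hκ : Function.Surjective (algebraMap R κ) := fun c => by
    obtain ⟨x, rfl⟩ := Ideal.algebraMap_residueField_surjective qp.asIdeal c
    exact ⟨algebraMap Γ(Y.left, W) R x, (IsScalarTower.algebraMap_apply Γ(Y.left, W) R κ x).symm⟩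
  have hκker : RingHom.ker (algebraMap R κ) = Ideal.ofList rs :=
    (IsLocalRing.eq_maximalIdeal (RingHom.ker_isMaximal_of_surjective _ hκ)).trans hspan.symm
  -- the lengths
  haveI := fun p => projective_term K R p
  have hex : ∀ p, p ≠ g → ∀ v, diff K R p v = 0 → v ∈ bdry (fun i => (term K R i : Type u)) (diff K R) p := by
    intro p hp v hv
    obtain ⟨σ, hσ⟩ := exists_class K R p v hv
    haveI := hz0 p hp
    simpa using hσ 1 (Subsingleton.elim _ _)
  obtain ⟨Eg⟩ := E g
  have hkill : ∀ x ∈ rs, ∀ v, diff K R g v = 0 → x • v ∈ bdry (fun i => (term K R i : Type u)) (diff K R) g := by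
    intro x hx v hv
    obtain ⟨σ, hσ⟩ := exists_class K R g v hv
    refine hσ x ((Eg.trans eg).injective ?_)
    rw [map_smul, map_zero]
    generalize (Eg.trans eg) σ = c
    induction c using Submodule.Quotient.induction_on with
    | H r =>
      rw [← Submodule.Quotient.mk_smul, Submodule.Quotient.mk_eq_zero]
      exact Ideal.mul_mem_right r _ (hspan ▸ Ideal.subset_span hx)
  have htop : Module.length R (Hh (diff K R) (⊥ : Ideal R) g) = 1 := by
    rw [(hhBot (d := diff K R) g).length_eq, show Module.length R (LinearMap.ker (diff K R g) ⧸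
      (bdry (fun i => (term K R i : Type u)) (diff K R) g).comap (LinearMap.ker (diff K R g)).subtype) =
      Module.length R (R ⧸ maximalIdeal R) from ((topEquiv K R g).symm.trans (Eg.trans eg)).length_eq]
    exact Module.length_eq_one_iff.2 (isSimpleModule_iff_isCoatom.2 (maximalIdeal.isMaximal R).out)
  obtain ⟨hlow, hbin⟩ := length_hh_ofList (diff_diff K R) (fun i hi => subsingleton_term K R i hi) hex htop rs hkill
    (mem_of_isWeaklyRegular hrs)
  have hκfib : ∀ p, (CohIII.fiberRank q F p z : ℕ∞) = Module.length R (Hh (diff K R) (Ideal.ofList rs) p) := by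
    intro p
    haveI := finite_term K κ p
    haveI : Module.Finite κ (topMod K κ p) := inferInstance
    rw [← hκker, (hhRed R K κ hκ p).length_eq, Module.length_eq_of_surjective hκ, Module.length_eq_finrank,
      show z = hW.fromSpec qp from (hW.fromSpec_primeIdealOf ⟨z, hz⟩).symm, (K.fibre_spec hW le_rfl p qp).1,
      (topEquiv K κ p).finrank_eq]
  -- the fibre is the variety
  obtain ⟨tm⟩ : TrivOver q F (testMap z (R ⧸ maximalIdeal R)) := by
    refine (hloc w _).2 ?_
    obtain ⟨v, hv⟩ := exists_factor_ker e w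
    rw [← ker_stalkMap_eq e w]
    exact ⟨v, hv⟩
  let κz : Type u := Y.left.residueField z
  let ψ : CommRingCat.of k ⟶ CommRingCat.of κz := Spec.preimage (Y.left.fromSpecResidueField z ≫ Y.hom)
  letI : Algebra k κz := ψ.hom.toAlgebra
  letI : A.left.Over (Spec (CommRingCat.of k)) := ⟨A.hom⟩
  letI : (q.fiber z).Over (Spec (CommRingCat.of κz)) := ⟨q.fiberToSpecResidueField z⟩
  haveI : IsProper (A.left ↘ Spec (CommRingCat.of k)) := ‹IsProper A.hom›
  have sq : IsPullback (q.fiberι z ≫ Limits.pullback.fst A.hom Y.hom) (q.fiberToSpecResidueField z) A.hom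
      (Spec.map (CommRingCat.ofHom (algebraMap k κz))) := by
    rw [show Spec.map (CommRingCat.ofHom (algebraMap k κz)) = Y.left.fromSpecResidueField z ≫ Y.hom from
      Spec.map_preimage _]
    exact (IsPullback.of_hasPullback q (Y.left.fromSpecResidueField z)).paste_horiz
      (IsPullback.of_hasPullback A.hom Y.hom)
  have hfin : CohIII.fiberRank q F n z = Module.finrank k (Coh.HH A.left (Coh.structureModule A.left) n) := by
    rw [← Groth.Agent.S6558.finrank_HH_twist k κz (X := A.left) (Y := q.fiber z) _ sq n]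
    obtain ⟨t⟩ : Nonempty (CohIII.fiberMod q F z ≅ Coh.structureModule (q.fiber z)) := ⟨tm⟩
    exact (CurvLib.hIso (k := κz) t n).finrank_eq
  show Module.finrank k (Coh.HH A.left (Coh.structureModule A.left) n) = g.choose n
  have key := hκfib n
  rcases le_or_gt n g with hn | hn
  · rw [hbin n (g - n) (Nat.add_sub_cancel' hn), hlen, Nat.choose_symm hn] at key
    rw [← hfin]
    exact_mod_cast key
  · rw [hlow n hn] at key
    rw [← hfin, Nat.choose_eq_zero_of_lt hn]
    exact_mod_cast key

/-- The cohomology of the structure sheaf of an abelian variety. -/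
theorem finrank_HH_structure {A : Over (Spec (CommRingCat.of k))} [GrpObj A] [IsProper A.hom]
    [GeometricallyIntegral A.hom] {g : ℕ} (hg : topologicalKrullDim A.left = (g : ℕ)) (n : ℕ) :
    @Module.finrank k (Coh.HH A.left (Coh.structureModule A.left) n) _ _
      (@Coh.moduleOver k _ A.left ⟨A.hom⟩ (Coh.structureModule A.left) n) = g.choose n := by
  rcases Nat.eq_zero_or_pos g with rfl | hgpos
  · haveI : IsIntegral A.left := GeometricallyIntegral.isIntegral_of_subsingleton A.hom
    haveI : Subsingleton A.left := AVAmpleLib.subsingleton_of_dim_zero hg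
    haveI := isIso_hom_point A
    letI : A.left.Over (Spec (CommRingCat.of k)) := ⟨A.hom⟩
    haveI : IsProper (A.left ↘ Spec (CommRingCat.of k)) := ‹IsProper A.hom›
    haveI := CurvLib.isNoetherian k (X := A.left)
    rcases Nat.eq_zero_or_pos n with rfl | hn
    · letI := CurvLib.secModule (k := k) (Coh.structureModule A.left)
      show Module.finrank k (Coh.HH A.left (Coh.structureModule A.left) 0) = _
      rw [(CurvLib.hhZeroEquiv (k := k) (Coh.structureModule A.left)).finrank_eq, Nat.choose_self]
      exact finrank_gamma_of_isIso A.hom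
    · rw [Nat.choose_eq_zero_of_lt hn]
      haveI := CurvLib.subsingleton_HH_of_dim_le (X := A.left) (Coh.structureModule A.left) (d := 0)
        (by exact_mod_cast hg.le) n hn
      exact Module.finrank_zero_of_subsingleton
  · exact finrank_HH_structure_pos hg hgpos n

end AVIndexLib

end
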