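import Groth.Agent.AVIndexLib.SwapFam

/-!
The two homomorphisms attached to a correspondence.
-/

set_option autoImplicit false
set_option maxHeartbeats 1000000
set_option maxRecDepth 8000
set_option backward.isDefEq.respectTransparency false
set_option linter.style.haveILetI false
set_option linter.unusedSectionVars false

noncomputable section

universe u

open CategoryTheory CategoryTheory.Limits MonoidalCategory CartesianMonoidalCategory MonObj AlgebraicGeometry
open CubeConsLib AVVanishLib AVAmpleLib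

namespace AVIndexLib

variable {k : Type u} [Field k] {A B At Bt Btt : Over (Spec (CommRingCat.of k))}
  [GrpObj A] [IsProper A.hom] [GeometricallyIntegral A.hom]
  [GrpObj B] [IsProper B.hom] [GeometricallyIntegral B.hom] [GrpObj At] [GrpObj Bt] [GrpObj Btt]
  {φA : AgPol.DualMap A At} (hA : AbDual.IsDualAV Scheme.fppfPrecoverage A At φA)
  {φB : AgPol.DualMap B Bt} (hB : AbDual.IsDualAV Scheme.fppfPrecoverage B Bt φB)
  {φBt : AgPol.DualMap Bt Btt}
  {P : (PicF.XT B.hom Bt).Modules} (hP : PicF.IsInvertible P) (hPξ : AbDual.IsPoincareCl B Bt φB (PicF.cl P))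
  (h0 : AbDual.IsPicZeroCl Bt.hom B (PicF.pullCl (pullbackSymmetry Bt.hom B.hom).hom (PicF.cl P)))
  {T : (PicF.XT B.hom A).Modules} (hT : PicF.IsInvertible T)
  {N : (PicF.XT B.hom A).Modules} (hN : PicF.IsInvertible N)
  (cN : clA hN = clA hT - pullA (PicF.XTmap B.hom (toUnit A) ≫ PicF.XTmap B.hom η[A]) (clA hT))
  (hN0 : AbDual.IsPicZeroCl B.hom A (PicF.cl N))
  {N' : (PicF.XT A.hom B).Modules} (hN' : PicF.IsInvertible N')
  (cN' : clA hN' = pullA (pullbackSymmetry A.hom B.hom).hom (clA hT) -
    pullA ((PicF.XTmap A.hom (toUnit B) ≫ PicF.XTmap A.hom η[B]) ≫ (pullbackSymmetry A.hom B.hom).hom) (clA hT))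
  {tl : Btt ⟶ At} (htl : AbDual.IsTranspose (φB A (PicF.cl N)) φA φBt tl)

include hA hB hP hPξ h0 cN hN0 cN' htl in
/-- The second homomorphism of a correspondence is the transpose of the first after biduality. -/
theorem phi_swap_normalised :
    φA B (PicF.cl N') = φBt B (PicF.pullCl (pullbackSymmetry Bt.hom B.hom).hom (PicF.cl P)) ≫ tl := by
  haveI : IsIntegral A.left := GeometricallyIntegral.isIntegral_of_subsingleton A.hom
  let σ := (pullbackSymmetry A.hom B.hom).hom
  let qA := PicF.XTproj B.hom A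
  let qB := PicF.XTproj A.hom B
  let sA := PicF.secT B.hom η[B].left (Over.w η[B]) A
  let j : B.left ⟶ PicF.XT B.hom (𝟙_ (Over (Spec (CommRingCat.of k)))) :=
    Limits.pullback.lift (𝟙 _) B.hom ((Category.id_comp _).trans (Category.comp_id _).symm)
  have hj1 : j ≫ pullback.fst B.hom (𝟙_ (Over (Spec (CommRingCat.of k)))).hom = 𝟙 _ := Limits.pullback.lift_fst _ _ _
  have hj2 : j ≫ pullback.snd B.hom (𝟙_ (Over (Spec (CommRingCat.of k)))).hom = B.hom := Limits.pullback.lift_snd _ _ _
  have hσ1 : σ ≫ pullback.fst B.hom A.hom = pullback.snd A.hom B.hom := pullbackSymmetry_hom_comp_fst _ _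
  have hσ2 : σ ≫ pullback.snd B.hom A.hom = pullback.fst A.hom B.hom := pullbackSymmetry_hom_comp_snd _ _
  have hs1 : sA ≫ pullback.fst B.hom A.hom = A.hom ≫ η[B].left := Limits.pullback.lift_fst _ _ _
  have hs2 : sA ≫ pullback.snd B.hom A.hom = 𝟙 _ := Limits.pullback.lift_snd _ _ _
  have e1 : σ ≫ PicF.XTmap B.hom (toUnit A) = qB ≫ j := by
    apply Limits.pullback.hom_ext
    · rw [Category.assoc, XTmap_fst, hσ1, Category.assoc, hj1]
      exact (Category.comp_id _).symm
    · rw [Category.assoc, XTmap_snd, ← Category.assoc, hσ2, Category.assoc, hj2]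
      exact Limits.pullback.condition
  have e2 : (PicF.XTmap A.hom (toUnit B) ≫ PicF.XTmap A.hom η[B]) ≫ σ = σ ≫ qA ≫ sA := by
    apply Limits.pullback.hom_ext
    · rw [Category.assoc, Category.assoc, hσ1, XTmap_snd, ← Category.assoc (PicF.XTmap A.hom (toUnit B)),
        XTmap_snd, Category.assoc, Category.assoc, Category.assoc, hs1, ← Category.assoc σ, hσ2, ← Category.assoc,
        ← Category.assoc]
      congr 1
      exact (Limits.pullback.condition (f := A.hom) (g := B.hom)).symm
    · rw [Category.assoc, Category.assoc, hσ2, XTmap_fst, XTmap_fst, Category.assoc, Category.assoc, hs2]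
      exact hσ2.symm.trans (congrArg (σ ≫ ·) (Category.comp_id _).symm)
  have hz : ∀ x : Spec (CommRingCat.of k) ⟶ PicF.XT B.hom A, pullA x (clA hT) = 0 := fun x => by
    rw [pullA_clA _ hT]
    exact clA_eq_zero_of_local k (AmpleDevLib.isInvertible_pb x hT)
  have hsN : pullA sA (clA hN) = pullA sA (clA hT) := by
    rw [cN, map_sub, pullA_comp, sub_eq_self,
      show sA ≫ PicF.XTmap B.hom (toUnit A) ≫ PicF.XTmap B.hom η[A] = (toUnit A).left ≫
        ((PicF.secT B.hom η[B].left (Over.w η[B]) (𝟙_ (Over (Spec (CommRingCat.of k))))) ≫ PicF.XTmap B.hom η[A]) by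
        rw [← Category.assoc, secT_natural, Category.assoc],
      ← pullA_comp]
    exact (congrArg _ (hz _)).trans (map_zero _)
  have key := clA_eq_pullA_poincare_add hB hP hPξ hN hN0
  rw [hsN] at key
  refine phi_swap hA hP hPξ h0 (φB A (PicF.cl N)) htl hN'
    (AmpleDevLib.isInvertible_pb (j ≫ PicF.XTmap B.hom η[A]) hT) ?_
  rw [← pullA_clA _ hT, cN', e2, eq_sub_of_add_eq key.symm, cN, map_sub, map_sub, pullA_comp, pullA_comp, pullA_comp,
    pullA_comp, ← Category.assoc σ (PicF.XTmap B.hom (toUnit A)), e1, Category.assoc qB j]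
  abel

end AVIndexLib

end
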