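import Groth.Agent.AVIndexLib.CyclicDual
import Groth.Agent.AVIndexLib.Vanish

/-!
The top homology of a chart over a local base, when the bottom one is seen by a single class.
-/

set_option autoImplicit false
set_option maxHeartbeats 1000000
set_option maxRecDepth 8000
set_option backward.isDefEq.respectTransparency false
set_option linter.style.haveILetI false
set_option linter.unusedSectionVars false

noncomputable section

universe u

open CategoryTheory AlgebraicGeometry TensorProduct RingTheory.Sequence CohCmpLib IsLocalRing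

namespace AVIndexLib

variable {X S : Scheme.{u}} {f : X ⟶ S} {F : X.Modules} {W : S.Opens} (K : Chart f F W)

section Red

variable (R C : Type u) [CommRing R] [CommRing C] [Algebra K.A₀ R] [Algebra K.A₀ C] [Algebra R C]
  [IsScalarTower K.A₀ R C]

instance moduleTerm : ∀ p, Module R (term K C p)
  | 0 => inferInstanceAs (Module R (cokB (K.a 0) C))
  | j + 1 => inferInstanceAs (Module R (C ⊗[K.A₀] (K.mdl.P.X ((j + 1 : ℕ) : ℤ) : Type u)))

instance scalarTowerTerm : ∀ p, IsScalarTower R C (term K C p)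
  | 0 => inferInstanceAs (IsScalarTower R C (cokB (K.a 0) C))
  | j + 1 => inferInstanceAs (IsScalarTower R C (C ⊗[K.A₀] (K.mdl.P.X ((j + 1 : ℕ) : ℤ) : Type u)))

/-- The reduction of terms. -/
def red : ∀ p, (term K R p : Type u) →ₗ[R] (term K C p : Type u)
  | 0 => Submodule.mapQ (LinearMap.range ((K.a 0).baseChange R))
      ((LinearMap.range ((K.a 0).baseChange C)).restrictScalars R) (towV K.A₀ R C _) (by
        rintro _ ⟨x, rfl⟩
        exact ⟨towV K.A₀ R C _ x, towV_baseChange (K.a 0) x⟩)
  | j + 1 => towV K.A₀ R C _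

/-- A term as a quotient of the chart. -/
def toTerm : ∀ p : ℕ, R ⊗[K.A₀] (K.mdl.P.X (p : ℤ) : Type u) →ₗ[R] (term K R p : Type u)
  | 0 => Submodule.mkQ _
  | _ + 1 => LinearMap.id

theorem toTerm_surjective : ∀ p, Function.Surjective (toTerm K R p)
  | 0 => Submodule.mkQ_surjective _
  | _ + 1 => Function.surjective_id

theorem diff_toTerm : ∀ (p : ℕ) (y : R ⊗[K.A₀] (K.mdl.P.X (p : ℤ) : Type u)),
    diff K R p (toTerm K R p y) = (K.b p).baseChange R y
  | 0, _ => rfl
  | _ + 1, _ => rfl

theorem toTerm_mem_bdry_iff : ∀ (p : ℕ) (y : R ⊗[K.A₀] (K.mdl.P.X (p : ℤ) : Type u)),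
    toTerm K R p y ∈ bdry (fun i => (term K R i : Type u)) (diff K R) p ↔
      y ∈ LinearMap.range ((K.a p).baseChange R)
  | 0, y => by
    show (Submodule.Quotient.mk y : cokB (K.a 0) R) ∈ (⊥ : Submodule R (cokB (K.a 0) R)) ↔ _
    rw [Submodule.mem_bot, Submodule.Quotient.mk_eq_zero]
  | j + 1, y => by
    show y ∈ LinearMap.range (diff K R j) ↔ _
    rw [range_diff]

theorem red_toTerm : ∀ (p : ℕ) (y : R ⊗[K.A₀] (K.mdl.P.X (p : ℤ) : Type u)),
    red K R C p (toTerm K R p y) = toTerm K C p (towV K.A₀ R C _ y)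
  | 0, _ => rfl
  | _ + 1, _ => rfl

theorem red_diff (p : ℕ) (x : term K R p) : red K R C (p + 1) (diff K R p x) = diff K C p (red K R C p x) := by
  obtain ⟨y, rfl⟩ := toTerm_surjective K R p x
  rw [red_toTerm, diff_toTerm, diff_toTerm]
  exact (towV_baseChange (K.b p) y).symm

variable {R C}

theorem one_tmul_eq_zero_iff (hC : Function.Surjective (algebraMap R C)) {N : Type u} [AddCommGroup N] [Module R N]
    (x : N) : (1 : C) ⊗ₜ[R] x = 0 ↔ x ∈ RingHom.ker (algebraMap R C) • (⊤ : Submodule R N) := by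
  let I := RingHom.ker (algebraMap R C)
  constructor
  · intro h
    let Q := N ⧸ (I • (⊤ : Submodule R N))
    let fR : R →ₗ[R] C := Algebra.linearMap R C
    let ρ : C →ₗ[R] (N →ₗ[R] Q) :=
      ((LinearMap.ker fR).liftQ ((LinearMap.lsmul R (N →ₗ[R] Q)).flip (Submodule.mkQ _)) fun a ha =>
        LinearMap.ext fun n => (Submodule.Quotient.mk_eq_zero _).2 (Submodule.smul_mem_smul ha trivial)) ∘ₗ
        (fR.quotKerEquivOfSurjective hC).symm.toLinearMap
    have h1 : ρ 1 = Submodule.mkQ _ := by
      have : (fR.quotKerEquivOfSurjective hC).symm (1 : C) = Submodule.Quotient.mk (1 : R) := by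
        rw [LinearEquiv.symm_apply_eq]; exact (map_one (algebraMap R C)).symm
      simp only [ρ, LinearMap.comp_apply, LinearEquiv.coe_coe, this]
      exact one_smul R _
    have := congrArg (TensorProduct.lift ρ) h
    rw [TensorProduct.lift.tmul, h1, map_zero] at this
    exact (Submodule.Quotient.mk_eq_zero _).1 this
  · intro h
    refine Submodule.smul_induction_on h (fun r hr n hn => ?_) (fun a b ha hb => by rw [TensorProduct.tmul_add, ha, hb, add_zero])
    · rw [TensorProduct.tmul_smul, TensorProduct.smul_tmul', Algebra.smul_def, RingHom.mem_ker.1 hr, zero_mul,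
        TensorProduct.zero_tmul]

theorem towV_surjective (hC : Function.Surjective (algebraMap R C)) {V : Type u} [AddCommGroup V] [Module K.A₀ V] :
    Function.Surjective (towV K.A₀ R C V) := fun z => by
  induction z using TensorProduct.induction_on with
  | zero => exact ⟨0, map_zero _⟩
  | tmul c v => obtain ⟨r, rfl⟩ := hC c; exact ⟨r ⊗ₜ v, towV_tmul r v⟩
  | add a b ha hb =>
    obtain ⟨a', rfl⟩ := ha
    obtain ⟨b', rfl⟩ := hb
    exact ⟨a' + b', map_add _ _ _⟩

theorem towV_eq_zero_iff (hC : Function.Surjective (algebraMap R C)) {V : Type u} [AddCommGroup V] [Module K.A₀ V]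
    (x : R ⊗[K.A₀] V) : towV K.A₀ R C V x = 0 ↔ x ∈ RingHom.ker (algebraMap R C) • (⊤ : Submodule R (R ⊗[K.A₀] V)) := by
  let e := TensorProduct.AlgebraTensorModule.cancelBaseChange K.A₀ R C C V
  have he : e ((1 : C) ⊗ₜ[R] x) = towV K.A₀ R C V x := by
    induction x using TensorProduct.induction_on with
    | zero => simp
    | tmul r v => simp [e, towV_tmul, Algebra.smul_def]
    | add a b ha hb => rw [TensorProduct.tmul_add, map_add, map_add, ha, hb]
  rw [← one_tmul_eq_zero_iff hC, ← he, LinearEquiv.map_eq_zero_iff]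

theorem red_surjective (hC : Function.Surjective (algebraMap R C)) (p : ℕ) : Function.Surjective (red K R C p) := by
  intro z
  obtain ⟨y, rfl⟩ := toTerm_surjective K C p z
  obtain ⟨x, rfl⟩ := towV_surjective K hC y
  exact ⟨toTerm K R p x, red_toTerm K R C p x⟩

theorem red_eq_zero_iff (hC : Function.Surjective (algebraMap R C)) :
    ∀ (p : ℕ) (x : term K R p),
      red K R C p x = 0 ↔ x ∈ RingHom.ker (algebraMap R C) • (⊤ : Submodule R (term K R p : Type u))
  | 0, x => by
    induction x using Submodule.Quotient.induction_on with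
    | H y =>
      constructor
      · intro h
        obtain ⟨v, hv⟩ := (Submodule.Quotient.mk_eq_zero _).1 h
        obtain ⟨w, rfl⟩ := towV_surjective K hC v
        rw [towV_baseChange] at hv
        have h0 : towV K.A₀ R C _ (y - (K.a 0).baseChange R w) = 0 := by rw [map_sub, hv, sub_self]
        have := Submodule.mem_map_of_mem (f := (LinearMap.range ((K.a 0).baseChange R)).mkQ)
          ((towV_eq_zero_iff K hC _).1 h0)
        rw [Submodule.map_smul'', Submodule.map_top, Submodule.range_mkQ, map_sub,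
          show Submodule.mkQ (LinearMap.range ((K.a 0).baseChange R)) ((K.a 0).baseChange R w) = 0 from
            (Submodule.Quotient.mk_eq_zero _).2 ⟨w, rfl⟩, sub_zero] at this
        exact this
      · intro h
        refine Submodule.smul_induction_on h (fun r hr n hn => ?_) (fun a b ha hb => by rw [map_add, ha, hb, add_zero])
        rw [map_smul, ← algebraMap_smul C r, RingHom.mem_ker.1 hr, zero_smul]
  | j + 1, x => towV_eq_zero_iff K hC x

end Red

section Top

variable (R : Type u) [CommRing R] [Algebra K.A₀ R]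

/-- The homology of the terms. -/
abbrev topMod (p : ℕ) : Type u :=
  LinearMap.ker (diff K R p) ⧸ (bdry (fun i => (term K R i : Type u)) (diff K R) p).comap (LinearMap.ker (diff K R p)).subtype

/-- The homology of the chart is that of the terms. -/
def topEquiv (p : ℕ) : HmB (K.a p) (K.b p) R ≃ₗ[R] topMod K R p :=
  let θ : LinearMap.ker ((K.b p).baseChange R) →ₗ[R] topMod K R p :=
    Submodule.mkQ _ ∘ₗ ((toTerm K R p) ∘ₗ (LinearMap.ker ((K.b p).baseChange R)).subtype).codRestrict _
      fun y => LinearMap.mem_ker.2 ((diff_toTerm K R p y.1).trans y.2)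
  have hθ : Function.Surjective θ := fun z => by
    obtain ⟨⟨x, hx⟩, rfl⟩ := Submodule.mkQ_surjective _ z
    obtain ⟨y, rfl⟩ := toTerm_surjective K R p x
    exact ⟨⟨y, (diff_toTerm K R p y).symm.trans hx⟩, rfl⟩
  (Submodule.quotEquivOfEq _ _ (Submodule.ext fun y => by
    rw [LinearMap.mem_ker]
    exact (toTerm_mem_bdry_iff K R p y.1).symm.trans
      (Submodule.Quotient.mk_eq_zero ((bdry (fun i => (term K R i : Type u)) (diff K R) p).comap
        (LinearMap.ker (diff K R p)).subtype) (x := ⟨toTerm K R p y.1, _⟩)).symm)).trans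
    (θ.quotKerEquivOfSurjective hθ)

/-- A kernel element modulo an ideal, nonzero in the fibre. -/
def SecI [IsLocalRing R] (I : Ideal R) : Prop :=
  ∃ x : term K R 0, diff K R 0 x ∈ I • (⊤ : Submodule R (term K R 1 : Type u)) ∧
    x ∉ maximalIdeal R • (⊤ : Submodule R (term K R 0 : Type u))

variable [IsLocalRing R]

theorem finite_term : ∀ p, Module.Finite R (term K R p)
  | 0 => Module.Finite.quotient R _
  | j + 1 => inferInstanceAs (Module.Finite R (R ⊗[K.A₀] (K.mdl.P.X ((j + 1 : ℕ) : ℤ) : Type u)))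

theorem projective_term : ∀ p, Module.Projective R (term K R p)
  | 0 => by
    haveI : Module.Flat R (cokB (K.a 0) R) := K.fl_zero R
    exact projective_cokB (K.a 0)
  | j + 1 => inferInstanceAs (Module.Projective R (R ⊗[K.A₀] (K.mdl.P.X ((j + 1 : ℕ) : ℤ) : Type u)))

theorem subsingleton_term (p : ℕ) (hp : K.mdl.N < p) : Subsingleton (term K R p) := by
  obtain ⟨j, rfl⟩ : ∃ j, p = j + 1 := ⟨p - 1, by omega⟩
  haveI := ModuleCat.subsingleton_of_isZero (K.mdl.above ((j + 1 : ℕ) : ℤ) (by omega))
  refine (subsingleton_of_forall_eq 0 fun z => ?_ : Subsingleton (R ⊗[K.A₀] (K.mdl.P.X ((j + 1 : ℕ) : ℤ) : Type u)))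
  induction z using TensorProduct.induction_on with
  | zero => rfl
  | tmul t x => rw [Subsingleton.elim x 0, TensorProduct.tmul_zero]
  | add a b ha hb => rw [ha, hb, add_zero]

/-- The truncated terms. -/
def trunc (g i : ℕ) : Submodule R (term K R i : Type u) :=
  if i < g then ⊤ else if i = g then LinearMap.ker (diff K R i) else ⊥

variable {R} {g : ℕ}

/-- The top homology is the quotient by the smallest ideal with a kernel element. -/
theorem top_equiv (hg : 0 < g) (hzero : ∀ p, p ≠ g → Subsingleton (HmB (K.a p) (K.b p) R))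
    (rs : List R) (hrs : IsWeaklyRegular R rs) (hlen : g ≤ rs.length)
    (htor : ∀ x ∈ rs, ∃ n : ℕ, ∀ σ : HmB (K.a g) (K.b g) R, x ^ n • σ = 0)
    [Nontrivial (HmB (K.a g) (K.b g) R)]
    (m₀ : term K R 0) (h₁ : diff K R 0 m₀ ∈ maximalIdeal R • (⊤ : Submodule R (term K R 1 : Type u)))
    (h₂ : m₀ ∉ maximalIdeal R • (⊤ : Submodule R (term K R 0 : Type u)))
    (h₃ : ∀ x, diff K R 0 x ∈ maximalIdeal R • (⊤ : Submodule R (term K R 1 : Type u)) →
      ∃ a : R, x - a • m₀ ∈ maximalIdeal R • (⊤ : Submodule R (term K R 0 : Type u)))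
    {C : Type u} [CommRing C] [Algebra R C] (hC : Function.Surjective (algebraMap R C))
    (hle : RingHom.ker (algebraMap R C) ≤ maximalIdeal R) (hsec : SecI K R (RingHom.ker (algebraMap R C)))
    (hmin : ∀ I : Ideal R, I ≤ maximalIdeal R → SecI K R I → RingHom.ker (algebraMap R C) ≤ I)
    {r : ℕ} (e : C ⊗[R] HmB (K.a g) (K.b g) R ≃ₗ[C] (Fin r → C)) :
    Nonempty (HmB (K.a g) (K.b g) R ≃ₗ[R] C) := by
  classical
  haveI := finite_term K R
  haveI := projective_term K R
  have hexact : ∀ p, p ≠ g → ∀ v, diff K R p v = 0 → v ∈ bdry (fun i => (term K R i : Type u)) (diff K R) p := by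
    intro p hp v hv
    obtain ⟨σ, hσ⟩ := exists_class K R p v hv
    haveI := hzero p hp
    simpa using hσ 1 (Subsingleton.elim _ _)
  -- the splitting above the top degree
  obtain ⟨s, hs⟩ := exists_split (d := diff K R) (g := g) (diff_diff K R) (fun i hi => subsingleton_term K R i hi)
    (fun i hi v => hexact i hi.ne' v)
  let Z := LinearMap.ker (diff K R g)
  let π : (term K R g : Type u) →ₗ[R] Z := (LinearMap.id - s ∘ₗ diff K R g).codRestrict _ fun v => by
    rw [LinearMap.mem_ker, LinearMap.sub_apply, LinearMap.comp_apply, map_sub, hs]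
    exact sub_self _
  have hπ : ∀ z : Z, π z.1 = z := fun z => Subtype.ext (by
    show z.1 - s (diff K R g z.1) = z.1
    rw [LinearMap.mem_ker.1 z.2, map_zero, sub_zero])
  haveI hZf : Module.Finite R Z := Module.Finite.of_surjective π fun z => ⟨z.1, hπ z⟩
  haveI hZp : Module.Projective R Z := Module.Projective.of_split Z.subtype π (LinearMap.ext hπ)
  -- the truncated complex
  let M : ℕ → Type u := fun i => trunc K R g i
  have hmem : ∀ i (v : trunc K R g i), diff K R i v.1 ∈ trunc K R g (i + 1) := by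
    intro i v
    rcases lt_trichotomy (i + 1) g with h | h | h
    · rw [show trunc K R g (i + 1) = ⊤ from if_pos h]; trivial
    · rw [show trunc K R g (i + 1) = LinearMap.ker (diff K R (i + 1)) from
        (if_neg (not_lt.2 h.ge)).trans (if_pos h)]
      exact LinearMap.mem_ker.2 (diff_diff K R i v.1)
    · rw [show trunc K R g (i + 1) = ⊥ from (if_neg (not_lt.2 h.le)).trans (if_neg h.ne'), Submodule.mem_bot]
      rcases Nat.eq_or_lt_of_le (show g ≤ i from Nat.lt_succ_iff.1 h) with rfl | h'
      · exact LinearMap.mem_ker.1 ((show trunc K R g g = LinearMap.ker (diff K R g) from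
          (if_neg (lt_irrefl g)).trans (if_pos rfl)).le v.2)
      · rw [(Submodule.mem_bot R).1 ((show trunc K R g i = ⊥ from
          (if_neg (not_lt.2 h'.le)).trans (if_neg h'.ne')).le v.2), map_zero]
  let d : ∀ i, M i →ₗ[R] M (i + 1) := fun i => ((diff K R i) ∘ₗ (trunc K R g i).subtype).codRestrict _ (hmem i)
  have hdd : ∀ i z, d (i + 1) (d i z) = 0 := fun i z => Subtype.ext (diff_diff K R i z.1)
  have htop : trunc K R g g = Z := by unfold trunc; rw [if_neg (lt_irrefl g), if_pos rfl]
  have hlow : ∀ i, i < g → trunc K R g i = ⊤ := fun i hi => if_pos hi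
  have hbd : ∀ i, g < i → Subsingleton (M i) := fun i hi =>
    Submodule.subsingleton_iff_eq_bot.2 (by unfold trunc; rw [if_neg (by omega), if_neg (by omega)])
  haveI : ∀ i, Module.Finite R (M i) := fun i => by
    rcases lt_trichotomy i g with h | rfl | h
    · exact Module.Finite.equiv (LinearEquiv.ofTop _ (hlow i h)).symm
    · exact Module.Finite.equiv (LinearEquiv.ofEq _ _ htop.symm)
    · haveI := hbd i h; infer_instance
  haveI : ∀ i, Module.Projective R (M i) := fun i => by
    rcases lt_trichotomy i g with h | rfl | h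
    · exact Module.Projective.of_equiv (LinearEquiv.ofTop _ (hlow i h)).symm
    · exact Module.Projective.of_equiv (LinearEquiv.ofEq _ _ htop.symm)
    · haveI := hbd i h; infer_instance
  have hbdry : ∀ i, i ≤ g → ∀ v : M i, v ∈ bdry M d i ↔ v.1 ∈ bdry (fun i => (term K R i : Type u)) (diff K R) i := by
    intro i hi v
    cases i with
    | zero => exact (Submodule.mem_bot R).trans ((Subtype.ext_iff).trans (Submodule.mem_bot R).symm)
    | succ j =>
      constructor
      · rintro ⟨w, rfl⟩; exact ⟨w.1, rfl⟩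
      · rintro ⟨w, hw⟩
        exact ⟨⟨w, by rw [hlow j (by omega)]; trivial⟩, Subtype.ext hw⟩
  have hex : ∀ i, i < g → ∀ v, d i v = 0 → v ∈ bdry M d i := fun i hi v hv =>
    (hbdry i hi.le v).2 (hexact i hi.ne v.1 (congrArg Subtype.val hv))
  let E := topEquiv K R g
  have htor' : ∀ x ∈ rs, ∃ n : ℕ, ∀ v, x ^ n • v ∈ bdry M d g := by
    intro x hx
    obtain ⟨n, hn⟩ := htor x hx
    refine ⟨n, fun v => (hbdry g le_rfl _).2 ?_⟩
    obtain ⟨σ, hσ⟩ := E.surjective (Submodule.Quotient.mk ⟨v.1, htop.le v.2⟩)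
    have := congrArg E (hn σ)
    rw [map_smul, map_zero, hσ, ← Submodule.Quotient.mk_smul, Submodule.Quotient.mk_eq_zero] at this
    exact this
  -- the bottom of the dual
  obtain ⟨b, hb, hle', x₁, hx₁, hx₁'⟩ := exists_cyclic_dual (diff K R 0) m₀ h₁ h₂ h₃
  let ι₀ : (term K R 0 : Type u) →ₗ[R] M 0 := (LinearEquiv.ofTop _ (hlow 0 hg)).symm.toLinearMap
  have hι : ∀ x, (ι₀ x).1 = x := fun x => rfl
  have hres : ∀ {q : M 0 →ₗ[R] R} {c : R} {q' : (term K R 1 : Type u) →ₗ[R] R} {b : (term K R 0 : Type u) →ₗ[R] R},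
      q ∘ₗ ι₀ = c • b + q' ∘ₗ diff K R 0 →
      q = c • (b ∘ₗ (trunc K R g 0).subtype) + (q' ∘ₗ (trunc K R g 1).subtype) ∘ₗ d 0 := by
    intro q c q' b h
    refine LinearMap.ext fun v => ?_
    have := LinearMap.congr_fun h v.1
    exact this
  have hann : ∀ a ∈ RingHom.ker (algebraMap R C), ∀ q : M 0 →ₗ[R] R, ∃ q' : M 1 →ₗ[R] R, a • q = q' ∘ₗ d 0 := by
    intro a ha q
    have hle₀ : annDual (diff K R 0) ≤ maximalIdeal R :=
      (hle' _ _ hsec.choose_spec.1 hsec.choose_spec.2 hle).trans hle
    obtain ⟨p, hp⟩ := hmin _ hle₀ ⟨x₁, hx₁, hx₁'⟩ ha (q ∘ₗ ι₀)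
    exact ⟨p ∘ₗ (trunc K R g 1).subtype, LinearMap.ext fun v => LinearMap.congr_fun hp v.1⟩
  obtain ⟨hkill, hcomm⟩ := top_cyclic hdd hbd hex rs hrs hlen htor' (b ∘ₗ (trunc K R g 0).subtype) fun q => by
    obtain ⟨c, q', h⟩ := hb (q ∘ₗ ι₀)
    exact ⟨c, q' ∘ₗ (trunc K R g 1).subtype, hres h⟩
  -- transport to the homology of the chart
  let T := topMod K R g
  haveI : Nontrivial T := E.toEquiv.symm.nontrivial
  have hk : ∀ a : R, algebraMap R C a = 0 → ∀ x : T, a • x = 0 := by
    intro a ha x
    induction x using Submodule.Quotient.induction_on with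
    | H z =>
      rw [← Submodule.Quotient.mk_smul, Submodule.Quotient.mk_eq_zero]
      exact (hbdry g le_rfl _).1 (hkill a (hann a ha) ⟨z.1, htop.ge z.2⟩)
  have hc : ∀ u v : T →ₗ[R] T, ∀ x, u (v x) = v (u x) := by
    intro u v x
    have lift : ∀ u : T →ₗ[R] T, ∃ w : M g →ₗ[R] M g, (∀ y ∈ bdry M d g, w y ∈ bdry M d g) ∧
        ∀ y : M g, u (Submodule.Quotient.mk ⟨y.1, htop.le y.2⟩) = Submodule.Quotient.mk ⟨(w y).1, htop.le (w y).2⟩ := by
      intro u
      obtain ⟨w₀, hw₀⟩ := Module.projective_lifting_property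
        ((bdry (fun i => (term K R i : Type u)) (diff K R) g).comap (LinearMap.ker (diff K R g)).subtype).mkQ
        (u ∘ₗ ((bdry (fun i => (term K R i : Type u)) (diff K R) g).comap (LinearMap.ker (diff K R g)).subtype).mkQ) (Submodule.mkQ_surjective _)
      let j := LinearEquiv.ofEq _ _ htop
      refine ⟨j.symm.toLinearMap ∘ₗ w₀ ∘ₗ j.toLinearMap, fun y hy => (hbdry g le_rfl _).2 ?_, fun y => ?_⟩
      · have := LinearMap.congr_fun hw₀ (j y)
        rw [LinearMap.comp_apply, LinearMap.comp_apply, Submodule.mkQ_apply, Submodule.mkQ_apply,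
          (Submodule.Quotient.mk_eq_zero _).2 (show j y ∈ (bdry (fun i => (term K R i : Type u)) (diff K R) g).comap (LinearMap.ker (diff K R g)).subtype from (hbdry g le_rfl y).1 hy),
          map_zero, Submodule.Quotient.mk_eq_zero] at this
        exact this
      · exact (LinearMap.congr_fun hw₀ (j y)).symm
    obtain ⟨U, hU, hUu⟩ := lift u
    obtain ⟨V, hV, hVv⟩ := lift v
    induction x using Submodule.Quotient.induction_on with
    | H z =>
      have := hcomm U V hU hV ⟨z.1, htop.ge z.2⟩
      rw [show (Submodule.Quotient.mk z : T) = Submodule.Quotient.mk ⟨(⟨z.1, htop.ge z.2⟩ : M g).1,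
        htop.le (htop.ge z.2)⟩ from rfl, hVv, hUu, hUu, hVv, Submodule.Quotient.eq]
      exact (hbdry g le_rfl _).1 this
  obtain ⟨e'⟩ := nonempty_equiv_of_comm hC hk hc ((LinearEquiv.baseChange R C _ _ E.symm).trans e)
  exact ⟨E.trans e'⟩

end Top

end AVIndexLib

end
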