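import Groth.Agent.AVIndexLib.TopDual
import Groth.Agent.AVAmpleLib.KLPoints
import Groth.Agent.AVAmpleLib.Exist
import Groth.Agent.AVAmpleLib.PTorsion
import Groth.Agent.MiscFlat6.LCPoint
import Groth.Agent.CMFlatLib.DimFormula

/-!
The dual of an abelian variety has at least its dimension, over any field.
-/

set_option autoImplicit false
set_option maxHeartbeats 1000000
set_option maxRecDepth 8000
set_option backward.isDefEq.respectTransparency false
set_option linter.style.haveILetI false
set_option linter.unusedSectionVars false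

noncomputable section

universe u

open CategoryTheory CategoryTheory.Limits MonoidalCategory CartesianMonoidalCategory MonObj AlgebraicGeometry
open TopologicalSpace CohCmpLib
open CubeConsLib AVVanishLib

namespace AVIndexLib

variable {k : Type u} [Field k]

/-- The unit of a separated group scheme over a field is a closed immersion. -/
theorem isClosedImmersion_eta (B : Over (Spec (CommRingCat.of k))) [GrpObj B] [IsSeparated B.hom] :
    IsClosedImmersion (η[B] : 𝟙_ (Over (Spec (CommRingCat.of k))) ⟶ B).left := by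
  haveI : IsClosedImmersion ((η[B] : 𝟙_ (Over (Spec (CommRingCat.of k))) ⟶ B).left ≫ B.hom) := by
    rw [show (η[B] : 𝟙_ (Over (Spec (CommRingCat.of k))) ⟶ B).left ≫ B.hom = 𝟙 _ from Over.w η[B]]
    infer_instance
  exact IsClosedImmersion.of_comp _ B.hom

/-- A map is sent to the unit exactly when its composite is constant at the unit. -/
theorem ovrHom_comp_eq_one_iff_left {T B : Over (Spec (CommRingCat.of k))} [GrpObj B] (ψ : T ⟶ B) {U : Scheme.{u}}
    (v : U ⟶ T.left) :
    AbDual.ovrHom T v ≫ ψ = 1 ↔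
      v ≫ ψ.left = (v ≫ T.hom) ≫ (η[B] : 𝟙_ (Over (Spec (CommRingCat.of k))) ⟶ B).left := by
  constructor
  · intro h
    have h' := congrArg Over.Hom.left h
    rw [Over.comp_left, Hom.one_def, Over.comp_left] at h'
    exact h'
  · intro h
    ext1
    rw [Over.comp_left, Hom.one_def, Over.comp_left]
    exact h

/-- A map from the spectrum of a field with image the unit is constant at the unit. -/
theorem eq_eta_of_apply {B : Over (Spec (CommRingCat.of k))} [GrpObj B] [IsSeparated B.hom] {C : Type u} [Field C]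
    (v : Spec (CommRingCat.of C) ⟶ B.left)
    (h : v (IsLocalRing.closedPoint C) ∈ Set.range (η[B] : 𝟙_ (Over (Spec (CommRingCat.of k))) ⟶ B).left) :
    v = (v ≫ B.hom) ≫ (η[B] : 𝟙_ (Over (Spec (CommRingCat.of k))) ⟶ B).left := by
  let e := (η[B] : 𝟙_ (Over (Spec (CommRingCat.of k))) ⟶ B).left
  haveI : IsClosedImmersion e := isClosedImmersion_eta B
  let π := Limits.pullback.fst v e
  haveI : IsClosedImmersion π := MorphismProperty.pullback_fst (P := @IsClosedImmersion) _ _ ‹_›
  haveI : Surjective π := ⟨fun x => by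
    obtain rfl : x = IsLocalRing.closedPoint C := Subsingleton.elim (α := PrimeSpectrum C) _ _
    obtain ⟨p, hp⟩ := h
    obtain ⟨z, hz, -⟩ := Scheme.Pullback.exists_preimage_pullback (f := v) (g := e) _ p hp.symm
    exact ⟨z, hz⟩⟩
  haveI : IsIso π := isIso_of_isClosedImmersion_of_surjective π
  have hv : v = (inv π ≫ Limits.pullback.snd v e) ≫ e := by
    rw [Category.assoc, ← Limits.pullback.condition]
    exact (IsIso.inv_hom_id_assoc π v).symm
  have he : e ≫ B.hom = 𝟙 _ := Over.w η[B]
  have hh := congrArg (· ≫ B.hom) hv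
  simp only [Category.assoc, he] at hh
  conv_lhs => rw [hv]
  congr 1
  exact (hh.trans (by simp)).symm

section Mumford

variable {A : Over (Spec (CommRingCat.of k))} [GrpObj A] [IsProper A.hom] [GeometricallyIntegral A.hom]
  {L : A.left.Modules} (hL : PicF.IsInvertible L)

/-- The Mumford class of an invertible module. -/
theorem exists_mumford : ∃ (Λ : (PicF.XT A.hom A).Modules) (hΛ : PicF.IsInvertible Λ),
    (clA hΛ : PicA (A ⊗ A).left) = P hL (fst A A * snd A A) - P hL (fst A A) - P hL (snd A A) := by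
  have hμ := AmpleDevLib.isInvertible_pb (fst A A * snd A A).left hL
  have h₁ := AmpleDevLib.isInvertible_pb (fst A A).left hL
  have h₂ := AmpleDevLib.isInvertible_pb (snd A A).left hL
  have hd := HilbPolyLib.isInvertible_tensor hμ (MiscFlat6.dual_isInvertible h₁)
  exact ⟨_, HilbPolyLib.isInvertible_tensor hd (MiscFlat6.dual_isInvertible h₂), by
    rw [P_eq hL, P_eq hL, P_eq hL, sub_eq_add_neg, sub_eq_add_neg, ← clA_dual h₁, ← clA_dual h₂, ← clA_tensor,
      ← clA_tensor]⟩

variable {Λ : (PicF.XT A.hom A).Modules} {hΛ : PicF.IsInvertible Λ}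
  (cΛ : (clA hΛ : PicA (A ⊗ A).left) = P hL (fst A A * snd A A) - P hL (fst A A) - P hL (snd A A))

include cΛ

theorem mumford_slice_one :
    pullA (lift (𝟙 A) (toUnit A ≫ (1 : 𝟙_ (Over (Spec (CommRingCat.of k))) ⟶ A))).left (clA hΛ) = 0 := by
  show pullA (lift (𝟙 A) (toUnit A ≫ (1 : 𝟙_ (Over (Spec (CommRingCat.of k))) ⟶ A))).left
    (clA hΛ : PicA (A ⊗ A).left) = 0
  rw [cΛ, map_sub, map_sub, pullA_P, pullA_P, pullA_P, MonObj.comp_mul, lift_fst, lift_snd, MonObj.comp_one,
    _root_.mul_one, sub_self, zero_sub, neg_eq_zero, P_one, pullA_clA, clA_eq_zero_of_local, map_zero]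

/-- The Mumford class is algebraically trivial on the fibres. -/
theorem isPicZeroCl_mumford : AbDual.IsPicZeroCl A.hom A (PicF.cl Λ) := by
  refine ⟨Λ, rfl, hΛ, fun s Ω _ _ σ _ => ?_⟩
  haveI : IsIntegral A.left := GeometricallyIntegral.isIntegral_of_subsingleton A.hom
  let q := PicF.XTproj A.hom A
  let p := Limits.pullback.fst A.hom A.hom
  let σ' := σ ≫ A.hom
  let X := Limits.pullback q σ
  let xs : X ⟶ Spec (CommRingCat.of Ω) := Limits.pullback.snd q σ
  let T := Limits.pullback A.hom σ'
  let qT : T ⟶ Spec (CommRingCat.of Ω) := Limits.pullback.snd A.hom σ'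
  haveI : GeometricallyIntegral qT := inferInstanceAs (GeometricallyIntegral (Limits.pullback.snd A.hom σ'))
  haveI : IsProper qT := MorphismProperty.pullback_snd (P := @IsProper) _ _ ‹_›
  haveI : IsIntegral T := GeometricallyIntegral.isIntegral_of_subsingleton qT
  let η' : Spec (CommRingCat.of k) ⟶ A.left := (η[A] : 𝟙_ (Over (Spec (CommRingCat.of k))) ⟶ A).left
  have hη : η' ≫ A.hom = 𝟙 _ := Over.w η[A]
  let t : Spec (CommRingCat.of Ω) ⟶ T := Limits.pullback.lift σ (𝟙 _) (Category.id_comp _).symm
  let t₀ : Spec (CommRingCat.of Ω) ⟶ T := Limits.pullback.lift (σ' ≫ η') (𝟙 _) (by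
    rw [Category.assoc, hη, Category.comp_id, Category.id_comp])
  let m : Limits.pullback xs qT ⟶ PicF.XT A.hom A := Limits.pullback.lift
    (Limits.pullback.fst xs qT ≫ Limits.pullback.fst q σ ≫ p)
    (Limits.pullback.snd xs qT ≫ Limits.pullback.fst A.hom σ') (by
      rw [Category.assoc, Category.assoc, Category.assoc, show p ≫ A.hom = q ≫ A.hom from Limits.pullback.condition,
        Limits.pullback.condition_assoc (f := q) (g := σ),
        Limits.pullback.condition (f := A.hom) (g := σ'), Limits.pullback.condition_assoc (f := xs) (g := qT)])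
  letI : X.Over (Spec (CommRingCat.of Ω)) := ⟨xs⟩
  have hM := AmpleDevLib.isInvertible_pb m hΛ
  have hsl : ∀ (a : Spec (CommRingCat.of Ω) ⟶ T) (ha : a ≫ qT = 𝟙 _),
      Pic13.sliceAt Ω X qT a ha ≫ m ≫ p = Limits.pullback.fst q σ ≫ p ∧
      Pic13.sliceAt Ω X qT a ha ≫ m ≫ q = xs ≫ a ≫ Limits.pullback.fst A.hom σ' := fun a ha => by
    constructor
    · rw [show m ≫ p = _ from Limits.pullback.lift_fst _ _ _, ← Category.assoc]
      exact (congrArg (· ≫ _) (Limits.pullback.lift_fst _ _ _)).trans (Category.id_comp _)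
    · rw [show m ≫ q = _ from Limits.pullback.lift_snd _ _ _, ← Category.assoc]
      exact (congrArg (· ≫ _) (Limits.pullback.lift_snd _ _ _)).trans (Category.assoc _ _ _)
  refine ⟨T, qT, inferInstance, inferInstance, inferInstance, _, hM, t, t₀, Limits.pullback.lift_snd _ _ _,
    Limits.pullback.lift_snd _ _ _, ?_, ?_⟩
  · show Nonempty ((Scheme.Modules.pullback (Pic13.sliceAt Ω X qT t _)).obj _ ≅
      (Scheme.Modules.pullback (Limits.pullback.fst q σ)).obj Λ)
    rw [← clA_eq_iff (AmpleDevLib.isInvertible_pb _ hM) (AmpleDevLib.isInvertible_pb _ hΛ),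
      ← pullA_clA _ hM, ← pullA_clA _ hΛ, ← pullA_clA _ hΛ, pullA_comp]
    refine congrArg (fun g => pullA g (clA hΛ)) (Limits.pullback.hom_ext ?_ ?_)
    · exact (Category.assoc _ _ _).trans (hsl t _).1
    · refine (Category.assoc _ _ _).trans ((hsl t _).2.trans ?_)
      rw [show t ≫ Limits.pullback.fst A.hom σ' = σ from Limits.pullback.lift_fst _ _ _]
      exact Limits.pullback.condition.symm
  · show Nonempty ((Scheme.Modules.pullback (Pic13.sliceAt Ω X qT t₀ _)).obj _ ≅ Coh.structureModule X)
    rw [← clA_eq_iff (AmpleDevLib.isInvertible_pb _ hM) (isInvertible_one _),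
      ← pullA_clA _ hM, ← pullA_clA _ hΛ, pullA_comp, clA_one]
    let j : A.left ⟶ PicF.XT A.hom A :=
      (lift (𝟙 A) (toUnit A ≫ (1 : 𝟙_ (Over (Spec (CommRingCat.of k))) ⟶ A))).left
    have hj1 : j ≫ p = 𝟙 _ := congrArg Over.Hom.left (lift_fst (𝟙 A) _)
    have hj2 : j ≫ q = A.hom ≫ η' := by
      refine (congrArg Over.Hom.left (lift_snd (𝟙 A) _)).trans ?_
      rw [MonObj.comp_one, Hom.one_def, Over.comp_left]
      rfl
    have e : Pic13.sliceAt Ω X qT t₀ (Limits.pullback.lift_snd _ _ _) ≫ m = (Limits.pullback.fst q σ ≫ p) ≫ j := by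
      refine Limits.pullback.hom_ext ?_ ?_
      · rw [Category.assoc, (hsl t₀ _).1, Category.assoc]
        exact ((congrArg (_ ≫ ·) hj1).trans (Category.comp_id _)).symm
      · rw [Category.assoc, (hsl t₀ _).2, Category.assoc]
        rw [show t₀ ≫ Limits.pullback.fst A.hom σ' = σ' ≫ η' from Limits.pullback.lift_fst _ _ _]
        refine Eq.trans ?_ (congrArg ((Limits.pullback.fst q σ ≫ p) ≫ ·) hj2).symm
        rw [Category.assoc (Limits.pullback.fst q σ) p, ← Category.assoc p,
          show p ≫ A.hom = q ≫ A.hom from Limits.pullback.condition,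
          Category.assoc q, ← Category.assoc (Limits.pullback.fst q σ) q, Limits.pullback.condition (f := q) (g := σ)]
        simp only [σ', Category.assoc]
        rfl
    rw [e, ← pullA_comp]
    exact (congrArg (pullA _) (mumford_slice_one hL cΛ)).trans (map_zero _)

end Mumford

section Dual

variable {A At : Over (Spec (CommRingCat.of k))} [GrpObj A] [IsProper A.hom] [GeometricallyIntegral A.hom]
  [GrpObj At] [IsProper At.hom]
  {φ : ∀ T : Over (Spec (CommRingCat.of k)), PicF.Cl (PicF.XT A.hom T) → (T ⟶ At)}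
  (hA : AbDual.IsDualAV Scheme.fppfPrecoverage A At φ)

include hA in
/-- The dual has at least the dimension of the variety. -/
theorem le_dim_dual {g : ℕ} (hg : topologicalKrullDim A.left = (g : ℕ)) :
    (g : WithBot ℕ∞) ≤ topologicalKrullDim At.left := by
  haveI : LocallyOfFinitePresentation A.hom := LocallyOfFinitePresentation.iff_locallyOfFiniteType.2 inferInstance
  haveI : IsLocallyNoetherian A.left := LocallyOfFiniteType.isLocallyNoetherian A.hom
  haveI : IsIntegral A.left := GeometricallyIntegral.isIntegral_of_subsingleton A.hom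
  obtain ⟨L, hLa⟩ := AVAmpleLib.exists_ample A
  have hL := hLa.1
  obtain ⟨Λ, hΛ, cΛ⟩ := exists_mumford hL
  have hΛ0 := isPicZeroCl_mumford hL cΛ
  let ψ := φ A (PicF.cl Λ)
  let q := PicF.XTproj A.hom A
  let eA := (η[A] : 𝟙_ (Over (Spec (CommRingCat.of k))) ⟶ A).left
  let eT := (η[At] : 𝟙_ (Over (Spec (CommRingCat.of k))) ⟶ At).left
  haveI : IsClosedImmersion eA := isClosedImmersion_eta A
  haveI : IsProper ψ.left := by
    haveI : IsProper (ψ.left ≫ At.hom) := by rw [Over.w ψ]; infer_instance
    exact IsProper.of_comp ψ.left At.hom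
  let o : A.left := eA (IsLocalRing.closedPoint k)
  let o' : At.left := eT (IsLocalRing.closedPoint k)
  -- the unit goes to the unit
  have h0 : AbDual.ovrHom A eA ≫ ψ = 1 := by
    refine factor_of_trivial hA hΛ hΛ0 eA ?_
    let pr := Limits.pullback.fst A.hom A.hom
    let j : A.left ⟶ PicF.XT A.hom A :=
      (lift (𝟙 A) (toUnit A ≫ (1 : 𝟙_ (Over (Spec (CommRingCat.of k))) ⟶ A))).left
    have hj1 : j ≫ pr = 𝟙 _ := congrArg Over.Hom.left (lift_fst (𝟙 A) _)
    have hj2 : j ≫ q = A.hom ≫ eA := by
      refine (congrArg Over.Hom.left (lift_snd (𝟙 A) _)).trans ?_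
      rw [MonObj.comp_one, Hom.one_def, Over.comp_left]
      rfl
    have hs' : (Limits.pullback.fst q eA ≫ pr) ≫ j = Limits.pullback.fst q eA := by
      apply Limits.pullback.hom_ext
      · change ((Limits.pullback.fst q eA ≫ pr) ≫ j) ≫ pr = _
        rw [Category.assoc, hj1, Category.comp_id]
      · change ((Limits.pullback.fst q eA ≫ pr) ≫ j) ≫ q = Limits.pullback.fst q eA ≫ q
        rw [Category.assoc, hj2, Category.assoc, show pr ≫ A.hom ≫ eA = q ≫ A.hom ≫ eA from
          Limits.pullback.condition_assoc .., ← Category.assoc _ q, Limits.pullback.condition, Category.assoc,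
          ← Category.assoc eA, show eA ≫ A.hom = 𝟙 _ from Over.w η[A]]
        exact congrArg (_ ≫ ·) (Category.id_comp _)
    rw [← hs', ← pullA_comp]
    exact (congrArg (pullA _) (mumford_slice_one hL cΛ)).trans (map_zero _)
  have ho' : ψ.left o = o' := by
    have := congr($((ovrHom_comp_eq_one_iff_left ψ eA).1 h0) (IsLocalRing.closedPoint k))
    rw [show eA ≫ A.hom = 𝟙 _ from Over.w η[A]] at this
    exact this
  -- finitely many points go to the unit
  obtain ⟨K, i, hi, hzero, huniv⟩ := AVAmpleLib.exists_KL_noeth hL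
  haveI : IsFinite K.hom := AVAmpleLib.isFinite_of_mumfordTriv hL
    ((MiscFlat6.isRelAmple_iff_isAmple A.hom L).2 hLa) i ((mumfordTriv_iff hL i).2 hzero)
  haveI hfin : Finite K.left := by
    have h1 := K.hom.finite_preimage_singleton (IsLocalRing.closedPoint k)
    have h2 : ⇑K.hom ⁻¹' {IsLocalRing.closedPoint k} = Set.univ :=
      Set.eq_univ_of_forall fun x => Subsingleton.elim (α := PrimeSpectrum k) _ _
    exact Set.finite_univ_iff.1 ((congrArg Set.Finite h2).mp h1)
  have hsub : ψ.left ⁻¹' {o'} ⊆ Set.range i.left := by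
    intro y hy
    let v := A.left.fromSpecResidueField y
    have hv : AbDual.ovrHom A v ≫ ψ = 1 := by
      refine (ovrHom_comp_eq_one_iff_left ψ v).2 ?_
      refine (eq_eta_of_apply (B := At) (v ≫ ψ.left) ⟨IsLocalRing.closedPoint k, ?_⟩).trans ?_
      · rw [Scheme.Hom.comp_apply]
        exact (hy.symm.trans (congrArg ψ.left (A.left.fromSpecResidueField_apply y _).symm) :)
      · rw [Category.assoc v ψ.left, Over.w ψ]
    let C : Type u := IsLocalRing.ResidueField (A.left.presheaf.stalk y)
    have htm : testMap y C = v := rfl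
    haveI : IsLocalHom (algebraMap (A.left.presheaf.stalk y) C) :=
      IsLocalHom.of_surjective _ Ideal.Quotient.mk_surjective
    have hv' : AbDual.ovrHom A (testMap y C) ≫ ψ = 1 :=
      (ovrHom_comp_eq_one_iff_left ψ _).2 (htm.symm ▸ (ovrHom_comp_eq_one_iff_left ψ v).1 hv)
    have htriv : TrivOver q Λ (testMap y C) := trivial_of_factor hA hΛ hΛ0 hΛ (isInvertible_one A.left)
      (by rw [clA_one, map_zero, add_zero]) y C hv'
    rw [htm] at htriv
    let z := AbDual.ovrHom A v
    have h1 := (pullA_XTmap_eq_zero_iff hΛ v).2 ((trivOver_iff_pullA hΛ v).1 htriv)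
    have hz : MumfordZero hL z := by
      have e : pullA (lift (fst A _) (snd A _ ≫ z)).left (clA hΛ : PicA (A ⊗ A).left) = 0 := by
        refine Eq.trans (congrArg (fun g => pullA g (clA hΛ)) ?_) h1
        apply Limits.pullback.hom_ext
        · exact (congrArg Over.Hom.left (lift_fst (fst A _) (snd A _ ≫ z))).trans (XTmap_fst A.hom z).symm
        · exact (congrArg Over.Hom.left (lift_snd (fst A _) (snd A _ ≫ z))).trans (XTmap_snd A.hom z).symm
      rw [cΛ, map_sub, map_sub, pullA_P, pullA_P, pullA_P, lift_fst, lift_snd, MonObj.comp_mul, lift_fst,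
        lift_snd] at e
      rw [MumfordZero]
      linear_combination (norm := abel) e
    obtain ⟨w, hw⟩ := huniv _ (inferInstanceAs (IsLocallyNoetherian (Spec (A.left.residueField y)))) z hz
    refine ⟨w.left (IsLocalRing.closedPoint (A.left.residueField y)), ?_⟩
    rw [← Scheme.Hom.comp_apply, ← Over.comp_left, hw]
    exact A.left.fromSpecResidueField_apply y _
  obtain ⟨V, hV, hfinV⟩ := exists_isFinite_morphismRestrict_of_finite_preimage_singleton ψ.left o'
    ((Set.finite_range i.left).subset hsub)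
  -- the dimension
  let U := ψ.left ⁻¹ᵁ V
  have hoU : o ∈ U := show ψ.left o ∈ V from ho'.symm ▸ hV
  have hoc : IsClosed ({o} : Set A.left) := by
    have := eA.isClosedEmbedding.isClosed_range
    rwa [show Set.range eA = {o} from Set.eq_singleton_iff_unique_mem.2 ⟨⟨_, rfl⟩, by
      rintro _ ⟨x, rfl⟩
      exact congrArg eA (Subsingleton.elim (α := PrimeSpectrum k) x _)⟩] at this
  calc (g : WithBot ℕ∞) = ringKrullDim (A.left.presheaf.stalk o) := by
        rw [← FibDimLib.localDim_eq_stalk_of_isClosed A.hom hoc, FibDimLib.localDim_of_irreducible A.hom o, hg]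
    _ ≤ topologicalKrullDim (U : Set A.left) := CMFlatLib.stalk_dim_le_open U o hoU
    _ ≤ topologicalKrullDim (V : Set At.left) :=
        (MiscFlat6.dim_le_of_isIntegralHom (ψ.left ∣_ V)).1
    _ ≤ topologicalKrullDim At.left := topologicalKrullDim_subspace_le _ _

end Dual

end AVIndexLib

end
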