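import Groth.Agent.AVIndexLib.TopFamily
import Groth.Agent.AVIndexLib.Index
import Groth.Agent.AVVanishLib.AlgZero
import Groth.Agent.CubeConsLib.Poincare

/-!
Families algebraically equivalent to zero: the locus of triviality is the kernel of the map to the dual.
-/

set_option autoImplicit false
set_option maxHeartbeats 1000000
set_option maxRecDepth 8000
set_option backward.isDefEq.respectTransparency false
set_option linter.style.haveILetI false
set_option linter.unusedSectionVars false

noncomputable section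

universe u

open CategoryTheory CategoryTheory.Limits MonoidalCategory CartesianMonoidalCategory MonObj AlgebraicGeometry
open TopologicalSpace CohCmpLib
open CubeConsLib AVVanishLib

namespace AVIndexLib

/-- Classes on a local scheme are trivial. -/
theorem clA_eq_zero_of_local (C : Type u) [CommRing C] [IsLocalRing C] {M : (Spec (CommRingCat.of C)).Modules}
    (hM : PicF.IsInvertible M) : clA hM = 0 := by
  rw [← clA_one, clA_eq_iff]
  obtain ⟨U, hU, ⟨e⟩⟩ := hM (IsLocalRing.closedPoint C)
  obtain rfl : U = ⊤ := top_le_iff.1 fun t _ =>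
    (IsLocalRing.specializes_closedPoint (R := C) t).mem_open U.2 hU
  let T := Spec (CommRingCat.of C)
  let j := (⊤ : T.Opens).ι
  haveI : IsIso j := T.topIso.isIso_hom
  exact ⟨((Scheme.Modules.pullbackId _).app M).symm ≪≫ (Scheme.Modules.pullbackCongr (IsIso.inv_hom_id j).symm).app M ≪≫
    ((Scheme.Modules.pullbackComp (inv j) j).app M).symm ≪≫ (Scheme.Modules.pullback (inv j)).mapIso
      (((Scheme.Modules.restrictFunctorIsoPullback j).app M).symm ≪≫ e) ≪≫ KFlatLib.pullUnitIso (inv j)⟩

/-- The local scheme at a point is flat over the scheme. -/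
theorem flat_fromSpecStalk (U : Scheme.{u}) (x : U) : Flat (U.fromSpecStalk x) := by
  obtain ⟨W, hW, hx, -⟩ := exists_isAffineOpen_mem_and_subset (x := x) (U := ⊤) trivial
  rw [← hW.fromSpecStalk_eq_fromSpecStalk hx, IsAffineOpen.fromSpecStalk]
  letI : Algebra Γ(U, W) (U.presheaf.stalk x) := U.presheaf.algebra_section_stalk ⟨x, hx⟩
  haveI := hW.isLocalization_stalk ⟨x, hx⟩
  haveI : Flat (Spec.map (U.presheaf.germ W x hx)) := by
    rw [HasRingHomProperty.Spec_iff (P := @Flat)]
    exact RingHom.flat_algebraMap_iff.2 (IsLocalization.flat _ (hW.primeIdealOf ⟨x, hx⟩).asIdeal.primeCompl)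
  infer_instance

section Triv

variable {X S : Scheme.{u}} {q : X ⟶ S} {L : X.Modules} (hL : PicF.IsInvertible L)

include hL

theorem trivOver_iff_pullA {U : Scheme.{u}} (v : U ⟶ S) :
    TrivOver q L v ↔ pullA (Limits.pullback.fst q v) (clA hL) = 0 := by
  rw [pullA_clA _ hL, ← clA_one, clA_eq_iff]
  rfl

theorem pullA_fst_comp {U U' : Scheme.{u}} (v : U ⟶ S) (h : U' ⟶ U)
    (e : pullA (Limits.pullback.fst q v) (clA hL) = 0) : pullA (Limits.pullback.fst q (h ≫ v)) (clA hL) = 0 := by
  let j : Limits.pullback q (h ≫ v) ⟶ Limits.pullback q v :=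
    Limits.pullback.lift (Limits.pullback.fst _ _) (Limits.pullback.snd _ _ ≫ h) (by
      rw [Category.assoc, Limits.pullback.condition])
  have := congrArg (pullA j) e
  rwa [map_zero, pullA_comp, Limits.pullback.lift_fst] at this

/-- Triviality over a field-valued point is triviality on the fibre. -/
theorem fibre_trivial_of_point [IsProper q] [GeometricallyIntegral q] {U : Scheme.{u}} (v : U ⟶ S) (x : U)
    (e : pullA (Limits.pullback.fst q v) (clA hL) = 0) :
    Nonempty (CohIII.fiberMod q L (v x) ≅ Coh.structureModule (q.fiber (v x))) := by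
  let p := q.fiberToSpecResidueField (v x)
  haveI : IsProper p := MorphismProperty.pullback_snd (P := @IsProper) _ _ ‹IsProper q›
  haveI : GeometricallyIntegral p :=
    inferInstanceAs (GeometricallyIntegral (Limits.pullback.snd q (S.fromSpecResidueField (v x))))
  let ψ := Spec.map (v.residueFieldMap x)
  have hψ : ψ ≫ S.fromSpecResidueField (v x) = U.fromSpecResidueField x ≫ v :=
    v.SpecMap_residueFieldMap_fromSpecResidueField x
  let j : Limits.pullback p ψ ⟶ Limits.pullback q v :=
    Limits.pullback.lift (Limits.pullback.fst p ψ ≫ q.fiberι _) (Limits.pullback.snd p ψ ≫ U.fromSpecResidueField x) (by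
      rw [Category.assoc, q.fiber_fac, Limits.pullback.condition_assoc, hψ, Category.assoc])
  have h0 := congrArg (pullA j) e
  rw [map_zero, pullA_comp, Limits.pullback.lift_fst, ← pullA_comp, pullA_clA _ hL] at h0
  have h1 := trivial_of_field_ext (K := S.residueField (v x)) (Ω := U.residueField x) (v.residueFieldMap x) p
    (AmpleDevLib.isInvertible_pb (q.fiberι (v x)) hL) h0
  rw [← clA_one, clA_eq_iff] at h1
  exact h1

end Triv

section Dual

variable {k : Type u} [Field k] {A T At : Over (Spec (CommRingCat.of k))} [GrpObj At]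
  {φ : ∀ T : Over (Spec (CommRingCat.of k)), PicF.Cl (PicF.XT A.hom T) → (T ⟶ At)}
  (hA : AbDual.IsDualAV Scheme.fppfPrecoverage A At φ) {Λ : (PicF.XT A.hom T).Modules} (hΛ : PicF.IsInvertible Λ)
  (hΛ0 : AbDual.IsPicZeroCl A.hom T (PicF.cl Λ))

include hΛ in
/-- The two descriptions of the family over a scheme over the base. -/
theorem pullA_XTmap_eq_zero_iff {U : Scheme.{u}} (v : U ⟶ T.left) :
    pullA (PicF.XTmap A.hom (AbDual.ovrHom T v)) (clA hΛ) = 0 ↔
      pullA (Limits.pullback.fst (PicF.XTproj A.hom T) v) (clA hΛ) = 0 := by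
  let j : PicF.XT A.hom (AbDual.ovr T v) ⟶ Limits.pullback (PicF.XTproj A.hom T) v :=
    Limits.pullback.lift (PicF.XTmap A.hom (AbDual.ovrHom T v)) (PicF.XTproj A.hom (AbDual.ovr T v))
      (XTmap_snd A.hom (AbDual.ovrHom T v))
  let j' : Limits.pullback (PicF.XTproj A.hom T) v ⟶ PicF.XT A.hom (AbDual.ovr T v) :=
    Limits.pullback.lift (Limits.pullback.fst _ _ ≫ Limits.pullback.fst A.hom T.hom) (Limits.pullback.snd _ _) (by
      rw [Category.assoc, Limits.pullback.condition, ← Category.assoc, Limits.pullback.condition, Category.assoc]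
      rfl)
  have h1 : j ≫ Limits.pullback.fst _ _ = PicF.XTmap A.hom (AbDual.ovrHom T v) := Limits.pullback.lift_fst _ _ _
  have h2 : j' ≫ PicF.XTmap A.hom (AbDual.ovrHom T v) = Limits.pullback.fst _ _ := by
    apply Limits.pullback.hom_ext
    · rw [Category.assoc, XTmap_fst]
      exact Limits.pullback.lift_fst _ _ _
    · rw [Category.assoc, XTmap_snd, ← Category.assoc]
      erw [Limits.pullback.lift_snd]
      exact Limits.pullback.condition.symm
  constructor <;> intro h
  · rw [← h2, ← pullA_comp, h, map_zero]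
  · rw [← h1, ← pullA_comp, h, map_zero]

include hA hΛ0 in
/-- Triviality over a scheme puts it in the kernel. -/
theorem factor_of_trivial {U : Scheme.{u}} (v : U ⟶ T.left)
    (h : pullA (Limits.pullback.fst (PicF.XTproj A.hom T) v) (clA hΛ) = 0) :
    AbDual.ovrHom T v ≫ φ T (PicF.cl Λ) = 1 := by
  rw [← hA.relPic.natural T _ (AbDual.ovrHom T v) _ hΛ0, ← phi_structure hA]
  congr 1
  have h' := (pullA_XTmap_eq_zero_iff hΛ v).2 h
  rw [pullA_clA _ hΛ, ← clA_one, clA_eq_iff] at h'
  exact Quot.sound h'

variable [IsProper A.hom] [GeometricallyIntegral A.hom] [LocallyOfFiniteType T.hom]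
variable {F : (PicF.XT A.hom T).Modules} (hF : PicF.IsInvertible F) {N : T.left.Modules} (hN : PicF.IsInvertible N)
  (hFΛ : clA hF = clA hΛ + pullA (PicF.XTproj A.hom T) (clA hN))

include hN hFΛ in
/-- Over a local scheme a twist from the base does not matter. -/
theorem pullA_local_iff (C : Type u) [CommRing C] [IsLocalRing C] (v : Spec (CommRingCat.of C) ⟶ T.left) :
    pullA (Limits.pullback.fst (PicF.XTproj A.hom T) v) (clA hF) = 0 ↔
      pullA (Limits.pullback.fst (PicF.XTproj A.hom T) v) (clA hΛ) = 0 := by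
  rw [hFΛ, map_add, pullA_comp, Limits.pullback.condition, ← pullA_comp, pullA_clA v hN,
    clA_eq_zero_of_local C, map_zero, add_zero]

include hA hΛ0 hN hFΛ in
/-- Test maps into the kernel trivialize the family. -/
theorem trivial_of_factor (z : T.left) (C : Type u) [CommRing C] [IsLocalRing C]
    [Algebra (T.left.presheaf.stalk z) C] [IsLocalHom (algebraMap (T.left.presheaf.stalk z) C)]
    (h : AbDual.ovrHom T (testMap z C) ≫ φ T (PicF.cl Λ) = 1) :
    TrivOver (PicF.XTproj A.hom T) F (testMap z C) := by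
  let q := PicF.XTproj A.hom T
  let v := testMap z C
  haveI : LocallyOfFinitePresentation A.hom := LocallyOfFinitePresentation.iff_locallyOfFiniteType.2 inferInstance
  haveI : IsProper q := MorphismProperty.pullback_snd (P := @IsProper) A.hom T.hom ‹_›
  haveI : Flat q := MorphismProperty.pullback_snd (P := @Flat) A.hom T.hom inferInstance
  haveI : LocallyOfFinitePresentation q :=
    MorphismProperty.pullback_snd (P := @LocallyOfFinitePresentation) A.hom T.hom inferInstance
  haveI : GeometricallyIntegral q := inferInstanceAs (GeometricallyIntegral (Limits.pullback.snd A.hom T.hom))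
  haveI : IsLocallyNoetherian T.left := LocallyOfFiniteType.isLocallyNoetherian T.hom
  have hc' := isPicZeroCl_XTmap (AbDual.ovrHom T v) hΛ0
  have e : φ _ (PicF.pullCl (PicF.XTmap A.hom (AbDual.ovrHom T v)) (PicF.cl Λ)) =
      φ (AbDual.ovr T v) (PicF.cl (Coh.structureModule _)) := by
    rw [hA.relPic.natural T _ _ _ hΛ0, h, phi_structure hA]
  obtain ⟨R, hR, hloc⟩ := hA.relPic.locallyInjective _ _ _ hc' (isPicZeroCl_structure A _) e
  obtain ⟨U, w, x, hw, hx⟩ := exists_mem_fppf hR (IsLocalRing.closedPoint C)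
  have hwf : Flat w := (hR.2 hw).1
  -- trivial over the member of the cover
  have h0 : pullA (Limits.pullback.fst q (w ≫ v)) (clA hΛ) = 0 := by
    refine (pullA_XTmap_eq_zero_iff hΛ (w ≫ v)).1 ?_
    have h1 := hloc w hw
    rw [pullCl_pullCl] at h1
    have h2 : pullA (PicF.XTmap A.hom (AbDual.ovrHom (AbDual.ovr T v) w) ≫ PicF.XTmap A.hom (AbDual.ovrHom T v))
        (clA hΛ) = 0 := by
      rw [pullA_clA _ hΛ, ← clA_one, clA_eq_iff]
      exact (cl_eq_iff.1 (congrArg toI h1)).map fun i => i ≪≫ KFlatLib.pullUnitIso _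
    let i : AbDual.ovr T (w ≫ v) ⟶ AbDual.ovr (AbDual.ovr T v) w :=
      Over.homMk (𝟙 _) ((Category.id_comp _).trans (Category.assoc _ _ _).symm)
    have e3 : PicF.XTmap A.hom i ≫ PicF.XTmap A.hom (AbDual.ovrHom (AbDual.ovr T v) w) ≫
        PicF.XTmap A.hom (AbDual.ovrHom T v) = PicF.XTmap A.hom (AbDual.ovrHom T (w ≫ v)) := by
      apply Limits.pullback.hom_ext
      · simp only [Category.assoc, XTmap_fst]
      · simp only [Category.assoc, XTmap_snd, XTmap_snd_assoc, i, Over.homMk_left]
        simp
    rw [← e3, ← pullA_comp, h2, map_zero]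
  -- the local scheme of the cover
  let C' : Type u := U.presheaf.stalk x
  let ψ₀ : CommRingCat.of C ⟶ CommRingCat.of C' := Spec.preimage (U.fromSpecStalk x ≫ w)
  have hψ₀ : Spec.map ψ₀ = U.fromSpecStalk x ≫ w := Spec.map_preimage _
  letI : Algebra C C' := ψ₀.hom.toAlgebra
  letI : Algebra (T.left.presheaf.stalk z) C' := (ψ₀.hom.comp (algebraMap (T.left.presheaf.stalk z) C)).toAlgebra
  haveI : IsLocalHom (algebraMap C C') := by
    refine (IsLocalRing.isLocalHom_iff_comap_closedPoint _).2 ?_
    change (Spec.map ψ₀) (IsLocalRing.closedPoint C') = IsLocalRing.closedPoint C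
    rw [hψ₀]
    exact (congrArg w Scheme.fromSpecStalk_closedPoint).trans hx
  haveI : IsLocalHom (algebraMap (T.left.presheaf.stalk z) C') :=
    inferInstanceAs (IsLocalHom ((algebraMap C C').comp (algebraMap (T.left.presheaf.stalk z) C)))
  haveI : Module.Flat C C' := by
    haveI := flat_fromSpecStalk U x
    have : Flat (Spec.map ψ₀) := by rw [hψ₀]; infer_instance
    rw [HasRingHomProperty.Spec_iff (P := @Flat)] at this
    exact RingHom.flat_algebraMap_iff.1 this
  have htm : testMap z C' = U.fromSpecStalk x ≫ w ≫ v := by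
    change Spec.map (CommRingCat.ofHom (ψ₀.hom.comp (algebraMap (T.left.presheaf.stalk z) C))) ≫ _ = _
    rw [CommRingCat.ofHom_comp, Spec.map_comp, Category.assoc, ← Category.assoc _ w, ← hψ₀]
    rfl
  have hT' : pullA (Limits.pullback.fst q (testMap z C')) (clA hF) = 0 := by
    refine (pullA_local_iff hΛ hF hN hFΛ C' _).2 ?_
    rw [htm]
    exact pullA_fst_comp hΛ _ _ h0
  have hz : (testMap z C') (IsLocalRing.closedPoint C') = z := by
    change (T.left.fromSpecStalk z) ((Spec.map (CommRingCat.ofHom (algebraMap (T.left.presheaf.stalk z) C')))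
      (IsLocalRing.closedPoint C')) = z
    rw [show (Spec.map (CommRingCat.ofHom (algebraMap (T.left.presheaf.stalk z) C'))) (IsLocalRing.closedPoint C') =
      IsLocalRing.closedPoint (T.left.presheaf.stalk z) from IsLocalRing.comap_closedPoint _,
      Scheme.fromSpecStalk_closedPoint]
  have hfib := fibre_trivial_of_point hF (q := q) (testMap z C') (IsLocalRing.closedPoint C') hT'
  rw [hz] at hfib
  obtain ⟨hq', hfp, hfl⟩ := CohCmpLib.rank_one_hyps q ((CohCmpLib.invertible_iff_rank_one F).1 hF)
  haveI := hq'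
  obtain ⟨W, hW, hzW, -⟩ := exists_isAffineOpen_mem_and_subset (x := z) (U := ⊤) trivial
  obtain ⟨K⟩ := exists_chart hfp hfl hW
  letI : Algebra K.A₀ C := ((algebraMap (T.left.presheaf.stalk z) C).comp
    ((T.left.presheaf.germ W z hzW).hom.comp
      ((T.left.presheaf.map (homOfLE (le_refl W)).op).hom.comp K.φ))).toAlgebra
  letI : Algebra K.A₀ C' := ((algebraMap C C').comp (algebraMap K.A₀ C)).toAlgebra
  haveI : IsScalarTower K.A₀ C C' := IsScalarTower.of_algebraMap_eq fun _ => rfl
  refine (trivOver_iff_sec hW K hzW hF C rfl).2 hfib (sec_of_flat K C C' ?_)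
  exact (trivOver_iff_sec hW K hzW hF C' rfl).1 ((trivOver_iff_pullA hF _).2 hT')

end Dual

end AVIndexLib

end
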