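import Groth.Agent.AVIndexLib.TopDual

/-!
The cohomology of a family algebraically equivalent to zero with finite kernel.
-/

set_option autoImplicit false
set_option maxHeartbeats 1000000
set_option maxRecDepth 8000
set_option backward.isDefEq.respectTransparency false
set_option linter.style.haveILetI false
set_option linter.unusedSectionVars false

noncomputable section

universe u

open CategoryTheory CategoryTheory.Limits MonoidalCategory CartesianMonoidalCategory MonObj AlgebraicGeometry
open TopologicalSpace CohCmpLib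
open CubeConsLib AVVanishLib

namespace AVIndexLib

variable {k : Type u} [Field k] [IsAlgClosed k] {A T At : Over (Spec (CommRingCat.of k))}
  [GrpObj A] [IsProper A.hom] [GeometricallyIntegral A.hom]
  [GrpObj T] [IsProper T.hom] [GeometricallyIntegral T.hom] [GrpObj At] [IsProper At.hom]

/-- The copy of `A` over a point of the base. -/
abbrev jT (a : 𝟙_ (Over (Spec (CommRingCat.of k))) ⟶ T) : A ⟶ A ⊗ T := lift (𝟙 A) (toUnit A ≫ a)

theorem isClosedImmersion_one : IsClosedImmersion (η[At] : 𝟙_ (Over (Spec (CommRingCat.of k))) ⟶ At).left := by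
  haveI : IsClosedImmersion ((η[At] : 𝟙_ (Over (Spec (CommRingCat.of k))) ⟶ At).left ≫ At.hom) := by
    rw [show (η[At] : 𝟙_ (Over (Spec (CommRingCat.of k))) ⟶ At).left ≫ At.hom = 𝟙 _ from Over.w η[At]]
    infer_instance
  exact IsClosedImmersion.of_comp _ At.hom

/-- A map into the kernel is a map into its scheme. -/
theorem ovrHom_comp_eq_one_iff (ψ : T ⟶ At) {U : Scheme.{u}} (v : U ⟶ T.left) :
    AbDual.ovrHom T v ≫ ψ = 1 ↔
      ∃ w, w ≫ Limits.pullback.fst ψ.left (η[At] : 𝟙_ (Over (Spec (CommRingCat.of k))) ⟶ At).left = v := by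
  have he : (η[At] : 𝟙_ (Over (Spec (CommRingCat.of k))) ⟶ At).left ≫ At.hom = 𝟙 _ := Over.w η[At]
  constructor
  · intro h
    have h' := congrArg Over.Hom.left h
    rw [Over.comp_left, Hom.one_def, Over.comp_left] at h'
    exact ⟨Limits.pullback.lift v (toUnit (AbDual.ovr T v)).left h', Limits.pullback.lift_fst _ _ _⟩
  · rintro ⟨w, rfl⟩
    ext1
    rw [Over.comp_left, Hom.one_def, Over.comp_left]
    change (w ≫ Limits.pullback.fst _ _) ≫ ψ.left = ((w ≫ Limits.pullback.fst _ _) ≫ T.hom) ≫ _
    have h2 : Limits.pullback.snd ψ.left (η[At] : 𝟙_ (Over (Spec (CommRingCat.of k))) ⟶ At).left =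
        Limits.pullback.fst _ _ ≫ T.hom := by
      have := congrArg (· ≫ At.hom) (Limits.pullback.condition (f := ψ.left)
        (g := (η[At] : 𝟙_ (Over (Spec (CommRingCat.of k))) ⟶ At).left))
      rw [Category.assoc, Category.assoc, Over.w ψ, he] at this
      exact ((Category.comp_id _).symm.trans this.symm)
    rw [Category.assoc, Category.assoc, Limits.pullback.condition, h2, Category.assoc]
    rfl

variable {φ : ∀ T : Over (Spec (CommRingCat.of k)), PicF.Cl (PicF.XT A.hom T) → (T ⟶ At)}
  (hA : AbDual.IsDualAV Scheme.fppfPrecoverage A At φ) {Λ : (PicF.XT A.hom T).Modules} (hΛ : PicF.IsInvertible Λ)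
  (hΛ0 : AbDual.IsPicZeroCl A.hom T (PicF.cl Λ))
  {F : (PicF.XT A.hom T).Modules} (hF : PicF.IsInvertible F) {N : T.left.Modules} (hN : PicF.IsInvertible N)
  (hFΛ : clA hF = clA hΛ + pullA (PicF.XTproj A.hom T) (clA hN))

include hA hΛ hΛ0 hF hN hFΛ in
/-- Higher direct images and cohomology of a family algebraically equivalent to zero with finite kernel. -/
theorem dual_family_top {g : ℕ} (hg0 : 0 < g) (hg : topologicalKrullDim A.left = (g : ℕ))
    (hgT : topologicalKrullDim T.left = (g : ℕ)) [IsFinite (φ T (PicF.cl Λ)).left]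
    [HasInjectiveResolutions (PicF.XT A.hom T).Modules] :
    let i := Limits.pullback.fst (φ T (PicF.cl Λ)).left (η[At] : 𝟙_ (Over (Spec (CommRingCat.of k))) ⟶ At).left
    (∀ p, p ≠ g → IsZero ((Coh.Rpush (PicF.XTproj A.hom T) p).obj F)) ∧
    CohB1.support ((Coh.Rpush (PicF.XTproj A.hom T) g).obj F) ⊆ Set.range i ∧
    (∀ w, Nonempty (((Coh.Rpush (PicF.XTproj A.hom T) g).obj F).presheaf.stalk (i w) ≃ₗ[T.left.presheaf.stalk (i w)]
      (T.left.presheaf.stalk (i w) ⧸ RingHom.ker (i.stalkMap w).hom))) ∧
    (∀ n, n ≠ g → Subsingleton (Coh.HH (PicF.XT A.hom T) F n)) ∧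
    @Module.finrank k (Coh.HH (PicF.XT A.hom T) F g) _ _
        (@Coh.moduleOver k _ (PicF.XT A.hom T) ⟨PicF.XTproj A.hom T ≫ T.hom⟩ F g) =
      @Module.finrank k Γ(Limits.pullback (φ T (PicF.cl Λ)).left
          (η[At] : 𝟙_ (Over (Spec (CommRingCat.of k))) ⟶ At).left, ⊤) _ _
        (Module.compHom _ (show k →+* Γ(Limits.pullback (φ T (PicF.cl Λ)).left
          (η[At] : 𝟙_ (Over (Spec (CommRingCat.of k))) ⟶ At).left, ⊤) from Coh.toGlobal (i ≫ T.hom))) := by
  intro i
  let q := PicF.XTproj A.hom T
  let pr := Limits.pullback.fst A.hom T.hom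
  let ψ := φ T (PicF.cl Λ)
  haveI : LocallyOfFinitePresentation A.hom := LocallyOfFinitePresentation.iff_locallyOfFiniteType.2 inferInstance
  haveI : IsProper q := MorphismProperty.pullback_snd (P := @IsProper) A.hom T.hom ‹_›
  haveI : Flat q := MorphismProperty.pullback_snd (P := @Flat) A.hom T.hom inferInstance
  haveI : LocallyOfFinitePresentation q :=
    MorphismProperty.pullback_snd (P := @LocallyOfFinitePresentation) A.hom T.hom inferInstance
  haveI : GeometricallyIntegral q := inferInstanceAs (GeometricallyIntegral (Limits.pullback.snd A.hom T.hom))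
  haveI : IsLocallyNoetherian T.left := LocallyOfFiniteType.isLocallyNoetherian T.hom
  haveI : JacobsonSpace T.left := LocallyOfFiniteType.jacobsonSpace T.hom
  haveI : IsClosedImmersion (η[At] : 𝟙_ (Over (Spec (CommRingCat.of k))) ⟶ At).left := isClosedImmersion_one
  haveI : IsClosedImmersion i := MorphismProperty.pullback_fst (P := @IsClosedImmersion) _ _ ‹_›
  have h2 : Limits.pullback.snd ψ.left (η[At] : 𝟙_ (Over (Spec (CommRingCat.of k))) ⟶ At).left = i ≫ T.hom := by
    have := congrArg (· ≫ At.hom) (Limits.pullback.condition (f := ψ.left)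
      (g := (η[At] : 𝟙_ (Over (Spec (CommRingCat.of k))) ⟶ At).left))
    rw [Category.assoc, Category.assoc, Over.w ψ] at this
    exact ((Category.comp_id _).symm.trans ((congrArg (_ ≫ ·) (Over.w η[At]).symm).trans this.symm))
  haveI : IsFinite (i ≫ T.hom) := h2 ▸ MorphismProperty.pullback_snd (P := @IsFinite) _ _ inferInstance
  obtain ⟨hq', hfp, hfl⟩ := CohCmpLib.rank_one_hyps q ((CohCmpLib.invertible_iff_rank_one F).1 hF)
  haveI := hq'
  letI : A.left.Over (Spec (CommRingCat.of k)) := ⟨A.hom⟩
  haveI : IsProper (A.left ↘ Spec (CommRingCat.of k)) := ‹IsProper A.hom›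
  -- the fibres over closed points
  have hclosed : ∀ (y : T.left) (hy : IsClosed ({y} : Set T.left)) (p : ℕ), (g < p ∨ y ∉ Set.range i) →
      Subsingleton (CohIII.fiberH q F y p) := by
    intro y hy p hp
    let a : 𝟙_ (Over (Spec (CommRingCat.of k))) ⟶ T :=
      Over.homMk (pointOfClosedPoint T.hom y hy) (pointOfClosedPoint_comp T.hom y hy)
    let j := (jT (A := A) a).left
    have ha : T.left.fromSpecResidueField y = (T.left.fromSpecResidueField y ≫ T.hom) ≫ a.left := by
      show _ = _ ≫ pointOfClosedPoint T.hom y hy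
      rw [pointOfClosedPoint, ← SpecMap_residueFieldIsoBase_inv T.hom y hy, ← Category.assoc, ← Spec.map_comp,
        Iso.hom_inv_id, Spec.map_id, Category.id_comp]
    have hj1 : j ≫ pr = 𝟙 _ := congrArg Over.Hom.left (lift_fst (𝟙 A) (toUnit A ≫ a))
    have hj2 : j ≫ q = A.hom ≫ a.left := congrArg Over.Hom.left (lift_snd (𝟙 A) (toUnit A ≫ a))
    have hiff := subsingleton_fiberH_iff_of_section q y F j pr
      (A.hom ≫ Spec.map (residueFieldIsoBase T.hom y hy).hom) (by rw [hj2, Category.assoc]; rfl) hj1 (by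
        apply Limits.pullback.hom_ext
        · change ((q.fiberι y ≫ pr ≫ j) ≫ pr) = q.fiberι y ≫ pr
          rw [Category.assoc, Category.assoc, hj1, Category.comp_id]
        · change ((q.fiberι y ≫ pr ≫ j) ≫ q) = q.fiberι y ≫ q
          have hiy : q.fiberι y ≫ q = q.fiberToSpecResidueField y ≫ T.left.fromSpecResidueField y :=
            Limits.pullback.condition
          rw [Category.assoc, Category.assoc, hj2, show pr ≫ A.hom ≫ a.left = q ≫ T.hom ≫ a.left from
            Limits.pullback.condition_assoc .., ← Category.assoc (q.fiberι y), hiy]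
          exact (Category.assoc _ _ _).trans ((congrArg (q.fiberToSpecResidueField y ≫ ·) ha).trans
            (by simp only [Category.assoc])).symm) p
    refine hiff.2 ?_
    rcases hp with hp | hyi
    · haveI := CurvLib.isNoetherian k (X := A.left)
      exact CurvLib.subsingleton_HH_of_dim_le _ hg.le p hp
    have hM := AmpleDevLib.isInvertible_pb j hF
    -- the class of the fibre
    have hcl : clA hM = pullA j (clA hΛ) := by
      have hN0 : pullA a.left (clA hN) = 0 :=
        (pullA_clA a.left hN).trans (clA_eq_zero_of_local k (AmpleDevLib.isInvertible_pb a.left hN))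
      have h' : pullA j (pullA q (clA hN)) = 0 :=
        (pullA_comp j q _).trans ((congrArg (fun m => pullA m (clA hN)) hj2).trans
          ((pullA_comp A.hom a.left _).symm.trans ((congrArg (pullA A.hom) hN0).trans (map_zero _))))
      rw [← pullA_clA j hF, hFΛ, map_add]
      exact (congrArg (pullA j (clA hΛ) + ·) h').trans (add_zero _)
    have hMΛ := AmpleDevLib.isInvertible_pb j hΛ
    obtain ⟨eM⟩ : Nonempty ((Scheme.Modules.pullback j).obj Λ ≅ (Scheme.Modules.pullback j).obj F) := by
      rw [← clA_eq_iff hMΛ hM, hcl, pullA_clA]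
    have hadd : IsAdditive hM := by
      refine isAdditive_of_isAlgEquivZero ?_
      obtain ⟨L₀, hL₀, -, hLa⟩ := hΛ0
      obtain ⟨eL⟩ : Nonempty (L₀ ≅ Λ) := cl_eq_iff.1 (congrArg toI hL₀)
      have hr : Set.range a.left.base = {y} := by
        refine Set.eq_singleton_iff_unique_mem.2 ⟨⟨IsLocalRing.closedPoint k, ?_⟩, ?_⟩
        · exact pointOfClosedPoint_apply T.hom y hy _
        · rintro _ ⟨x, rfl⟩
          exact pointOfClosedPoint_apply T.hom y hy _
      let s : A.left ⟶ Limits.pullback q a.left := Limits.pullback.lift j A.hom hj2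
      have := isAlgEquivZero_pullback (Limits.pullback.snd q a.left) A.hom s (Limits.pullback.lift_snd _ _ _)
        (hLa y k a.left hr)
      exact isAlgEquivZero_iso ((Scheme.Modules.pullbackComp s _).app L₀ ≪≫
        (Scheme.Modules.pullbackCongr (Limits.pullback.lift_fst _ _ _)).app L₀ ≪≫
        (Scheme.Modules.pullback j).mapIso eL ≪≫ eM) this
    refine AVVanishLib.subsingleton_HH hadd (fun ⟨e⟩ => hyi ?_) p
    have h0 : pullA j (clA hΛ) = 0 := by
      rw [← hcl, ← clA_one, clA_eq_iff]; exact ⟨e⟩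
    let s' : Limits.pullback q a.left ⟶ A.left := Limits.pullback.fst _ _ ≫ pr
    have hs' : s' ≫ j = Limits.pullback.fst q a.left := by
      apply Limits.pullback.hom_ext
      · change (s' ≫ j) ≫ pr = _
        rw [Category.assoc, hj1, Category.comp_id]
      · change (s' ≫ j) ≫ q = Limits.pullback.fst q a.left ≫ q
        rw [Category.assoc, hj2, Category.assoc, show pr ≫ A.hom ≫ a.left = q ≫ T.hom ≫ a.left from
          Limits.pullback.condition_assoc .., ← Category.assoc _ q, Limits.pullback.condition, Category.assoc,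
          ← Category.assoc a.left, show a.left ≫ T.hom = 𝟙 _ from Over.w a, Category.id_comp]
    have h1 : pullA (Limits.pullback.fst q a.left) (clA hΛ) = 0 := by
      rw [← hs', ← pullA_comp]
      exact (congrArg (pullA s') h0).trans (map_zero _)
    obtain ⟨w, hw⟩ := (ovrHom_comp_eq_one_iff ψ a.left).1 (factor_of_trivial hA hΛ hΛ0 a.left h1)
    exact ⟨w (IsLocalRing.closedPoint k),
      (congr($(hw) (IsLocalRing.closedPoint k)) : _).trans (pointOfClosedPoint_apply T.hom y hy _)⟩
  have hout : ∀ y p, (g < p ∨ y ∉ Set.range i) → Subsingleton (CohIII.fiberH q F y p) := by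
    intro y p hyp
    let C : Set T.left := {s | Subsingleton (CohIII.fiberH q F s p)}ᶜ
    have hC : IsClosed C := (CohCmpLib.isOpen_fibre_vanishing hfp hfl p).isClosed_compl
    by_contra hs
    rcases hyp with hp | hyi
    · obtain ⟨z, hzC, hz⟩ := nonempty_inter_closedPoints (Z := C) ⟨y, hs⟩ hC.isLocallyClosed
      exact hzC (hclosed z hz p (Or.inl hp))
    · obtain ⟨z, ⟨hzC, hzi⟩, hz⟩ := nonempty_inter_closedPoints (Z := C ∩ (Set.range i)ᶜ) ⟨y, hs, hyi⟩
        (hC.isLocallyClosed.inter i.isClosedEmbedding.isClosed_range.isOpen_compl.isLocallyClosed)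
      exact hzC (hclosed z hz p (Or.inr hzi))
  refine family_top (IsPullback.of_hasPullback A.hom T.hom) hF hg0 i (fun z hz => exists_regular_seq hgT z hz)
    (fun y p h => hout y p (Or.inr h)) (fun y p h => hout y p (Or.inl h)) fun w I hI => ?_
  haveI : Nontrivial (T.left.presheaf.stalk (i w) ⧸ I) := Ideal.Quotient.nontrivial_iff.2 fun h =>
    (IsLocalRing.maximalIdeal.isMaximal _).ne_top (top_le_iff.1 (h ▸ hI))
  haveI : IsLocalRing (T.left.presheaf.stalk (i w) ⧸ I) :=
    IsLocalRing.of_surjective' _ Ideal.Quotient.mk_surjective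
  haveI : IsLocalHom (algebraMap (T.left.presheaf.stalk (i w)) (T.left.presheaf.stalk (i w) ⧸ I)) :=
    IsLocalHom.of_surjective _ Ideal.Quotient.mk_surjective
  constructor
  · intro h
    exact (ovrHom_comp_eq_one_iff ψ _).1 (factor_of_trivial hA hΛ hΛ0 _
      ((pullA_local_iff hΛ hF hN hFΛ _ _).1 ((trivOver_iff_pullA hF _).1 h)))
  · intro h
    exact trivial_of_factor hA hΛ hΛ0 hF hN hFΛ (i w) _ ((ovrHom_comp_eq_one_iff ψ _).2 h)

end AVIndexLib

end
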