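import Groth.Agent.AVIndexLib.TopTest
import Groth.Agent.AVIndexLib.Pullback
import Groth.Agent.FlatLib.QStalk
import Groth.Agent.RankLocusLib.Mod

/-!
The top higher direct image of a family at a point of the support, as a quotient of the local ring.
-/

set_option autoImplicit false
set_option maxHeartbeats 1000000
set_option maxRecDepth 8000
set_option backward.isDefEq.respectTransparency false
set_option linter.style.haveILetI false
set_option linter.unusedSectionVars false

noncomputable section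

universe u

open CategoryTheory CategoryTheory.Limits AlgebraicGeometry TopologicalSpace CohCmpLib IsLocalRing TensorProduct

namespace AVIndexLib

/-- Higher direct images of a family coming from the field are free. -/
theorem exists_free_rpush' {k : Type u} [Field k] {V Y T : Scheme.{u}} {a : V ⟶ Spec (CommRingCat.of k)}
    [IsProper a] {b : T ⟶ Spec (CommRingCat.of k)} {p : Y ⟶ V} {q : Y ⟶ T} (hsq : IsPullback p q a b)
    {L : V.Modules} (hL : PicF.IsInvertible L) (i : ℕ) [HasInjectiveResolutions Y.Modules] :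
    ∃ r : ℕ, Nonempty ((Coh.Rpush q i).obj ((Scheme.Modules.pullback p).obj L) ≅ FlatMod.freeMod T r) := by
  haveI : IsLocallyNoetherian V := LocallyOfFiniteType.isLocallyNoetherian a
  haveI : LocallyOfFinitePresentation a := LocallyOfFinitePresentation.iff_locallyOfFiniteType.2 inferInstance
  haveI : Flat a := inferInstance
  haveI : Flat b := inferInstance
  haveI : Coh.IsQCoh L := (CurvLib.isCoh_of_isInvertible hL).1
  haveI : HasInjectiveResolutions V.Modules := inferInstance
  have hc : Coh.IsCoh ((Coh.Rpush a i).obj L) :=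
    Groth.Agent.S0036.result a L (CurvLib.isCoh_of_isInvertible hL) i
  haveI := hc.1
  obtain ⟨r, ⟨e⟩⟩ := CohCmpLib.exists_freeMod_iso_of_field k ((Coh.Rpush a i).obj L) hc.2
  obtain ⟨e'⟩ := Groth.Agent.S0033.result a b p q hsq L i
  exact ⟨r, ⟨e'.symm ≪≫ (Scheme.Modules.pullback b).mapIso e ≪≫ KFlatLib.pullFreeIso b r⟩⟩

/-- Global sections of isomorphic modules. -/
def gammaTopEquiv {Z : Scheme.{u}} {M N : Z.Modules} (e : M ≅ N) : Γ(M, ⊤) ≃ₗ[Γ(Z, ⊤)] Γ(N, ⊤) where
  toFun x := e.hom.app ⊤ x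
  invFun x := e.inv.app ⊤ x
  map_add' := map_add _
  map_smul' r x := QCohLib.app_smul e.hom ⊤ r x
  left_inv x := congr(Scheme.Modules.Hom.app $(e.hom_inv_id) ⊤ x)
  right_inv x := congr(Scheme.Modules.Hom.app $(e.inv_hom_id) ⊤ x)

variable {X S : Scheme.{u}} {f : X ⟶ S} {F : X.Modules} {W : S.Opens}

/-- The scalars of a chart on global functions, along a test map. -/
theorem appLE_testMap (hW : IsAffineOpen W) {z : S} (hz : z ∈ W) (C : Type u) [CommRing C]
    [Algebra (S.presheaf.stalk z) C] (hle : ⊤ ≤ testMap z C ⁻¹ᵁ W) :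
    (testMap z C).appLE W ⊤ hle = S.presheaf.germ W z hz ≫
      CommRingCat.ofHom (algebraMap (S.presheaf.stalk z) C) ≫ (Scheme.ΓSpecIso (CommRingCat.of C)).inv := by
  apply Spec.map_injective
  rw [← cancel_mono hW.fromSpec, IsAffineOpen.SpecMap_appLE_fromSpec _ hW (isAffineOpen_top _) hle]
  simp only [Spec.map_comp, Category.assoc]
  rw [show Spec.map (S.presheaf.germ W z hz) ≫ hW.fromSpec = S.fromSpecStalk z from
    hW.fromSpecStalk_eq_fromSpecStalk hz, IsAffineOpen.fromSpec_top, Scheme.isoSpec_Spec_inv]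

theorem le_testMap {z : S} (hz : z ∈ W) (C : Type u) [CommRing C] [IsLocalRing C]
    [Algebra (S.presheaf.stalk z) C] [IsLocalHom (algebraMap (S.presheaf.stalk z) C)] :
    (⊤ : (Spec (CommRingCat.of C)).Opens) ≤ testMap z C ⁻¹ᵁ W := fun t _ => by
  have hsp : t ⤳ IsLocalRing.closedPoint C := IsLocalRing.specializes_closedPoint t
  refine (hsp.map (testMap z C).continuous).mem_open W.2 ?_
  change (S.fromSpecStalk z) ((Spec.map (CommRingCat.ofHom (algebraMap (S.presheaf.stalk z) C)))
    (IsLocalRing.closedPoint C)) ∈ W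
  rwa [show (Spec.map (CommRingCat.ofHom (algebraMap (S.presheaf.stalk z) C))) (IsLocalRing.closedPoint C) =
    IsLocalRing.closedPoint (S.presheaf.stalk z) from IsLocalRing.comap_closedPoint _,
    Scheme.fromSpecStalk_closedPoint]

theorem flat_of_subsingleton (R M : Type u) [CommRing R] [AddCommGroup M] [Module R M] [Subsingleton M] :
    Module.Flat R M :=
  Module.Flat.of_linearEquiv (R := R) (M := PUnit.{u + 1})
    { toFun := fun _ => PUnit.unit, invFun := fun _ => 0, map_add' := fun _ _ => rfl, map_smul' := fun _ _ => rfl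
      left_inv := fun _ => Subsingleton.elim _ _, right_inv := fun _ => rfl }

theorem fl_of_zero (K : Chart f F W) (R : Type u) [CommRing R] [Algebra K.A₀ R] (g : ℕ)
    (h : ∀ p, g < p → Subsingleton (HmB (K.a p) (K.b p) R)) : ∀ p, g < p → K.Fl p R := by
  suffices ∀ m p, K.mdl.N + 1 ≤ p + m → g < p → K.Fl p R from fun p hp => this (K.mdl.N + 1) p (by omega) hp
  intro m
  induction m with
  | zero => exact fun p hp _ => K.fl_above R p (by omega)
  | succ m ih =>
    intro p hp hgp
    haveI := h p hgp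
    exact K.flat_step R p (ih (p + 1) (by omega) (by omega)) (flat_of_subsingleton R _)

section Stalk

variable [IsProper f] [LocallyOfFinitePresentation f] [Coh.IsQCoh F] [HasInjectiveResolutions X.Modules]

/-- The stalk of a higher direct image is the homology of the chart over the local ring. -/
theorem stalk_equiv (hW : IsAffineOpen W) (K : Chart f F W) {z : S} (hz : z ∈ W) (p : ℕ)
    [Coh.IsQCoh ((Coh.Rpush f p).obj F)] :
    letI := stalkAlg K hz
    Nonempty (HmB (K.a p) (K.b p) (S.presheaf.stalk z) ≃ₗ[S.presheaf.stalk z]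
      ((Coh.Rpush f p).obj F).presheaf.stalk z) := by
  letI := stalkAlg K hz
  letI := K.alg (le_refl W)
  let R : Type u := S.presheaf.stalk z
  let M := (Coh.Rpush f p).obj F
  letI : Algebra Γ(S, W) R := (S.presheaf.germ W z hz).hom.toAlgebra
  haveI : IsScalarTower K.A₀ Γ(S, W) R := IsScalarTower.of_algebraMap_eq fun x => rfl
  haveI : IsLocalization.AtPrime R (hW.primeIdealOf ⟨z, hz⟩).asIdeal := hW.isLocalization_stalk ⟨z, hz⟩
  haveI : Module.Flat Γ(S, W) R := IsLocalization.flat _ (hW.primeIdealOf ⟨z, hz⟩).asIdeal.primeCompl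
  have hb := canHm_bijective_of_injective ((K.a p).baseChange Γ(S, W)) ((K.b p).baseChange Γ(S, W))
    (baseChange_comp_eq_zero (K.a p) (K.b p) (K.hab p)) R
    (Module.Flat.lTensor_preserves_injective_linearMap _ (Submodule.injective_subtype _))
    (Module.Flat.lTensor_preserves_injective_linearMap _ (Submodule.injective_subtype _))
  obtain ⟨Δ, ⟨E⟩⟩ := CohCmpLib.exists_sectCmp f
  obtain ⟨e₂⟩ := K.nonempty_secEquiv E hW le_rfl p
  letI := Module.compHom (M.presheaf.stalk z) (S.presheaf.germ W z hz).hom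
  haveI : IsScalarTower Γ(S, W) R (M.presheaf.stalk z) := IsScalarTower.of_algebraMap_smul fun _ _ => rfl
  haveI := FlatLib.isLocalizedModule_germLin M hW hz
  have hbc := IsLocalizedModule.isBaseChange (hW.primeIdealOf ⟨z, hz⟩).asIdeal.primeCompl R
    (FlatLib.germLin M hz)
  exact ⟨(((LinearEquiv.ofBijective _ hb).trans (towEquiv (K.a p) (K.b p))).symm.trans
    (LinearEquiv.baseChange Γ(S, W) R _ _ e₂)).trans hbc.equiv⟩

end Stalk

section Point

variable {k : Type u} [Field k] {V : Scheme.{u}} {a : V ⟶ Spec (CommRingCat.of k)} [IsProper a]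
  {pr : X ⟶ V} {b : S ⟶ Spec (CommRingCat.of k)} [IsProper f] [Flat f] [LocallyOfFinitePresentation f]
  [GeometricallyIntegral f] [IsLocallyNoetherian X] [IsLocallyNoetherian S] [HasInjectiveResolutions X.Modules]

/-- The homology of the chart is free over a test scheme trivializing the family. -/
theorem free_hm_of_trivial (hsq : IsPullback pr f a b) {L : X.Modules} [Coh.IsQCoh L] (hL : PicF.IsInvertible L)
    (hW : IsAffineOpen W) (K : Chart f L W) {T : Scheme.{u}} (u : T ⟶ S) (hT : IsAffineOpen (⊤ : T.Opens))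
    (hle : ⊤ ≤ u ⁻¹ᵁ W) (g : ℕ) (ht : TrivOver f L u) :
    letI := K.algMap u hle
    ∃ r : ℕ, Nonempty (HmB (K.a g) (K.b g) Γ(T, ⊤) ≃ₗ[Γ(T, ⊤)] (Fin r → Γ(T, ⊤))) := by
  letI := K.algMap u hle
  have H : IsPullback (pullback.fst f u) (pullback.snd f u) f u := IsPullback.of_hasPullback f u
  let fT := pullback.snd f u
  haveI : IsProper fT := MorphismProperty.of_isPullback H ‹_›
  haveI : LocallyOfFinitePresentation fT := MorphismProperty.of_isPullback H ‹_›
  let LT := (Scheme.Modules.pullback (pullback.fst f u)).obj L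
  haveI : Coh.IsQCoh LT := TwistLib.isQCoh_of_isInvertible (AmpleDevLib.isInvertible_pb _ hL)
  haveI : HasInjectiveResolutions (pullback f u).Modules := inferInstance
  obtain ⟨r, ⟨er⟩⟩ := exists_free_rpush' (H.paste_horiz hsq) (CubeConsLib.isInvertible_one V) g
  obtain ⟨t⟩ := ht
  let iso := (Coh.Rpush fT g).mapIso (t ≪≫ (KFlatLib.pullUnitIso (pullback.fst f u ≫ pr)).symm) ≪≫ er
  let K' := K.bcChart hW H (U := ⊤) hle
  obtain ⟨Δ, ⟨E'⟩⟩ := CohCmpLib.exists_sectCmp fT
  have hs := K'.nonempty_secEquiv E' hT le_rfl g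
  rw [show K'.alg (le_refl (⊤ : T.Opens)) = K.algMap u ((le_refl (⊤ : T.Opens)).trans hle) from
    K.bcChart_alg hW H hle le_rfl] at hs
  obtain ⟨es⟩ := hs
  obtain ⟨bb⟩ := RankLocusLib.nonempty_basis_freeMod T r
  exact ⟨r, ⟨es.trans ((gammaTopEquiv iso).trans bb.equivFun)⟩⟩

/-- At a closed point with trivial fibre, the top higher direct image is the ring of the triviality locus. -/
theorem stalk_top (hsq : IsPullback pr f a b) {L : X.Modules} (hL : PicF.IsInvertible L) (z : S)
    (hzc : IsClosed ({z} : Set S)) {g : ℕ} (hg : 0 < g)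
    (hzero : ∀ p, p ≠ g → IsZero ((Coh.Rpush f p).obj L))
    (rs : List (S.presheaf.stalk z)) (hrs : RingTheory.Sequence.IsWeaklyRegular (S.presheaf.stalk z) rs)
    (hlen : g ≤ rs.length) (hmem : ∀ x ∈ rs, x ∈ maximalIdeal (S.presheaf.stalk z))
    (htor : ∀ x ∈ maximalIdeal (S.presheaf.stalk z), ∀ σ : ((Coh.Rpush f g).obj L).presheaf.stalk z,
      ∃ n : ℕ, x ^ n • σ = 0)
    (hfib : Nonempty (CohIII.fiberMod f L z ≅ Coh.structureModule (f.fiber z)))
    (J : Ideal (S.presheaf.stalk z)) (hJ : J ≤ maximalIdeal (S.presheaf.stalk z))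
    (hJ₁ : TrivOver f L (testMap z (S.presheaf.stalk z ⧸ J)))
    (hJ₂ : ∀ I : Ideal (S.presheaf.stalk z), I ≤ maximalIdeal (S.presheaf.stalk z) →
      TrivOver f L (testMap z (S.presheaf.stalk z ⧸ I)) → J ≤ I) :
    Nonempty (((Coh.Rpush f g).obj L).presheaf.stalk z ≃ₗ[S.presheaf.stalk z] (S.presheaf.stalk z ⧸ J)) := by
  have hLc := CurvLib.isCoh_of_isInvertible hL
  haveI : Coh.IsQCoh L := hLc.1
  obtain ⟨hq', hfp, hfl⟩ := CohCmpLib.rank_one_hyps f ((CohCmpLib.invertible_iff_rank_one L).1 hL)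
  obtain ⟨W, hW, hz, -⟩ := exists_isAffineOpen_mem_and_subset (x := z) (U := ⊤) trivial
  obtain ⟨K⟩ := exists_chart hfp hfl hW
  haveI : ∀ p, Coh.IsQCoh ((Coh.Rpush f p).obj L) := fun p => (Groth.Agent.S0036.result f L hLc p).1
  let R : Type u := S.presheaf.stalk z
  letI : Algebra K.A₀ R := stalkAlg K hz
  haveI : IsNoetherianRing R := inferInstanceAs (IsNoetherianRing (S.presheaf.stalk z))
  have E := fun p => stalk_equiv hW K hz p (F := L)
  have hz0 : ∀ p, p ≠ g → Subsingleton (HmB (K.a p) (K.b p) R) := fun p hp => by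
    obtain ⟨e⟩ := E p
    haveI := ModuleCat.subsingleton_of_isZero ((DevissLib.St z).map_isZero (hzero p hp))
    exact @Equiv.subsingleton _ _ e.toEquiv (by assumption)
  have hflR : ∀ p, g < p → K.Fl p R := fl_of_zero K R g fun p hp => hz0 p hp.ne'
  -- the residue field
  letI := K.alg (le_refl W)
  let q := hW.primeIdealOf ⟨z, hz⟩
  haveI : q.asIdeal.IsMaximal := hW.primeIdealOf_isMaximal_of_isClosed ⟨z, hz⟩ hzc
  let κ : Type u := q.asIdeal.ResidueField
  letI : Algebra Γ(S, W) R := (S.presheaf.germ W z hz).hom.toAlgebra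
  haveI : IsLocalization.AtPrime R q.asIdeal := hW.isLocalization_stalk ⟨z, hz⟩
  haveI : IsScalarTower K.A₀ Γ(S, W) R := IsScalarTower.of_algebraMap_eq fun x => rfl
  have hu : ∀ s : q.asIdeal.primeCompl, IsUnit (algebraMap Γ(S, W) κ s) := fun s =>
    isUnit_iff_ne_zero.2 fun h => s.2 ((Ideal.ker_algebraMap_residueField q.asIdeal).le h)
  letI : Algebra R κ := (IsLocalization.lift (S := R) hu).toAlgebra
  haveI : IsScalarTower Γ(S, W) R κ := IsScalarTower.of_algebraMap_eq fun x =>
    (IsLocalization.lift_eq (S := R) hu x).symm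
  haveI : IsScalarTower K.A₀ R κ := IsScalarTower.of_algebraMap_eq fun x => by
    rw [IsScalarTower.algebraMap_apply K.A₀ Γ(S, W) R, ← IsScalarTower.algebraMap_apply Γ(S, W) R κ,
      ← IsScalarTower.algebraMap_apply K.A₀ Γ(S, W) κ]
  have hκ : Function.Surjective (algebraMap R κ) := fun c => by
    obtain ⟨x, rfl⟩ := Ideal.algebraMap_residueField_surjective q.asIdeal c
    exact ⟨algebraMap Γ(S, W) R x, (IsScalarTower.algebraMap_apply Γ(S, W) R κ x).symm⟩
  have hκker : RingHom.ker (algebraMap R κ) = maximalIdeal R :=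
    IsLocalRing.eq_maximalIdeal (RingHom.ker_isMaximal_of_surjective _ hκ)
  have h0 : Module.finrank κ (HmB (K.a 0) (K.b 0) κ) = 1 := by
    rw [← (K.fibre_spec hW le_rfl 0 q).1, hW.fromSpec_primeIdealOf]
    exact fiberRank_eq_one f (fun y => finrank_global_of_geometricallyIntegral (f := f) y) z hfib
  haveI : ∀ p, Module.Finite R (HmB (K.a p) (K.b p) R) := fun p => inferInstance
  haveI : Nontrivial (HmB (K.a g) (K.b g) R) := by
    by_contra hn
    rw [not_nontrivial_iff_subsingleton] at hn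
    have hall : ∀ p, Subsingleton (HmB (K.a p) (K.b p) R) := fun p =>
      if hp : p = g then hp ▸ hn else hz0 p hp
    have h1 := K.bijective_canHm R 0 (fl_of_zero K R 0 (fun p _ => hall p) 1 Nat.one_pos) κ
    haveI := hall 0
    haveI : Subsingleton (HmB (K.a 0) (K.b 0) κ) :=
      ((towEquiv (K.a 0) (K.b 0)).toEquiv.symm.subsingleton_congr).2
        ((Equiv.ofBijective _ h1).subsingleton_congr.1 inferInstance)
    rw [Module.finrank_zero_of_subsingleton] at h0
    exact zero_ne_one h0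
  -- the class in the closed fibre
  obtain ⟨m₀, h₁, h₂, h₃⟩ : ∃ m₀ : term K R 0,
      diff K R 0 m₀ ∈ maximalIdeal R • (⊤ : Submodule R (term K R 1 : Type u)) ∧
      m₀ ∉ maximalIdeal R • (⊤ : Submodule R (term K R 0 : Type u)) ∧
      ∀ x, diff K R 0 x ∈ maximalIdeal R • (⊤ : Submodule R (term K R 1 : Type u)) →
        ∃ c : R, x - c • m₀ ∈ maximalIdeal R • (⊤ : Submodule R (term K R 0 : Type u)) := by
    have hmem : ∀ p (x : term K R p), red K R κ p x = 0 ↔ x ∈ maximalIdeal R • (⊤ : Submodule R (term K R p : Type u)) :=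
      fun p x => (red_eq_zero_iff K hκ p x).trans
        (Iff.of_eq (congrArg (fun I : Ideal R => x ∈ I • (⊤ : Submodule R (term K R p : Type u))) hκker))
    have hrank : Module.finrank κ (topMod K κ 0) = 1 := (topEquiv K κ 0).finrank_eq.symm.trans h0
    haveI : Nontrivial (topMod K κ 0) := Module.nontrivial_of_finrank_eq_succ hrank
    obtain ⟨v, hv⟩ := exists_ne (0 : topMod K κ 0)
    obtain ⟨y, rfl⟩ := Submodule.Quotient.mk_surjective _ v
    obtain ⟨m₀, hm₀⟩ := red_surjective K hκ 0 y.1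
    refine ⟨m₀, (hmem 1 _).1 ?_, fun h => hv ?_, fun x hx => ?_⟩
    · rw [red_diff, hm₀]; exact y.2
    · refine (Submodule.Quotient.mk_eq_zero _).2 ?_
      show y.1 ∈ (⊥ : Submodule κ (term K κ 0 : Type u))
      rw [← hm₀, (hmem 0 m₀).2 h]; exact zero_mem _
    · let x' : LinearMap.ker (diff K κ 0) := ⟨red K R κ 0 x, by
        rw [LinearMap.mem_ker, ← red_diff, (hmem 1 _).2 hx]⟩
      obtain ⟨c, hc⟩ := exists_smul_eq_of_finrank_eq_one hrank hv (Submodule.Quotient.mk x')
      obtain ⟨c, rfl⟩ := hκ c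
      refine ⟨c, (hmem 0 _).1 ?_⟩
      rw [← Submodule.Quotient.mk_smul, Submodule.Quotient.eq] at hc
      have hc' : algebraMap R κ c • y.1 - red K R κ 0 x = 0 := (Submodule.mem_bot κ).1 hc
      rw [map_sub, map_smul, hm₀, ← algebraMap_smul κ c y.1, ← neg_sub, hc', neg_zero]
  -- the functions on the triviality locus
  haveI : Nontrivial (R ⧸ J) := Ideal.Quotient.nontrivial_iff.2 fun h =>
    (maximalIdeal.isMaximal R).ne_top (top_le_iff.1 (h ▸ hJ))
  haveI : IsLocalRing (R ⧸ J) := IsLocalRing.of_surjective' _ Ideal.Quotient.mk_surjective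
  haveI : IsLocalHom (algebraMap R (R ⧸ J)) := IsLocalHom.of_surjective _ Ideal.Quotient.mk_surjective
  let u := testMap z (R ⧸ J)
  let T := Spec (CommRingCat.of (R ⧸ J))
  have hle : (⊤ : T.Opens) ≤ u ⁻¹ᵁ W := le_testMap hz (R ⧸ J)
  let ψ := (Scheme.ΓSpecIso (CommRingCat.of (R ⧸ J))).symm
  let C : Type u := Γ(T, ⊤)
  letI : Algebra (R ⧸ J) C := ψ.hom.hom.toAlgebra
  letI : Algebra R C := (ψ.hom.hom.comp (Ideal.Quotient.mk J)).toAlgebra
  haveI : IsScalarTower R (R ⧸ J) C := IsScalarTower.of_algebraMap_eq fun x => rfl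
  have hψ : Function.Bijective (algebraMap (R ⧸ J) C) := ConcreteCategory.bijective_of_isIso ψ.hom
  have hC : Function.Surjective (algebraMap R C) := hψ.2.comp Ideal.Quotient.mk_surjective
  have hCker : RingHom.ker (algebraMap R C) = J := by
    ext x
    rw [RingHom.mem_ker, IsScalarTower.algebraMap_apply R (R ⧸ J) C, map_eq_zero_iff _ hψ.1]
    exact Ideal.Quotient.eq_zero_iff_mem
  haveI : Nontrivial C := hψ.1.nontrivial
  haveI : IsLocalRing C := IsLocalRing.of_surjective' _ hC
  letI : Algebra K.A₀ C := K.algMap u hle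
  haveI : IsScalarTower K.A₀ (R ⧸ J) C := IsScalarTower.of_algebraMap_eq fun x => by
    change (u.appLE W ⊤ hle).hom _ = ψ.hom.hom (algebraMap K.A₀ (R ⧸ J) x)
    rw [appLE_testMap hW hz]
    rfl
  haveI : IsScalarTower K.A₀ R C := IsScalarTower.of_algebraMap_eq fun x => by
    rw [IsScalarTower.algebraMap_apply K.A₀ (R ⧸ J) C, IsScalarTower.algebraMap_apply K.A₀ R (R ⧸ J),
      ← IsScalarTower.algebraMap_apply R (R ⧸ J) C]
  have htest := fun (I : Ideal R) [IsLocalRing (R ⧸ I)] [IsLocalHom (algebraMap R (R ⧸ I))] =>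
    trivOver_iff_sec hW K hz hL (R ⧸ I) rfl
  have hsec : SecI K R (RingHom.ker (algebraMap R C)) :=
    (secI_iff K hC).2 ((sec_congr K hψ).1 ((htest J).1 hJ₁))
  have hmin : ∀ I : Ideal R, I ≤ maximalIdeal R → SecI K R I → RingHom.ker (algebraMap R C) ≤ I := by
    intro I hI hs
    haveI : Nontrivial (R ⧸ I) := Ideal.Quotient.nontrivial_iff.2 fun h =>
      (maximalIdeal.isMaximal R).ne_top (top_le_iff.1 (h ▸ hI))
    haveI : IsLocalRing (R ⧸ I) := IsLocalRing.of_surjective' _ Ideal.Quotient.mk_surjective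
    haveI : IsLocalHom (algebraMap R (R ⧸ I)) := IsLocalHom.of_surjective _ Ideal.Quotient.mk_surjective
    rw [hCker]
    refine hJ₂ I hI ((htest I).2 hfib ((secI_iff K (R := R) Ideal.Quotient.mk_surjective).1 ?_))
    rwa [show RingHom.ker (algebraMap R (R ⧸ I)) = I from Ideal.mk_ker]
  -- freeness over the locus
  obtain ⟨r, ⟨e₀⟩⟩ := free_hm_of_trivial hsq hL hW K u (isAffineOpen_top T) hle g hJ₁
  let ef : C ⊗[R] HmB (K.a g) (K.b g) R ≃ₗ[C] (Fin r → C) :=
    ((LinearEquiv.ofBijective _ (K.bijective_canHm R g (hflR (g + 1) g.lt_succ_self) C)).trans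
      (towEquiv (K.a g) (K.b g))).trans e₀
  have htor' : ∀ x ∈ rs, ∃ n : ℕ, ∀ σ : HmB (K.a g) (K.b g) R, x ^ n • σ = 0 := by
    intro x hx
    obtain ⟨e⟩ := E g
    obtain ⟨s, hs⟩ := (Module.Finite.fg_top (R := R) (M := HmB (K.a g) (K.b g) R))
    choose n hn using fun σ : HmB (K.a g) (K.b g) R => htor x (hmem x hx) (e σ)
    refine ⟨s.sup n, fun σ => ?_⟩
    have : σ ∈ LinearMap.ker (LinearMap.lsmul R (HmB (K.a g) (K.b g) R) (x ^ s.sup n)) := by
      refine (top_le_iff.2 rfl).trans (hs.ge.trans (Submodule.span_le.2 fun v hv => ?_)) (Submodule.mem_top (x := σ))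
      refine LinearMap.mem_ker.2 (e.injective ?_)
      rw [LinearMap.lsmul_apply, map_smul, map_zero, ← Nat.sub_add_cancel (Finset.le_sup hv : n v ≤ s.sup n),
        pow_add, mul_smul, hn, smul_zero]
    exact this
  obtain ⟨e⟩ := top_equiv K hg hz0 rs hrs hlen htor' m₀ h₁ h₂ h₃ hC (hCker ▸ hJ) hsec hmin ef
  obtain ⟨eg⟩ := E g
  exact ⟨(eg.symm.trans e).trans ((LinearEquiv.ofBijective
    ((IsScalarTower.toAlgHom R (R ⧸ J) C).toLinearMap) hψ).symm)⟩

end Point

end AVIndexLib

end
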