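import Groth.Agent.AVIndexLib.TopChart
import Groth.Agent.CohCmpLib.ChartFibre
import Groth.Agent.CohCmpLib.FamilyPic
import Groth.Agent.CohCmpLib.NearFibre
import Groth.Agent.CohCmpLib.GenExists

/-!
Kernel elements of a chart over a local base: reduction, flat descent, and the meaning on the geometric side.
-/

set_option autoImplicit false
set_option maxHeartbeats 1000000
set_option maxRecDepth 8000
set_option backward.isDefEq.respectTransparency false
set_option linter.style.haveILetI false
set_option linter.unusedSectionVars false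

noncomputable section

universe u

open CategoryTheory AlgebraicGeometry TensorProduct CohCmpLib IsLocalRing

namespace AVIndexLib

variable {X S : Scheme.{u}} {f : X ⟶ S} {F : X.Modules} {W : S.Opens} (K : Chart f F W)

/-- A kernel element of the chart, nonzero in the closed fibre. -/
def Sec (C : Type u) [CommRing C] [Algebra K.A₀ C] [IsLocalRing C] : Prop :=
  ∃ y : term K C 0, diff K C 0 y = 0 ∧ y ∉ maximalIdeal C • (⊤ : Submodule C (term K C 0 : Type u))

section Change

variable (R C : Type u) [CommRing R] [CommRing C] [Algebra K.A₀ R] [Algebra K.A₀ C] [Algebra R C]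
  [IsScalarTower K.A₀ R C] [IsLocalRing R] [IsLocalRing C]

theorem red_mem_smul [IsLocalHom (algebraMap R C)] (p : ℕ) (x : term K R p)
    (hx : x ∈ maximalIdeal R • (⊤ : Submodule R (term K R p : Type u))) :
    red K R C p x ∈ maximalIdeal C • (⊤ : Submodule C (term K C p : Type u)) := by
  refine Submodule.smul_induction_on hx (fun r hr n _ => ?_) (fun a b ha hb => by rw [map_add]; exact add_mem ha hb)
  rw [map_smul, ← algebraMap_smul C r]
  exact Submodule.smul_mem_smul (fun h => hr (isUnit_of_map_unit (algebraMap R C) r h)) trivial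

variable {R C} in
/-- A kernel element modulo the kernel of a surjection. -/
theorem secI_iff (hC : Function.Surjective (algebraMap R C)) :
    SecI K R (RingHom.ker (algebraMap R C)) ↔ Sec K C := by
  haveI : IsLocalHom (algebraMap R C) := IsLocalHom.of_surjective _ hC
  have hle : RingHom.ker (algebraMap R C) ≤ maximalIdeal R := IsLocalRing.le_maximalIdeal (RingHom.ker_ne_top _)
  have key : ∀ x : term K R 0, red K R C 0 x ∈ maximalIdeal C • (⊤ : Submodule C (term K C 0 : Type u)) →
      x ∈ maximalIdeal R • (⊤ : Submodule R (term K R 0 : Type u)) := by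
    intro x hx
    obtain ⟨w, hw, e⟩ : ∃ w ∈ maximalIdeal R • (⊤ : Submodule R (term K R 0 : Type u)), red K R C 0 w = red K R C 0 x := by
      refine Submodule.smul_induction_on hx (fun c hc n _ => ?_) (fun a b ⟨a', ha', ea⟩ ⟨b', hb', eb⟩ =>
        ⟨a' + b', add_mem ha' hb', by rw [map_add, ea, eb]⟩)
      obtain ⟨r, rfl⟩ := hC c
      obtain ⟨m, rfl⟩ := red_surjective K hC 0 n
      exact ⟨r • m, Submodule.smul_mem_smul (fun h => hc (h.map _)) trivial, by rw [map_smul, algebraMap_smul]⟩
    have h0 := (red_eq_zero_iff K hC 0 (x - w)).1 (by rw [map_sub, e, sub_self])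
    have := add_mem (Submodule.smul_mono hle le_rfl h0) hw
    rwa [sub_add_cancel] at this
  constructor
  · rintro ⟨x, h1, h2⟩
    exact ⟨red K R C 0 x, by rw [← red_diff, (red_eq_zero_iff K hC 1 _).2 h1], fun h => h2 (key x h)⟩
  · rintro ⟨y, h1, h2⟩
    obtain ⟨x, rfl⟩ := red_surjective K hC 0 y
    exact ⟨x, (red_eq_zero_iff K hC 1 _).1 ((red_diff K R C 0 x).trans h1), fun h => h2 (red_mem_smul K R C 0 x h)⟩

/-- The transition on terms, linearly extended. -/
def redLift (p : ℕ) : C ⊗[R] (term K R p : Type u) →ₗ[C] (term K C p : Type u) :=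
  LinearMap.liftBaseChange C (red K R C p)

theorem redLift_bijective : ∀ p, Function.Bijective (redLift K R C p)
  | 0 => by
    have e : redLift K R C 0 = (cokTow (K.a 0) R C).toLinearMap := by
      refine TensorProduct.AlgebraTensorModule.ext fun c x => ?_
      induction x using Submodule.Quotient.induction_on with
      | H y =>
        rw [redLift, LinearMap.liftBaseChange_tmul]
        have hg : ((LinearMap.range ((K.a 0).baseChange R)).mkQ.baseChange C) (c ⊗ₜ[R] y) =
            c ⊗ₜ[R] (Submodule.Quotient.mk y : cokB (K.a 0) R) := LinearMap.baseChange_tmul ..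
        change c • red K R C 0 (Submodule.Quotient.mk y) =
          cokTow (K.a 0) R C (c ⊗ₜ[R] (Submodule.Quotient.mk y : cokB (K.a 0) R))
        rw [← hg]
        simp only [cokTow, LinearEquiv.trans_apply]
        erw [LinearMap.quotKerEquivOfSurjective_symm_apply]
        show c • (Submodule.Quotient.mk (towV K.A₀ R C _ y) : cokB (K.a 0) C) =
          Submodule.Quotient.mk (TensorProduct.AlgebraTensorModule.cancelBaseChange K.A₀ R C C _ (c ⊗ₜ[R] y))
        rw [← Submodule.Quotient.mk_smul]
        congr 1
        clear hg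
        induction y using TensorProduct.induction_on with
        | zero => rw [TensorProduct.tmul_zero]; exact (congrArg (c • ·) (map_zero _)).trans ((smul_zero c).trans (map_zero _).symm)
        | tmul r v => simp [towV_tmul, Algebra.smul_def, smul_tmul', mul_comm]
        | add a b ha hb => rw [TensorProduct.tmul_add, map_add, map_add, smul_add, ha, hb]
    rw [e]; exact (cokTow (K.a 0) R C).bijective
  | j + 1 => by
    have e : redLift K R C (j + 1) =
        (TensorProduct.AlgebraTensorModule.cancelBaseChange K.A₀ R C C _).toLinearMap := by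
      refine TensorProduct.AlgebraTensorModule.ext fun c y => ?_
      rw [redLift, LinearMap.liftBaseChange_tmul]
      change c • towV K.A₀ R C _ y =
        TensorProduct.AlgebraTensorModule.cancelBaseChange K.A₀ R C C _ (c ⊗ₜ[R] y)
      induction y using TensorProduct.induction_on with
      | zero => rw [TensorProduct.tmul_zero]; exact (congrArg (c • ·) (map_zero _)).trans ((smul_zero c).trans (map_zero _).symm)
      | tmul r v => simp [towV_tmul, Algebra.smul_def, smul_tmul', mul_comm]
      | add a b ha hb => rw [TensorProduct.tmul_add, map_add, map_add, smul_add, ha, hb]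
    rw [e]; exact LinearEquiv.bijective _

/-- Kernel elements descend along flat local homomorphisms. -/
theorem sec_of_flat [Module.Flat R C] [IsLocalHom (algebraMap R C)] (h : Sec K C) : Sec K R := by
  obtain ⟨y, hy, hy'⟩ := h
  obtain ⟨w, rfl⟩ := (redLift_bijective K R C 0).2 y
  have hd : ∀ w : C ⊗[R] (term K R 0 : Type u),
      diff K C 0 (redLift K R C 0 w) = redLift K R C 1 ((diff K R 0).baseChange C w) := fun w => by
    induction w using TensorProduct.induction_on with
    | zero => simp
    | tmul c x => rw [redLift, redLift, LinearMap.baseChange_tmul, LinearMap.liftBaseChange_tmul,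
        LinearMap.liftBaseChange_tmul, map_smul, red_diff]
    | add a b ha hb => simp only [map_add, ha, hb]
  have h0 : (diff K R 0).baseChange C w = 0 := (redLift_bijective K R C 1).1 (by rw [← hd, hy, map_zero])
  obtain ⟨v, rfl⟩ := ((Module.Flat.lTensor_exact C (LinearMap.exact_subtype_ker_map (diff K R 0))) w).1 h0
  by_contra hs
  refine hy' ?_
  clear hy hy' h0
  induction v using TensorProduct.induction_on with
  | zero => rw [map_zero, map_zero]; exact zero_mem _
  | tmul c x =>
    rw [LinearMap.lTensor_tmul, redLift, LinearMap.liftBaseChange_tmul]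
    refine Submodule.smul_mem _ c (red_mem_smul K R C 0 _ ?_)
    by_contra hx
    exact hs ⟨x.1, x.2, hx⟩
  | add a b ha hb =>
    rw [map_add, map_add]
    exact add_mem ha hb

end Change

section Residue

/-- The image of a class vanishes exactly when its image in the cokernel does. -/
theorem towHm_mk_eq_zero_iff {A U V W : Type u} [CommRing A] [AddCommGroup U] [Module A U] [AddCommGroup V]
    [Module A V] [AddCommGroup W] [Module A W] (a : U →ₗ[A] V) (b : V →ₗ[A] W) (C k : Type u) [CommRing C]
    [CommRing k] [Algebra A C] [Algebra A k] [Algebra C k] [IsScalarTower A C k]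
    (z : LinearMap.ker (b.baseChange C)) :
    towHm (B' := k) a b (Submodule.Quotient.mk z) = 0 ↔
      (Submodule.Quotient.mk (towV A C k V z.1) : cokB a k) = 0 := by
  rw [towHm_mk, Submodule.Quotient.mk_eq_zero, Submodule.Quotient.mk_eq_zero]
  rfl

/-- The image of a class vanishes exactly when the reduced term does. -/
theorem towHm_eq_zero_iff (C k : Type u) [CommRing C] [CommRing k] [Algebra K.A₀ C] [Algebra K.A₀ k] [Algebra C k]
    [IsScalarTower K.A₀ C k] (z : LinearMap.ker ((K.b 0).baseChange C)) :
    towHm (B' := k) (K.a 0) (K.b 0) (Submodule.Quotient.mk z) = 0 ↔ red K C k 0 (toTerm K C 0 z.1) = 0 :=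
  towHm_mk_eq_zero_iff (K.a 0) (K.b 0) C k z

variable (C : Type u) [CommRing C] [Algebra K.A₀ C] [IsLocalRing C] (q : PrimeSpectrum C)
  (hq : q.asIdeal = maximalIdeal C)

include hq in
/-- With one dimensional fibre homology, a kernel element is the surjectivity of the exchange map. -/
theorem sec_iff_surjective
    (hone : Module.finrank q.asIdeal.ResidueField (HmB (K.a 0) (K.b 0) q.asIdeal.ResidueField) = 1) :
    Sec K C ↔ Function.Surjective (canHm ((K.a 0).baseChange C) ((K.b 0).baseChange C) q.asIdeal.ResidueField) := by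
  let k := q.asIdeal.ResidueField
  haveI : q.asIdeal.IsMaximal := hq ▸ maximalIdeal.isMaximal C
  have hk : Function.Surjective (algebraMap C k) := Ideal.algebraMap_residueField_surjective _
  have hker : RingHom.ker (algebraMap C k) = maximalIdeal C := (Ideal.ker_algebraMap_residueField _).trans hq
  rw [← surjective_tow_iff]
  have hnz : ∀ z : LinearMap.ker ((K.b 0).baseChange C),
      towHm (B' := k) (K.a 0) (K.b 0) (Submodule.Quotient.mk z) = 0 ↔
        toTerm K C 0 z.1 ∈ maximalIdeal C • (⊤ : Submodule C (term K C 0 : Type u)) := by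
    intro z
    refine (towHm_eq_zero_iff K C k z).trans ((red_eq_zero_iff K hk 0 _).trans ?_)
    exact Iff.of_eq (congrArg (fun I : Ideal C => toTerm K C 0 z.1 ∈ I • (⊤ : Submodule C (term K C 0 : Type u))) hker)
  constructor
  · rintro ⟨y, hy, hy'⟩
    obtain ⟨z, rfl⟩ := toTerm_surjective K C 0 y
    let zz : LinearMap.ker ((K.b 0).baseChange C) := ⟨z, (diff_toTerm K C 0 z).symm.trans hy⟩
    have hne := mt (hnz zz).1 hy'
    intro v
    obtain ⟨c, hc⟩ := exists_smul_eq_of_finrank_eq_one hone hne v
    exact ⟨c ⊗ₜ Submodule.Quotient.mk zz, (LinearMap.liftBaseChange_tmul ..).trans hc⟩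
  · intro h
    by_contra hs
    haveI : Nontrivial (HmB (K.a 0) (K.b 0) k) := Module.nontrivial_of_finrank_eq_succ hone
    obtain ⟨v, hv⟩ := exists_ne (0 : HmB (K.a 0) (K.b 0) k)
    obtain ⟨w, rfl⟩ := h v
    refine hv ?_
    induction w using TensorProduct.induction_on with
    | zero => exact map_zero _
    | tmul c x =>
      obtain ⟨z, rfl⟩ := Submodule.Quotient.mk_surjective _ x
      rw [LinearMap.liftBaseChange_tmul, (hnz z).2 (by
        by_contra hz
        exact hs ⟨_, (diff_toTerm K C 0 z.1).trans z.2, hz⟩), smul_zero]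
    | add a b ha hb =>
      by_cases h1 : (LinearMap.liftBaseChange k (towHm (B' := k) (K.a 0) (K.b 0))) a = 0
      · by_cases h2 : (LinearMap.liftBaseChange k (towHm (B' := k) (K.a 0) (K.b 0))) b = 0
        · rw [map_add, h1, h2, add_zero]
        · exact absurd (hb h2) h2
      · exact absurd (ha h1) h1

end Residue

end AVIndexLib

namespace CohCmpLib

open CategoryTheory.Limits

variable {X S : Scheme.{u}} {f : X ⟶ S} {X' S' : Scheme.{u}} {g : S' ⟶ S} {f' : X' ⟶ S'} {g' : X' ⟶ X}
  {w : g' ≫ f = f' ≫ g} [HasInjectiveResolutions X.Modules] [HasInjectiveResolutions X'.Modules]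
  {Δ : RDer.DerivedLES (Scheme.Modules.pushforward f)} {E : CohCmp.SectCmp f Δ}
  {Δ' : RDer.DerivedLES (Scheme.Modules.pushforward f')} {E' : CohCmp.SectCmp f' Δ'}

theorem epi_bc0_of_bc (C : CohCmp.GenBC f g f' g' w E E') (F : X.Modules) (h : Epi (C.bc 0 F)) :
    Epi (CohBC.bc0 f g f' g' w F) := by
  have h1 : Epi (CohBC.bc0 f g f' g' w F ≫ (Scheme.Modules.pushforward f').toRightDerivedZero.app
      ((Scheme.Modules.pullback g').obj F)) := by
    rw [← bc_zero C F]
    exact epi_comp _ _
  exact (epi_comp_iff_of_isIso _ _).1 h1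

end CohCmpLib

namespace AVIndexLib

open CategoryTheory.Limits TopologicalSpace

variable {X T : Scheme.{u}} {f : X ⟶ T} [IsProper f] [LocallyOfFinitePresentation f] {L : X.Modules}

/-- On the geometric side a kernel element is the surjectivity of base change to the closed fibre. -/
theorem sec_iff_epi_bc0 [Coh.IsQCoh L] [HasInjectiveResolutions X.Modules] {W V : T.Opens}
    (K : Chart f L W) (hV : IsAffineOpen V) (hle : V ≤ W) [IsLocalRing Γ(T, V)] (q : PrimeSpectrum Γ(T, V))
    (hq : q.asIdeal = maximalIdeal Γ(T, V)) (hone : CohIII.fiberRank f L 0 (hV.fromSpec q) = 1) :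
    letI := K.alg hle
    Sec K Γ(T, V) ↔ Epi (CohBC.bc0 f (T.fromSpecResidueField (hV.fromSpec q))
      (f.fiberToSpecResidueField (hV.fromSpec q)) (f.fiberι (hV.fromSpec q)) (f.fiber_fac (hV.fromSpec q)) L) := by
  letI := K.alg hle
  set y := hV.fromSpec q with hy
  have : HasInjectiveResolutions (f.fiber y).Modules := inferInstance
  obtain ⟨Δ, ⟨E⟩⟩ := exists_sectCmp f
  obtain ⟨Δ', ⟨E'⟩⟩ := exists_sectCmp (f.fiberToSpecResidueField y)
  let B := genBC (f.fiber_fac y) E E'
  have h1 := (K.fibre_spec hV hle 0 q).1
  rw [hone] at h1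
  rw [sec_iff_surjective K Γ(T, V) q hq h1.symm, ← K.epi_fibre_iff hV hle E 0 q E' B]
  exact ⟨epi_bc0_of_bc B L, epi_bc_of_bc0 B L⟩

end AVIndexLib

end
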