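import Groth.Agent.AVIndexLib.TopSec
import Groth.Agent.CohCmpLib.StratChart

/-!
Testing triviality of a family over local rings mapping to the base, through a chart.
-/

set_option autoImplicit false
set_option maxHeartbeats 1000000
set_option maxRecDepth 8000
set_option backward.isDefEq.respectTransparency false
set_option linter.style.haveILetI false
set_option linter.unusedSectionVars false

noncomputable section

universe u

open CategoryTheory CategoryTheory.Limits AlgebraicGeometry TopologicalSpace CohCmpLib IsLocalRing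

namespace AVIndexLib

/-- Triviality on a fibre passes to the fibres of a base change. -/
theorem fibre_trivial_bc {X S X' T : Scheme.{u}} {f : X ⟶ S} {u : T ⟶ S} {fT : X' ⟶ T} {g : X' ⟶ X}
    (H : IsPullback g fT f u) {L : X.Modules} (t : T)
    (h : Nonempty (CohIII.fiberMod f L (u t) ≅ Coh.structureModule (f.fiber (u t)))) :
    Nonempty (CohIII.fiberMod fT ((Scheme.Modules.pullback g).obj L) t ≅ Coh.structureModule (fT.fiber t)) := by
  obtain ⟨e⟩ := h
  let v : fT.fiber t ⟶ f.fiber (u t) := pullback.lift (fT.fiberι t ≫ g)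
    (fT.fiberToSpecResidueField t ≫ Spec.map (u.residueFieldMap t)) (by
      rw [Category.assoc, H.w, ← Category.assoc, fT.fiber_fac, Category.assoc, Category.assoc,
        Scheme.Hom.SpecMap_residueFieldMap_fromSpecResidueField])
  have hv : v ≫ f.fiberι (u t) = fT.fiberι t ≫ g := pullback.lift_fst _ _ _
  exact ⟨(Scheme.Modules.pullbackComp (fT.fiberι t) g).app L ≪≫ (Scheme.Modules.pullbackCongr hv.symm).app L ≪≫
    ((Scheme.Modules.pullbackComp v (f.fiberι (u t))).app L).symm ≪≫ (Scheme.Modules.pullback v).mapIso e ≪≫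
    KFlatLib.pullUnitIso v⟩

/-- Kernel elements only depend on the ring up to isomorphism. -/
theorem sec_congr {X S : Scheme.{u}} {f : X ⟶ S} {F : X.Modules} {W : S.Opens} (K : Chart f F W)
    {C C' : Type u} [CommRing C] [CommRing C'] [Algebra K.A₀ C] [Algebra K.A₀ C'] [Algebra C C']
    [IsScalarTower K.A₀ C C'] [IsLocalRing C] [IsLocalRing C'] (h : Function.Bijective (algebraMap C C')) :
    Sec K C ↔ Sec K C' := by
  rw [← secI_iff K h.2]
  have h0 : RingHom.ker (algebraMap C C') = RingHom.ker (algebraMap C C) := by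
    rw [(RingHom.injective_iff_ker_eq_bot _).1 h.1, (RingHom.injective_iff_ker_eq_bot _).1 (fun a b e => e)]
  rw [h0, secI_iff K (C := C) (fun a => ⟨a, rfl⟩)]

variable {X S : Scheme.{u}} {f : X ⟶ S} [IsProper f] [Flat f] [LocallyOfFinitePresentation f]
  [GeometricallyIntegral f] {L : X.Modules} {W : S.Opens}

/-- The scalars of a chart on a stalk. -/
@[reducible] def stalkAlg (K : Chart f L W) {z : S} (hz : z ∈ W) : Algebra K.A₀ (S.presheaf.stalk z) :=
  ((S.presheaf.germ W z hz).hom.comp ((S.presheaf.map (homOfLE (le_refl W)).op).hom.comp K.φ)).toAlgebra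

/-- The triviality of the family over a morphism to the base. -/
def TrivOver (f : X ⟶ S) (L : X.Modules) {T : Scheme.{u}} (u : T ⟶ S) : Prop :=
  Nonempty ((Scheme.Modules.pullback (pullback.fst f u)).obj L ≅ Coh.structureModule (pullback f u))

/-- The test morphism of a local homomorphism out of the stalk. -/
abbrev testMap (z : S) (C : Type u) [CommRing C] [Algebra (S.presheaf.stalk z) C] :
    Spec (CommRingCat.of C) ⟶ S :=
  Spec.map (CommRingCat.ofHom (algebraMap (S.presheaf.stalk z) C)) ≫ S.fromSpecStalk z

/-- Over a local ring, triviality is the existence of a kernel element. -/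
theorem trivOver_iff_sec (hW : IsAffineOpen W) (K : Chart f L W) {z : S} (hz : z ∈ W) (hL : PicF.IsInvertible L)
    (C : Type u) [CommRing C] [IsLocalRing C] [Algebra (S.presheaf.stalk z) C]
    [IsLocalHom (algebraMap (S.presheaf.stalk z) C)] [Algebra K.A₀ C]
    (hA : algebraMap K.A₀ C = (algebraMap (S.presheaf.stalk z) C).comp
      ((S.presheaf.germ W z hz).hom.comp ((S.presheaf.map (homOfLE (le_refl W)).op).hom.comp K.φ))) :
    (TrivOver f L (testMap z C) → Sec K C) ∧
      (Nonempty (CohIII.fiberMod f L z ≅ Coh.structureModule (f.fiber z)) → Sec K C →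
        TrivOver f L (testMap z C)) := by
  let R := S.presheaf.stalk z
  let T := Spec (CommRingCat.of C)
  let u : T ⟶ S := testMap z C
  have H : IsPullback (pullback.fst f u) (pullback.snd f u) f u := IsPullback.of_hasPullback f u
  let fT := pullback.snd f u
  haveI : IsProper fT := MorphismProperty.of_isPullback H ‹_›
  haveI : Flat fT := MorphismProperty.of_isPullback H ‹_›
  haveI : LocallyOfFinitePresentation fT := MorphismProperty.of_isPullback H ‹_›
  haveI : GeometricallyIntegral fT := MorphismProperty.of_isPullback H ‹_›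
  have h0 := fun y => finrank_global_of_geometricallyIntegral (f := fT) y
  let LT := (Scheme.Modules.pullback (pullback.fst f u)).obj L
  have hLT : PicF.IsInvertible LT := AmpleDevLib.isInvertible_pb _ hL
  have hLT1 := (invertible_iff_rank_one LT).1 hLT
  haveI : Coh.IsQCoh LT := TwistLib.isQCoh_of_isInvertible hLT
  haveI : HasInjectiveResolutions (pullback f u).Modules := inferInstance
  let cp : T := IsLocalRing.closedPoint C
  have hcp : u cp = z := by
    change (S.fromSpecStalk z) ((Spec.map (CommRingCat.ofHom (algebraMap R C))) cp) = z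
    rw [show (Spec.map (CommRingCat.ofHom (algebraMap R C))) cp = IsLocalRing.closedPoint R from
      IsLocalRing.comap_closedPoint (algebraMap R C), Scheme.fromSpecStalk_closedPoint]
  have hT : IsAffineOpen (⊤ : T.Opens) := isAffineOpen_top T
  have hle : (⊤ : T.Opens) ≤ u ⁻¹ᵁ W := fun t _ => by
    have hsp : t ⤳ cp := IsLocalRing.specializes_closedPoint t
    exact (hsp.map u.continuous).mem_open W.2 (by rw [hcp]; exact hz)
  let K' := K.bcChart hW H (U := ⊤) hle
  -- the global functions
  let e := (Scheme.ΓSpecIso (CommRingCat.of C)).symm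
  let C' : Type u := Γ(T, ⊤)
  letI : Algebra C C' := e.hom.hom.toAlgebra
  have hbij : Function.Bijective (algebraMap C C') := ConcreteCategory.bijective_of_isIso e.hom
  haveI : Nontrivial C' := hbij.1.nontrivial
  haveI : IsLocalRing C' := IsLocalRing.of_surjective' (algebraMap C C') hbij.2
  letI : Algebra K.A₀ C' := K.algMap u hle
  have happ : u.appLE W ⊤ hle =
      S.presheaf.germ W z hz ≫ CommRingCat.ofHom (algebraMap R C) ≫ e.hom := by
    apply Spec.map_injective
    rw [← cancel_mono hW.fromSpec, IsAffineOpen.SpecMap_appLE_fromSpec u hW hT hle]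
    simp only [Spec.map_comp, Category.assoc]
    rw [show Spec.map (S.presheaf.germ W z hz) ≫ hW.fromSpec = S.fromSpecStalk z from
      hW.fromSpecStalk_eq_fromSpecStalk hz, IsAffineOpen.fromSpec_top, Scheme.isoSpec_Spec_inv]
    rfl
  haveI : IsScalarTower K.A₀ C C' := IsScalarTower.of_algebraMap_eq fun x => by
    change (u.appLE W ⊤ hle).hom _ = e.hom.hom (algebraMap K.A₀ C x)
    rw [hA, happ]
    rfl
  let q : PrimeSpectrum C' := IsLocalRing.closedPoint C'
  have hy : hT.fromSpec q = cp := by
    have h1 : hT.fromSpec q ⤳ cp := IsLocalRing.specializes_closedPoint _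
    obtain ⟨p, hp⟩ := exists_fromSpec hT (show cp ∈ (⊤ : T.Opens) from trivial)
    have h2 : (p : PrimeSpectrum C') ⤳ q := IsLocalRing.specializes_closedPoint p
    have h3 := h2.map hT.fromSpec.continuous
    rw [hp] at h3
    exact (h1.antisymm h3).eq
  have halg : K'.alg (le_refl (⊤ : T.Opens)) = K.algMap u ((le_refl (⊤ : T.Opens)).trans hle) :=
    K.bcChart_alg hW H hle le_rfl
  have hiff : CohIII.fiberRank fT LT 0 (hT.fromSpec q) = 1 →
      (Sec K C ↔ Epi (CohBC.bc0 fT (T.fromSpecResidueField (hT.fromSpec q))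
        (fT.fiberToSpecResidueField (hT.fromSpec q)) (fT.fiberι (hT.fromSpec q))
        (fT.fiber_fac (hT.fromSpec q)) LT)) := by
    intro hone
    have h := sec_iff_epi_bc0 (L := LT) K' hT le_rfl q rfl hone
    rw [halg] at h
    exact (sec_congr K hbij).trans h
  constructor
  · rintro ⟨t⟩
    let iso : (Scheme.Modules.pullback fT).obj (Coh.structureModule T) ≅ LT := KFlatLib.pullUnitIso fT ≪≫ t.symm
    have hO : FlatMod.IsFinLocFreeOfRank 1 (Coh.structureModule T) :=
      (invertible_iff_rank_one _).1 (CubeConsLib.isInvertible_one T)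
    refine (hiff (fiberRank_eq_one fT h0 _ (trivial_of_iso_pullback fT hO iso.symm _))).2 ?_
    exact epi_bc0_of_iso fT _ iso ((unit_of_rank_one fT h0 hO).1 _)
  · intro hfib hs
    have hfy : Nonempty (CohIII.fiberMod fT LT (hT.fromSpec q) ≅ Coh.structureModule (fT.fiber (hT.fromSpec q))) := by
      refine fibre_trivial_bc H _ ?_
      rw [hy, hcp]
      exact hfib
    obtain ⟨U, hyU, ⟨iso⟩⟩ := exists_trivial_near fT hLT (hT.fromSpec q) hfy
      ((hiff (fiberRank_eq_one fT h0 _ hfy)).1 hs)
    rw [hy] at hyU
    obtain rfl : U = ⊤ := top_le_iff.1 fun t _ =>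
      (IsLocalRing.specializes_closedPoint (R := C) t).mem_open U.2 hyU
    let j := (fT ⁻¹ᵁ (⊤ : T.Opens)).ι
    haveI : IsIso j := (pullback f u).topIso.isIso_hom
    refine ⟨((Scheme.Modules.pullbackId _).app LT).symm ≪≫ (Scheme.Modules.pullbackCongr (IsIso.inv_hom_id j).symm).app LT ≪≫
      ((Scheme.Modules.pullbackComp (inv j) j).app LT).symm ≪≫ (Scheme.Modules.pullback (inv j)).mapIso
        (((Scheme.Modules.restrictFunctorIsoPullback j).app LT).symm ≪≫ iso) ≪≫ KFlatLib.pullUnitIso (inv j)⟩

end AVIndexLib

end
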