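import Groth.Agent.AVIndexLib.DualHom
import Groth.Agent.AmpleDevLib.Pull

/-!
The transpose of an isogeny is an isogeny.
-/

set_option autoImplicit false
set_option maxHeartbeats 1000000
set_option maxRecDepth 8000
set_option backward.isDefEq.respectTransparency false
set_option linter.style.haveILetI false
set_option linter.unusedSectionVars false

noncomputable section

universe u

open CategoryTheory CategoryTheory.Limits MonoidalCategory CartesianMonoidalCategory MonObj AlgebraicGeometry
open CubeConsLib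

namespace AVIndexLib

section Pullback

variable {k : Type u} [Field k] {X Y : Over (Spec (CommRingCat.of k))} [GrpObj X] [GrpObj Y] (f : X ⟶ Y) [IsMonHom f]
  {L : Y.left.Modules} (hL : PicF.IsInvertible L)

theorem lam_pb {V : Over (Spec (CommRingCat.of k))} (a b : V ⟶ X) :
    CubeConsLib.lam (AmpleDevLib.isInvertible_pb f.left hL) a b = CubeConsLib.lam hL (a ≫ f) (b ≫ f) := by
  have h : ∀ g : V ⟶ X, P (AmpleDevLib.isInvertible_pb f.left hL) g = P hL (g ≫ f) := fun g => P_pullback hL f g
  rw [CubeConsLib.lam, CubeConsLib.lam, h, h, h, MonObj.mul_comp]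

/-- The Mumford class of a pullback is the pullback of the Mumford class. -/
theorem mumford_pullback {ΛY : (PicF.XT Y.hom Y).Modules} (hΛY : PicF.IsInvertible ΛY)
    (cY : (clA hΛY : PicA (Y ⊗ Y).left) = CubeConsLib.lam hL (fst Y Y) (snd Y Y))
    [IsProper Y.hom] [GeometricallyIntegral Y.hom] :
    pullA (AbDual.bcMap f X ≫ PicF.XTmap Y.hom f) (clA hΛY) =
      (CubeConsLib.lam (AmpleDevLib.isInvertible_pb f.left hL) (fst X X) (snd X X) : PicA (X ⊗ X).left) := by
  have e : AbDual.bcMap f X ≫ PicF.XTmap Y.hom f = (lift (fst X X ≫ f) (snd X X ≫ f)).left := by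
    apply Limits.pullback.hom_ext
    · rw [Category.assoc, XTmap_fst, bcMap_fst]
      exact (congrArg Over.Hom.left (lift_fst (fst X X ≫ f) (snd X X ≫ f))).symm
    · rw [Category.assoc, XTmap_snd, ← Category.assoc, bcMap_snd]
      exact (congrArg Over.Hom.left (lift_snd (fst X X ≫ f) (snd X X ≫ f))).symm
  rw [e, lam_pb]
  show pullA (lift (fst X X ≫ f) (snd X X ≫ f)).left (clA hΛY : PicA (Y ⊗ Y).left) = _
  rw [cY, pullA_lam, lift_fst, lift_snd]

end Pullback

variable {k : Type u} [Field k] {X Y Xt Yt : Over (Spec (CommRingCat.of k))}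
  [GrpObj X] [IsProper X.hom] [GeometricallyIntegral X.hom]
  [GrpObj Y] [IsProper Y.hom] [GeometricallyIntegral Y.hom]
  [GrpObj Xt] [IsProper Xt.hom] [GeometricallyIntegral Xt.hom]
  [GrpObj Yt] [IsProper Yt.hom] [GeometricallyIntegral Yt.hom]
  {φX : AgPol.DualMap X Xt} (hX : AbDual.IsDualAV Scheme.fppfPrecoverage X Xt φX)
  {φY : AgPol.DualMap Y Yt} (hY : AbDual.IsDualAV Scheme.fppfPrecoverage Y Yt φY)
  (f : X ⟶ Y) [IsMonHom f] [IsFinite f.left] [Surjective f.left]
  (ft : Yt ⟶ Xt) (hft : AbDual.IsTranspose f φX φY ft)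

include hX hY hft in
/-- The transpose of an isogeny is an isogeny. -/
theorem transpose_isogeny_field : IsFinite ft.left ∧ Surjective ft.left := by
  obtain ⟨L, hL, ΛY, hΛY, hLa, cY⟩ := exists_phiL_data hY
  have hΛY0 := isPicZeroCl_mumford hL cY
  let M := (Scheme.Modules.pullback f.left).obj L
  have hM := AmpleDevLib.isInvertible_pb f.left hL
  have hMa : CohB1.IsAmple M := AmpleDevLib.isAmple_pb f.left hL hLa
  let m := AbDual.bcMap f X ≫ PicF.XTmap Y.hom f
  have hΛX := AmpleDevLib.isInvertible_pb m hΛY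
  have cX : (clA hΛX : PicA (X ⊗ X).left) = CubeConsLib.lam hM (fst X X) (snd X X) := by
    rw [← pullA_clA m hΛY]
    exact mumford_pullback f hL hΛY cY
  obtain ⟨-, hfin, hsurj, -⟩ := isogeny_phiL hX hM hMa hΛX cX
  obtain ⟨-, hfinY, hsurjY, -⟩ := isogeny_phiL hY hL hLa hΛY cY
  let ψX := φX X (PicF.cl ((Scheme.Modules.pullback m).obj ΛY))
  let g := f.left ≫ (φY Y (PicF.cl ΛY)).left
  have e : ψX.left = g ≫ ft.left := by
    have e1 : ψX = (f ≫ φY Y (PicF.cl ΛY)) ≫ ft := by
      rw [← hY.relPic.natural _ _ f _ hΛY0, ← hft X _ (isPicZeroCl_XTmap f hΛY0), pullCl_pullCl]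
      rfl
    rw [e1]
    simp only [g, Over.comp_left]
  haveI : IsFinite ψX.left := hfin
  haveI : Surjective ψX.left := hsurj
  haveI : Surjective (g ≫ ft.left) := e ▸ hsurj
  haveI : Surjective g := inferInstance
  haveI : Surjective ft.left := Surjective.of_comp g ft.left
  refine ⟨?_, inferInstance⟩
  haveI : IsProper ft.left := by
    haveI : IsProper (ft.left ≫ Xt.hom) := by rw [Over.w ft]; infer_instance
    exact IsProper.of_comp ft.left Xt.hom
  haveI : LocallyQuasiFinite ft.left := LocallyQuasiFinite.of_finite_preimage_singleton ft.left fun x => by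
    refine ((ψX.left.finite_preimage_singleton x).image g).subset fun y hy => ?_
    obtain ⟨z, rfl⟩ := g.surjective y
    exact ⟨z, by rw [Set.mem_preimage, e, Scheme.Hom.comp_apply]; exact hy, rfl⟩
  exact IsFinite.of_isProper_of_locallyQuasiFinite ft.left

end AVIndexLib

end
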